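import Cfsg.Agent.Lib.RecogThree.M12.Model
import Cfsg.Agent.Lib.Golay.Simple
import Cfsg.Prelude.Def_Sporadic

/-!
A simple group of order `95040` is isomorphic to `M₁₂`.
-/

set_option autoImplicit false
set_option linter.style.haveILetI false

namespace Cfsg.Agent.Lib.RecogThree.M12.Unique

open Cfsg.Agent.Lib.Golay
open scoped Pointwise

universe u

theorem equiv_M12 {G : Type u} [Group G] [Finite G] [IsSimpleGroup G] (h : Nat.card G = 95040) :
    Nonempty (G ≃* ↥Cfsg.Spor.M12) := by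
  haveI : Fact (Nat.Prime 11) := ⟨by norm_num⟩
  haveI := isSimple_spor_M12
  exact Model.unique h card_spor_M12

theorem equiv_stabilizer {G : Type u} [Group G] [Finite G] [IsSimpleGroup G]
    (h : Nat.card G = 95040) {d : Finset Cfsg.GolayPt} (hd : d ∈ Cfsg.dodecads) :
    Nonempty (G ≃* ↥(MulAction.stabilizer Cfsg.M24 d)) := by
  haveI : Fact (Nat.Prime 11) := ⟨by norm_num⟩
  set K := MulAction.stabilizer Cfsg.M24 d with hK
  have hmap : K.map (Cfsg.M24.subtype) = dodecadStab d := by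
    ext g
    rw [Subgroup.mem_map, mem_dodecadStab]
    constructor
    · rintro ⟨⟨g', hg'⟩, hm, rfl⟩
      exact ⟨hg', MulAction.mem_stabilizer_iff.mp hm⟩
    · rintro ⟨h1, h2⟩
      exact ⟨⟨g, h1⟩, MulAction.mem_stabilizer_iff.mpr h2, rfl⟩
  haveI := isSimple_dodecadStab hd
  obtain ⟨e⟩ := Model.unique h (card_dodecadStab hd)
  exact ⟨e.trans ((MulEquiv.subgroupCongr hmap).symm.trans
    (K.equivMapOfInjective _ Cfsg.M24.subtype_injective).symm)⟩

end Cfsg.Agent.Lib.RecogThree.M12.Unique
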