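import Cfsg.Agent.Lib.RecogThree.M11.Rep
import Cfsg.Agent.Lib.RecogThree.M12.SymSquare
import Cfsg.Agent.Lib.Classif.FirstPowerKills
import Cfsg.Agent.Lib.Classif.SmallOrderKills2
import Cfsg.Agent.Lib.Characters.Indicator
import Cfsg.Agent.Lib.Induced.Integral
import Cfsg.Agent.Lib.BC78.PowChar

/-!
Character tools used for the simple groups of order `95040`.
-/

set_option autoImplicit false
set_option linter.style.haveILetI false
set_option linter.unusedSectionVars false

namespace Cfsg.Agent.Lib.RecogThree.M12.Basic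

open Cfsg.Agent.Lib.Characters Cfsg.Agent.Lib.Characters.Basic
open Cfsg.Agent.Lib.Classif
open Cfsg.Agent.Lib.Classif.PrimeExceptional (deg apply_one_eq)
open Cfsg.Agent.Lib.RecogThree.M11 (Rep.avg Rep.avg_idem Rep.trace_idem Rep.trace_mul_avg
  Rep.rho_pow_mul_avg)
open scoped ComplexConjugate
open Finset

universe u

variable {G : Type u} [Group G] [Finite G]

theorem deg_nonneg (χ : Cfsg.IrrCharacter G) : 0 ≤ deg χ := Int.natCast_nonneg _

theorem rep_deg (χ : Cfsg.IrrCharacter G) {n : ℕ} {ρ : Representation ℂ G (Fin n → ℂ)}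
    (h : ρ.character = (χ : G → ℂ)) : (n : ℤ) = deg χ := by
  have h1 := apply_one_eq χ
  rw [← h, Representation.char_one, Module.finrank_fin_fun] at h1
  exact_mod_cast h1

/-- In a simple group a non-trivial element is not represented by a scalar. -/
theorem norm_lt [IsSimpleGroup G] (hG : ¬ IsMulCommutative G) (χ : Cfsg.IrrCharacter G)
    (hχ : χ ≠ oneChar G) {g : G} (hg : g ≠ 1) : ‖(χ : G → ℂ) g‖ < (deg χ : ℝ) := by
  obtain ⟨n, ρ, -, hρ⟩ := exists_rep χ
  have hd : (Module.finrank ℂ (Fin n → ℂ) : ℝ) = (deg χ : ℝ) := by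
    rw [Module.finrank_fin_fun]
    exact_mod_cast rep_deg χ hρ
  rw [← hd]
  refine lt_of_le_of_ne (by
    rw [← hρ]; exact Induced.Integral.norm_character_le ρ g) fun he => ?_
  rw [← hρ] at he
  obtain ⟨c, hc⟩ := Induced.Integral.scalar_of_norm_character_eq ρ he
  have hcomm : ∀ h : G, h * g * h⁻¹ * g⁻¹ = 1 := by
    intro h
    by_contra hne
    refine FirstPowerKills.apply_ne_deg hG χ hχ hne ?_
    have h1 : ρ (h * g * h⁻¹ * g⁻¹) = 1 := by
      have e : ∀ w, ρ h (ρ g w) = ρ g (ρ h w) := fun w => by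
        rw [hc]; simp [map_smul]
      have : ρ (h * g * h⁻¹) = ρ g := by
        refine LinearMap.ext fun w => ?_
        rw [map_mul, map_mul, Module.End.mul_apply, Module.End.mul_apply, e,
          ← Module.End.mul_apply (ρ h), ← map_mul, mul_inv_cancel, map_one, Module.End.one_apply]
      rw [map_mul, this, ← map_mul, mul_inv_cancel, map_one]
    rw [← hρ, Representation.character, h1, LinearMap.trace_one, Module.finrank_fin_fun]
    exact_mod_cast rep_deg χ hρ
  have hz : g ∈ Subgroup.center G := Subgroup.mem_center_iff.mpr fun h => by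
    exact mul_inv_eq_iff_eq_mul.mp (mul_inv_eq_one.mp (hcomm h))
  rcases (Subgroup.instNormalCenter (G := G)).eq_bot_or_eq_top with h | h
  · rw [h] at hz; exact hg (Subgroup.mem_bot.mp hz)
  · exact hG (isMulCommutative_iff.mpr fun a b =>
      (Subgroup.mem_center_iff.mp (h ▸ Subgroup.mem_top b) a))

theorem abs_lt [IsSimpleGroup G] (hG : ¬ IsMulCommutative G) (χ : Cfsg.IrrCharacter G)
    (hχ : χ ≠ oneChar G) {g : G} (hg : g ≠ 1) {v : ℤ} (hv : (χ : G → ℂ) g = v) :
    |v| < deg χ := by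
  have h := norm_lt hG χ hχ hg
  rw [hv, Complex.norm_intCast] at h
  exact_mod_cast h

/-- The degree divides the class length times an integral value. -/
theorem deg_dvd_index_mul (χ : Cfsg.IrrCharacter G) {g : G} {v : ℤ} (hv : (χ : G → ℂ) g = v) :
    deg χ ∣ ((Subgroup.centralizer ({g} : Set G)).index : ℤ) * v := by
  obtain ⟨n, ρ, hirr, hρ⟩ := exists_rep χ
  haveI := hirr
  have h := Induced.Integral.isIntegral_centralCharacter ρ g
  rw [hρ, hv, Module.finrank_fin_fun] at h
  have hn := rep_deg χ hρ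
  rw [← hn]
  refine FirstPowerData.int_dvd_of_isIntegral ?_ (by push_cast; exact h)
  intro h0
  have := exists_degree_pos χ
  obtain ⟨m, hm, hm1⟩ := this
  rw [apply_one_eq, ← hn, h0] at hm1
  have : m = 0 := by exact_mod_cast hm1.symm
  omega

/-- An involution: integral value, congruence modulo four, strict bound, divisibility. -/
theorem involution [IsSimpleGroup G] (hG : ¬ IsMulCommutative G) (χ : Cfsg.IrrCharacter G)
    (hχ : χ ≠ oneChar G) {z : G} (hz : orderOf z = 2) :
    ∃ v : ℤ, (χ : G → ℂ) z = v ∧ (4 : ℤ) ∣ deg χ - v ∧ |v| < deg χ ∧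
      deg χ ∣ ((Subgroup.centralizer ({z} : Set G)).index : ℤ) * v := by
  obtain ⟨v, hv, h4, -⟩ := FirstPowerData.exists_int_mod_four
    (SmallGroups.Sylow.commutator_eq_top hG) χ
    (show z * z = 1 by rw [← pow_two, ← hz, pow_orderOf_eq_one])
  exact ⟨v, hv, h4, abs_lt hG χ hχ (fun e => by rw [e, orderOf_one] at hz; omega) hv,
    deg_dvd_index_mul χ hv⟩

/-- The conjugate of a character by a coprime power map. -/
theorem exists_pow_char (χ : Cfsg.IrrCharacter G) {k : ℕ} (hk : k.Coprime (Nat.card G)) :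
    ∃ χ' : Cfsg.IrrCharacter G, ∀ g, (χ' : G → ℂ) g = (χ : G → ℂ) (g ^ k) := by
  haveI := Fintype.ofFinite G
  exact ⟨⟨_, BC78.PowChar.isIrrCharacter_pow χ.2 hk⟩, fun _ => rfl⟩

/-- The values on a coset of a group of order `p`, seen on its fixed space. -/
theorem exists_range_eigen {p : ℕ} (hp : p ≠ 0) (χ : Cfsg.IrrCharacter G) {y g : G}
    (hy : y ^ p = 1) (hc : Commute g y) {a : ℂ}
    (ha : ∀ i j : ℕ, 0 < i → i < p → (χ : G → ℂ) (g ^ j * y ^ i) = a) :
    ∃ (m : ℕ) (ζ : Fin m → ℂ), (p : ℂ) * m = (deg χ : ℂ) + ((p : ℂ) - 1) * a ∧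
      (∀ i, ζ i ^ orderOf g = 1) ∧
      ∀ j : ℕ, (p : ℂ) * ∑ i, ζ i ^ j = (χ : G → ℂ) (g ^ j) + ((p : ℂ) - 1) * a := by
  classical
  obtain ⟨n, ρ, -, hρ⟩ := exists_rep χ
  set E := Rep.avg ρ y p with hE
  have hEE : E * E = E := Rep.avg_idem ρ hp hy
  set W := LinearMap.range E
  have hsum : ∀ j : ℕ, (p : ℂ) * LinearMap.trace ℂ _ (ρ (g ^ j) * E) =
      (χ : G → ℂ) (g ^ j) + ((p : ℂ) - 1) * a := by
    intro j
    rw [hE, Rep.trace_mul_avg, hρ, ← mul_assoc, mul_inv_cancel₀ (Nat.cast_ne_zero.mpr hp), one_mul]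
    obtain ⟨q, rfl⟩ : ∃ q, p = q + 1 := ⟨p - 1, by omega⟩
    rw [sum_range_succ', pow_zero, mul_one, add_comm,
      sum_congr rfl fun i hi => ha (i + 1) j (Nat.succ_pos i) (by
        have := mem_range.mp hi; omega),
      sum_const, card_range, nsmul_eq_mul]
    push_cast
    ring
  have hm : (p : ℂ) * (Module.finrank ℂ W : ℂ) = (deg χ : ℂ) + ((p : ℂ) - 1) * a := by
    have h0 := hsum 0
    rw [pow_zero, map_one, one_mul, Rep.trace_idem E hEE, apply_one_eq] at h0
    exact h0
  have hcomm : ρ g * E = E * ρ g := by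
    rw [hE, Rep.avg, mul_smul_comm, smul_mul_assoc, mul_sum, sum_mul]
    congr 1
    refine sum_congr rfl fun i _ => ?_
    rw [← map_mul, ← map_mul, (hc.pow_right i).eq]
  have hW : ∀ w ∈ W, ρ g w ∈ W := by
    rintro _ ⟨w, rfl⟩
    exact ⟨ρ g w, by rw [← Module.End.mul_apply, ← hcomm, Module.End.mul_apply]⟩
  set f := (ρ g).restrict hW with hf
  have hn0 : orderOf g ≠ 0 := (orderOf_pos g).ne'
  have hfn : f ^ orderOf g = 1 := by
    rw [hf, Module.End.pow_restrict]
    refine LinearMap.ext fun w => Subtype.ext ?_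
    rw [LinearMap.coe_restrict_apply, ← map_pow, pow_orderOf_eq_one, map_one]
    rfl
  obtain ⟨ι, hι, b, ζ, hb⟩ := Diag.exists_eigenbasis_of_pow_eq_one f hn0 hfn
  set e := (Fintype.equivFinOfCardEq (Module.finrank_eq_card_basis b).symm).symm
  refine ⟨Module.finrank ℂ W, ζ ∘ e, hm, fun i => (hb _).2, fun j => ?_⟩
  rw [← hsum j]
  congr 1
  have hmem : ∀ w, (ρ (g ^ j) * E) w ∈ W := fun w => by
    rw [Module.End.mul_apply]
    have : ∀ (i : ℕ) (v : Fin n → ℂ), v ∈ W → ρ (g ^ i) v ∈ W := by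
      intro i
      induction i with
      | zero => intro v hv; simpa using hv
      | succ i ih =>
        intro v hv
        rw [pow_succ, map_mul, Module.End.mul_apply]
        exact ih _ (hW v hv)
    exact this j _ (LinearMap.mem_range_self E w)
  rw [← LinearMap.trace_restrict_eq_of_forall_mem W (ρ (g ^ j) * E) hmem]
  simp only [Function.comp_apply]
  rw [e.sum_comp (fun i => ζ i ^ j)]
  have hres : (ρ (g ^ j) * E).restrict (p := W) (q := W) (fun w _ => hmem w) = f ^ j := by
    rw [hf, Module.End.pow_restrict]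
    refine LinearMap.ext ?_
    rintro ⟨_, w, rfl⟩
    apply Subtype.ext
    rw [LinearMap.coe_restrict_apply, LinearMap.coe_restrict_apply, Module.End.mul_apply,
      ← Module.End.mul_apply E E, hEE, map_pow]
  rw [hres]
  have hev : ∀ (k : ℕ) i, (f ^ k) (b i) = ζ i ^ k • b i := by
    intro k i
    induction k with
    | zero => simp
    | succ k ih =>
      rw [pow_succ, Module.End.mul_apply, (hb i).1, map_smul, ih, smul_smul, pow_succ']
  exact (Diag.trace_eq_sum_eigenvalues b _ _ (hev j)).symm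

/-- The number of representations of an element as a product of two conjugates of `q`. -/
theorem exists_pairs [Fintype (Cfsg.IrrCharacter G)] (q g : G) :
    ∃ m : ℕ, (Nat.card G : ℂ) * ∑ χ : Cfsg.IrrCharacter G,
        (χ : G → ℂ) q ^ 2 * conj ((χ : G → ℂ) g) / (deg χ : ℂ) =
      (Nat.card (Subgroup.centralizer ({q} : Set G)) : ℂ) ^ 2 * m := by
  classical
  haveI := Fintype.ofFinite G
  set C0 := Nat.card (Subgroup.centralizer ({q} : Set G)) with hC0
  set K : Finset G := univ.image fun a => a * q * a⁻¹ with hK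
  have hfib : ∀ v ∈ K, (univ.filter fun a : G => a * q * a⁻¹ = v).card = C0 := by
    intro v hv
    obtain ⟨b, -, rfl⟩ := mem_image.mp hv
    rw [← Fintype.card_subtype, ← Nat.card_eq_fintype_card, hC0]
    refine Nat.card_congr ((Equiv.mulLeft b⁻¹).subtypeEquiv fun a => ?_)
    rw [eq_comm]
    exact FixedSylow.conj_eq_iff
  have hclass : ∀ f : G → ℂ, ∑ a : G, f (a * q * a⁻¹) = (C0 : ℂ) * ∑ v ∈ K, f v := by
    intro f
    rw [← sum_fiberwise_of_maps_to (g := fun a => a * q * a⁻¹)
      (fun a _ => mem_image_of_mem (fun a => a * q * a⁻¹) (mem_univ a)), mul_sum]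
    refine sum_congr rfl fun v hv => ?_
    rw [sum_congr rfl (g := fun _ => f v) fun a ha => by rw [(mem_filter.mp ha).2],
      sum_const, hfib v hv, nsmul_eq_mul]
  -- pairs with product conjugate to `g`
  let F : G → ℂ := fun w => ∑ χ : Cfsg.IrrCharacter G, (χ : G → ℂ) w * conj ((χ : G → ℂ) g)
  have hF : ∀ w, F w = if IsConj w g then
      (Nat.card (Subgroup.centralizer ({g} : Set G)) : ℂ) else 0 := fun w => by
    rw [show F w = _ from Complete.sum_irr_mul_conj w g]
    by_cases h : IsConj w g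
    · rw [if_pos h, if_pos h]
      congr 1
      exact (SmallOrderKills2.card_centralizer_conj h).symm
    · rw [if_neg h, if_neg h]
  set M := ((K ×ˢ K).filter fun vw => vw.1 * vw.2 = g).card with hM
  refine ⟨M, ?_⟩
  have h1 : ∑ a : G, ∑ b : G, F (a * q * a⁻¹ * (b * q * b⁻¹)) =
      (C0 : ℂ) ^ 2 * ∑ v ∈ K, ∑ w ∈ K, F (v * w) := by
    rw [hclass fun v => ∑ b : G, F (v * (b * q * b⁻¹)), pow_two, mul_assoc]
    congr 1
    rw [mul_sum]
    exact sum_congr rfl fun v _ => hclass fun w => F (v * w)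
  have hmemK : ∀ c v, v ∈ K → c * v * c⁻¹ ∈ K := fun c v hv => by
    obtain ⟨b, -, rfl⟩ := mem_image.mp hv
    exact mem_image.mpr ⟨c * b, mem_univ _, by group⟩
  have h2 : ∑ v ∈ K, ∑ w ∈ K, F (v * w) = (Nat.card G : ℂ) * (M : ℂ) := by
    have hconj : ∀ v w : G, F (v * w) =
        ∑ c : G, if c * (v * w) * c⁻¹ = g then (1 : ℂ) else 0 := by
      intro v w
      rw [hF, sum_boole]
      by_cases h : IsConj (v * w) g
      · rw [if_pos h]
        obtain ⟨b, hb⟩ := isConj_iff.mp h
        congr 1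
        rw [← Fintype.card_subtype, ← Nat.card_eq_fintype_card]
        refine Nat.card_congr ((Equiv.mulRight b).subtypeEquiv fun c => ?_)
        simp only [Equiv.coe_mulRight]
        rw [Subgroup.mem_centralizer_singleton_iff, ← hb]
        constructor
        · intro hc
          calc c * b * (v * w) * (c * b)⁻¹ = c * (b * (v * w) * b⁻¹) * c⁻¹ := by group
            _ = b * (v * w) * b⁻¹ * c * c⁻¹ := by rw [hc]
            _ = b * (v * w) * b⁻¹ := mul_inv_cancel_right _ _
        · intro hc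
          calc c * (b * (v * w) * b⁻¹) = c * b * (v * w) * (c * b)⁻¹ * c := by group
            _ = b * (v * w) * b⁻¹ * c := by rw [hc]
      · rw [if_neg h, eq_comm, Nat.cast_eq_zero, card_eq_zero, filter_eq_empty_iff]
        exact fun c _ hc => h (isConj_iff.mpr ⟨c, hc⟩)
    rw [sum_congr rfl fun v _ => sum_congr rfl fun w _ => hconj v w,
      sum_congr rfl fun v _ => sum_comm, sum_comm]
    have hc : ∀ c : G, ∑ v ∈ K, ∑ w ∈ K, (if c * (v * w) * c⁻¹ = g then (1 : ℂ) else 0) =
        (M : ℂ) := by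
      intro c
      rw [hM, ← sum_product', sum_boole]
      congr 1
      refine card_bij' (fun vw _ => (c * vw.1 * c⁻¹, c * vw.2 * c⁻¹))
        (fun vw _ => (c⁻¹ * vw.1 * c, c⁻¹ * vw.2 * c)) ?_ ?_ ?_ ?_
      · intro vw hvw
        obtain ⟨hmem, he⟩ := mem_filter.mp hvw
        refine mem_filter.mpr ⟨mem_product.mpr ⟨hmemK c _ (mem_product.mp hmem).1,
          hmemK c _ (mem_product.mp hmem).2⟩, ?_⟩
        rw [← he]; group
      · intro vw hvw
        obtain ⟨hmem, he⟩ := mem_filter.mp hvw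
        refine mem_filter.mpr ⟨mem_product.mpr ⟨?_, ?_⟩, ?_⟩
        · simpa using hmemK c⁻¹ _ (mem_product.mp hmem).1
        · simpa using hmemK c⁻¹ _ (mem_product.mp hmem).2
        · rw [← he]; group
      · intro vw _; exact Prod.ext (by group) (by group)
      · intro vw _; exact Prod.ext (by group) (by group)
    rw [sum_congr rfl fun c _ => hc c, sum_const, card_univ, nsmul_eq_mul, Nat.card_eq_fintype_card]
  have h3 : ∑ a : G, ∑ b : G, F (a * q * a⁻¹ * (b * q * b⁻¹)) =
      (Nat.card G : ℂ) ^ 2 * ∑ χ : Cfsg.IrrCharacter G,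
        (χ : G → ℂ) q ^ 2 * conj ((χ : G → ℂ) g) / (deg χ : ℂ) := by
    have hb : ∀ (χ : Cfsg.IrrCharacter G) (a : G),
        ∑ b : G, (χ : G → ℂ) (a * q * a⁻¹ * (b * q * b⁻¹)) =
          (Nat.card G : ℂ) * (χ : G → ℂ) q * (χ : G → ℂ) q / (χ : G → ℂ) 1 := fun χ a => by
      rw [H80.ClassMult.sum_apply_mul_conj χ (a * q * a⁻¹) q, isClassFunction_irr χ q a]
    simp only [F]
    rw [sum_congr rfl fun a _ => sum_comm, sum_comm, mul_sum]
    refine sum_congr rfl fun χ _ => ?_
    rw [sum_congr rfl fun a _ => by rw [← sum_mul, hb χ a], sum_const, card_univ, nsmul_eq_mul,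
      ← Nat.card_eq_fintype_card, apply_one_eq]
    ring
  rw [h1, h2] at h3
  have hG0 : (Nat.card G : ℂ) ≠ 0 := Nat.cast_ne_zero.mpr Nat.card_pos.ne'
  apply mul_left_cancel₀ hG0
  linear_combination -h3

/-- The symmetric square of a real character of indicator one, minus the trivial character. -/
theorem exists_sym_decomposition [Fintype G] [Fintype (Cfsg.IrrCharacter G)]
    (χ : Cfsg.IrrCharacter G) (hreal : ∀ g, ((χ : G → ℂ) g).im = 0)
    (hν : (Nat.card G : ℂ)⁻¹ * ∑ s : G, (χ : G → ℂ) (s * s) = 1) :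
    ∃ c : Cfsg.IrrCharacter G → ℕ, c (oneChar G) = 1 ∧ ∀ g : G,
      ((χ : G → ℂ) g ^ 2 + (χ : G → ℂ) (g * g)) / 2 = ∑ ψ, (c ψ : ℂ) * (ψ : G → ℂ) g := by
  classical
  set φ : G → ℂ := fun g => ((χ : G → ℂ) g ^ 2 + (χ : G → ℂ) (g * g)) / 2 with hφ
  have hch : Cfsg.IsCharacter G φ := SymSquare.isCharacter_symSquare (isCharacter_irr χ)
  have hex : ∀ ψ : Cfsg.IrrCharacter G, ∃ n : ℕ, Cfsg.classInner φ ψ = n := fun ψ =>
    exists_classInner_nat hch (isCharacter_irr ψ)
  choose c hc using hex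
  refine ⟨c, ?_, fun g => ?_⟩
  · have h1 := hc (oneChar G)
    have hsq : Cfsg.classInner (χ : G → ℂ) χ = 1 := classInner_self_irr χ
    rw [Cfsg.classInner] at h1 hsq
    have hcast : ((c (oneChar G) : ℕ) : ℂ) = 1 := by
      rw [← h1, sum_congr rfl fun g _ => by rw [oneChar_apply, map_one, mul_one]]
      simp only [hφ]
      rw [← sum_div, sum_add_distrib, ← mul_div_assoc, mul_add, hν,
        sum_congr rfl fun g _ => show (χ : G → ℂ) g ^ 2 = (χ : G → ℂ) g * conj ((χ : G → ℂ) g) by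
          rw [Complex.conj_eq_iff_im.mpr (hreal g), pow_two],
        hsq]
      norm_num
    exact_mod_cast hcast
  · show φ g = _
    conv_lhs => rw [character_eq_finsum hch]
    rw [finsum_eq_sum_of_fintype, Finset.sum_apply]
    exact sum_congr rfl fun ψ _ => by rw [Pi.smul_apply, smul_eq_mul, hc ψ]

end Cfsg.Agent.Lib.RecogThree.M12.Basic
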