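import Cfsg.Agent.Lib.RecogThree.M12.Data5

/-!
Simple groups of order `95040`: an involution centralising `y` and the budgets at it.
-/

set_option autoImplicit false
set_option linter.style.haveILetI false
set_option linter.unusedSectionVars false

namespace Cfsg.Agent.Lib.RecogThree.M12.Budget

open Cfsg.Agent.Lib.Characters Cfsg.Agent.Lib.Characters.Basic
open Cfsg.Agent.Lib.Classif
open Cfsg.Agent.Lib.Classif.PrimeExceptional (deg apply_one_eq)
open Cfsg.Agent.Lib.RecogThree.M12.Combos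
open Cfsg.Agent.Lib.RecogThree.M12.Eleven (Base)
open Cfsg.Agent.Lib.RecogThree.M12.Data5 (Four Five)
open scoped ComplexConjugate
open Finset

universe u

variable {G : Type u} [Group G] [Finite G]

/-- Integral values: the squares sum to at most the order of the centraliser. -/
theorem sum_sq_le [Fintype (Cfsg.IrrCharacter G)] (S : Finset (Cfsg.IrrCharacter G)) {g : G}
    (z : Cfsg.IrrCharacter G → ℤ) (hz : ∀ χ ∈ S, (χ : G → ℂ) g = z χ) :
    ∑ χ ∈ S, z χ ^ 2 ≤ (Nat.card (Subgroup.centralizer ({g} : Set G)) : ℤ) := by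
  classical
  have h := Complete.sum_irr_mul_conj g g
  rw [if_pos (IsConj.refl g)] at h
  have hre : ∑ χ : Cfsg.IrrCharacter G, Complex.normSq ((χ : G → ℂ) g) =
      (Nat.card (Subgroup.centralizer ({g} : Set G)) : ℝ) := by
    have h' := congrArg Complex.re h
    rw [Complex.re_sum, Complex.natCast_re] at h'
    rw [← h']
    exact sum_congr rfl fun χ _ => by rw [Complex.mul_conj, Complex.ofReal_re]
  have hle : ∑ χ ∈ S, Complex.normSq ((χ : G → ℂ) g) ≤
      (Nat.card (Subgroup.centralizer ({g} : Set G)) : ℝ) :=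
    hre ▸ sum_le_sum_of_subset_of_nonneg (subset_univ _) fun χ _ _ => Complex.normSq_nonneg _
  rw [sum_congr rfl fun (χ : Cfsg.IrrCharacter G) hχ => show Complex.normSq ((χ : G → ℂ) g) = ((z χ ^ 2 : ℤ) : ℝ) by
    rw [hz χ hχ, ← Complex.ofReal_intCast, Complex.normSq_ofReal]; push_cast; ring] at hle
  exact_mod_cast hle

variable [IsSimpleGroup G] [Fact (Nat.Prime 11)] (B : Base G)

theorem card_centralizer_one :
    Nat.card (Subgroup.centralizer ({(1 : G)} : Set G)) = Nat.card G := by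
  have : Subgroup.centralizer ({(1 : G)} : Set G) = ⊤ := by
    rw [eq_top_iff]
    intro g _
    rw [Subgroup.mem_centralizer_singleton_iff, one_mul, mul_one]
  rw [this, Subgroup.card_top]

/-- An involution of `C(y)` central in a Sylow `2`-subgroup of the normaliser of `⟨y⟩`. -/
theorem exists_involution (W : Five B) {a m : ℕ} (hc : 20 * W.c = 2 ^ a * m) (hm : ¬ 2 ∣ m)
    (ha : 3 ≤ a) :
    ∃ q : G, orderOf q = 2 ∧ Commute q B.y ∧
      5 * 2 ^ a ∣ Nat.card (Subgroup.centralizer ({q} : Set G)) := by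
  classical
  haveI : Fact (Nat.Prime 2) := ⟨Nat.prime_two⟩
  set N := Subgroup.normalizer ((Subgroup.zpowers B.y : Subgroup G) : Set G) with hNdef
  set C := Subgroup.centralizer ({B.y} : Set G) with hCdef
  obtain ⟨S⟩ := (inferInstance : Nonempty (Sylow 2 N))
  have hScard : Nat.card (S : Subgroup N) = 2 ^ a :=
    SmallGroups.Sylow.card_sylow_eq S (a := a) (m := m) (by rw [W.card_N, hc]) hm
  set T := (S : Subgroup N).map N.subtype with hTdef
  have hTcard : Nat.card T = 2 ^ a := by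
    rw [hTdef, Subgroup.card_map_of_injective (Subgroup.subtype_injective _), hScard]
  have hTN : T ≤ N := by rintro _ ⟨b, -, rfl⟩; exact b.2
  have hCN : C ≤ N := by
    rw [hCdef, ← Subgroup.centralizer_closure, ← Subgroup.zpowers_eq_closure]
    exact Subgroup.centralizer_le_normalizer _
  haveI : (C.subgroupOf T).Normal := ⟨fun k hk t => by
    rw [Subgroup.mem_subgroupOf] at hk ⊢
    exact Normal5.conj_mem_centralizer B (hTN t.2) hk⟩
  set K := C.subgroupOf T with hKdef
  have hTp : IsPGroup 2 T := IsPGroup.of_card hTcard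
  have hK1 : K ≠ ⊥ := by
    intro hbot
    have hdisj : Disjoint T C := by
      rw [Subgroup.disjoint_def]
      intro g hgT hgC
      have : (⟨g, hgT⟩ : T) ∈ K := hgC
      rw [hbot, Subgroup.mem_bot] at this
      exact congrArg Subtype.val this
    have h := Nat.card_le_card_of_injective
      (fun p : T × C => (⟨(p.1 : G) * p.2, mul_mem (hTN p.1.2) (hCN p.2.2)⟩ : N))
      fun p q e => Subgroup.mul_injective_of_disjoint hdisj (congrArg Subtype.val e)
    rw [Nat.card_prod, hTcard, W.card_C, W.card_N] at h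
    have h8 : 2 ^ 3 ≤ 2 ^ a := Nat.pow_le_pow_right (by norm_num) ha
    have hpos : 0 < W.c := by rcases W.hc with e | e | e | e <;> omega
    nlinarith
  have h2K : 2 ∣ Nat.card K := by
    obtain ⟨n, hn⟩ := (hTp.to_subgroup K).exists_card_eq
    rcases n with _ | n
    · exact absurd (Subgroup.card_eq_one.mp (by rw [hn, pow_zero])) hK1
    · exact ⟨2 ^ n, by rw [hn, pow_succ']⟩
  have hKp : IsPGroup 2 (ConjAct T) := hTp.of_equiv ConjAct.toConjAct
  obtain ⟨k, hk, hk1⟩ := hKp.exists_fixed_point_of_prime_dvd_card_of_fixed_point K h2K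
    (a := (1 : K)) (fun g => smul_one g)
  have hcent : ∀ t ∈ T, Commute ((k : T) : G) t := by
    intro t ht
    have h := congrArg (fun z : K => ((z : T) : G)) (hk (ConjAct.toConjAct ⟨t, ht⟩))
    simp only [ConjAct.Subgroup.val_conj_smul, ConjAct.toConjAct_smul] at h
    exact (mul_inv_eq_iff_eq_mul.mp h).symm
  have hk1' : ((k : T) : G) ≠ 1 := fun e => hk1 (Subtype.ext (Subtype.ext e.symm))
  obtain ⟨n, hn⟩ : ∃ n, orderOf ((k : T) : G) = 2 ^ n := by
    obtain ⟨n, -, hn⟩ := (Nat.dvd_prime_pow Nat.prime_two).mp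
      (hTcard ▸ Subgroup.orderOf_dvd_natCard T (k : T).2)
    exact ⟨n, hn⟩
  rcases n with _ | n
  · rw [pow_zero, orderOf_eq_one_iff] at hn
    exact absurd hn hk1'
  set q := ((k : T) : G) ^ 2 ^ n with hqdef
  have hq : orderOf q = 2 := by
    rw [hqdef, orderOf_pow' _ (by positivity), hn, pow_succ, Nat.gcd_mul_right_left,
      Nat.mul_div_cancel_left _ (by positivity)]
  have hky : Commute ((k : T) : G) B.y := Subgroup.mem_centralizer_singleton_iff.mp k.2
  refine ⟨q, hq, hky.pow_left _, ?_⟩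
  refine Nat.Coprime.mul_dvd_of_dvd_of_dvd ((Nat.Coprime.pow_right a) (by norm_num)) ?_ ?_
  · exact B.hy ▸ Subgroup.orderOf_dvd_natCard _
      (Subgroup.mem_centralizer_singleton_iff.mpr (hky.pow_left _).eq.symm)
  · rw [← hTcard]
    exact Subgroup.card_dvd_of_le fun t ht =>
      Subgroup.mem_centralizer_singleton_iff.mpr ((hcent t ht).pow_left _).eq.symm

include B in
/-- The integral value of a non-trivial character at an involution. -/
theorem exists_z {q : G} (hq : orderOf q = 2) :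
    ∃ z : Cfsg.IrrCharacter G → ℤ, ∀ χ : Cfsg.IrrCharacter G, (χ : G → ℂ) q = z χ ∧
      (4 : ℤ) ∣ deg χ - z χ ∧ (χ ≠ oneChar G → |z χ| < deg χ) ∧
      deg χ ∣ ((Subgroup.centralizer ({q} : Set G)).index : ℤ) * z χ := by
  classical
  have hex : ∀ χ : Cfsg.IrrCharacter G, ∃ z : ℤ, (χ : G → ℂ) q = z ∧
      (4 : ℤ) ∣ deg χ - z ∧ (χ ≠ oneChar G → |z| < deg χ) ∧
      deg χ ∣ ((Subgroup.centralizer ({q} : Set G)).index : ℤ) * z := fun χ => by
    obtain ⟨v, hv, h4, -⟩ := FirstPowerData.exists_int_mod_four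
      (SmallGroups.Sylow.commutator_eq_top B.not_isComm) χ
      (show q * q = 1 by rw [← pow_two, ← hq, pow_orderOf_eq_one])
    exact ⟨v, hv, h4, fun h1 => M12.Basic.abs_lt B.not_isComm χ h1
      (fun e => by rw [e, orderOf_one] at hq; omega) hv, M12.Basic.deg_dvd_index_mul χ hv⟩
  choose z hz using hex
  exact ⟨z, hz⟩

/-- The congruence at a point of `C(y)` for a member of the family at five. -/
theorem four_cong (Φ : Four B) {χ : Cfsg.IrrCharacter G} (hχ : χ ∈ Φ.F) {v : G}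
    (hv : v ∈ Φ.V) : IsIntegral ℤ (((χ : G → ℂ) v - (Φ.b χ : ℂ)) / (5 : ℕ)) := by
  obtain ⟨hvC, hv5⟩ := (Φ.mem_V v).mp hv
  have hy5 : B.y ^ 5 = 1 := B.hy ▸ pow_orderOf_eq_one B.y
  have hc : Commute B.y v :=
    (Subgroup.mem_centralizer_singleton_iff.mp hvC : Commute v B.y).symm
  have h := FirstPowerData.isIntegral_avg (by norm_num : Nat.Prime 5) χ hy5 hv5 hc
  rw [sum_range_succ', pow_zero, one_mul, sum_congr rfl fun i hi => Φ.value χ hχ _
    (Subgroup.npow_mem_zpowers B.y (i + 1)) (pow_ne_one_of_lt_orderOf (Nat.succ_ne_zero i)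
      (by rw [B.hy]; have := mem_range.mp hi; omega)) v hv,
    sum_const, card_range, nsmul_eq_mul] at h
  have h' := h.sub (isIntegral_algebraMap (R := ℤ) (A := ℂ) (x := Φ.b χ))
  rw [eq_intCast] at h'
  rw [show ((χ : G → ℂ) v - (Φ.b χ : ℂ)) / ((5 : ℕ) : ℂ) =
    ((4 : ℕ) * (Φ.b χ : ℂ) + (χ : G → ℂ) v) / ((5 : ℕ) : ℂ) - (Φ.b χ : ℂ) by push_cast; ring]
  exact h'

/-- The sum over `V` of a character outside the family at five is divisible by five. -/
theorem others_cong (Φ : Four B) {χ : Cfsg.IrrCharacter G} (h1 : χ ≠ oneChar G)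
    (hχ : χ ∉ Φ.F) : IsIntegral ℤ ((∑ᶠ v : Φ.V, (χ : G → ℂ) v) / (5 : ℕ)) := by
  classical
  haveI := Fintype.ofFinite Φ.V
  have hy5 : B.y ^ 5 = 1 := B.hy ▸ pow_orderOf_eq_one B.y
  have h := IsIntegral.sum (R := ℤ) (s := (univ : Finset Φ.V))
    (f := fun v : Φ.V => (∑ i ∈ range 5, (χ : G → ℂ) (B.y ^ i * v)) / ((5 : ℕ) : ℂ))
    fun v _ => by
      obtain ⟨hvC, hv5⟩ := (Φ.mem_V v).mp v.2
      exact FirstPowerData.isIntegral_avg (by norm_num : Nat.Prime 5) χ hy5 hv5
        (Subgroup.mem_centralizer_singleton_iff.mp hvC : Commute (v : G) B.y).symm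
  rw [← sum_div, sum_comm, sum_range_succ'] at h
  have hz : ∀ i ∈ range 4, ∑ v : Φ.V, (χ : G → ℂ) (B.y ^ (i + 1) * v) = 0 := fun i hi => by
    rw [← finsum_eq_sum_of_fintype]
    exact Φ.others χ h1 hχ _ (Subgroup.npow_mem_zpowers B.y (i + 1))
      (pow_ne_one_of_lt_orderOf (Nat.succ_ne_zero i) (by
        rw [B.hy]; have := mem_range.mp hi; omega))
  rw [sum_congr rfl hz, sum_const_zero, zero_add] at h
  simp only [pow_zero, one_mul] at h
  rw [finsum_eq_sum_of_fintype]
  exact h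

theorem V_card (W : Five B) : Nat.card W.four.V ∣ W.c ∧ ∀ k, k ∣ W.c →
    ∀ p, p.Prime → (∃ n, k = p ^ n) → k ∣ Nat.card W.four.V := by
  classical
  set V := W.four.V
  set C := Subgroup.centralizer ({B.y} : Set G)
  haveI : Fact (Nat.Prime 5) := ⟨by norm_num⟩
  have hVC : V ≤ C := fun v hv => ((W.four.mem_V v).mp hv).1
  have h5 : ¬ 5 ∣ Nat.card V := fun hd => by
    obtain ⟨⟨v, hv⟩, hvo⟩ := exists_prime_orderOf_dvd_card' (G := V) 5 hd
    rw [Subgroup.orderOf_mk] at hvo
    exact ((W.four.mem_V v).mp hv).2 (by rw [hvo])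
  have hd : Nat.card V ∣ 5 * W.c := W.card_C ▸ Subgroup.card_dvd_of_le hVC
  refine ⟨(((Nat.Prime.coprime_iff_not_dvd (by norm_num)).mpr h5).symm).dvd_of_dvd_mul_left hd, ?_⟩
  rintro k hk p hp ⟨n, rfl⟩
  haveI : Fact p.Prime := ⟨hp⟩
  obtain ⟨Q, hQ⟩ := Sylow.exists_subgroup_card_pow_prime p (n := n) (G := C)
    (by rw [W.card_C]; exact hk.mul_left 5)
  rw [← hQ, Nat.card_congr
    (Subgroup.equivMapOfInjective Q C.subtype (Subgroup.subtype_injective C)).toEquiv]
  refine Subgroup.card_dvd_of_le ?_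
  rintro _ ⟨⟨a, ha⟩, haQ, rfl⟩
  refine (W.four.mem_V a).mpr ⟨ha, fun h5a => ?_⟩
  have := Subgroup.orderOf_dvd_natCard Q haQ
  rw [Subgroup.orderOf_mk, hQ] at this
  have h5n := h5a.trans this
  rcases n with _ | n
  · norm_num at h5n
  have hp5 : p = 5 := ((Nat.prime_dvd_prime_iff_eq (by norm_num) hp).mp
    ((Nat.Prime.prime (by norm_num : Nat.Prime 5)).dvd_of_dvd_pow h5n)).symm
  subst hp5
  rcases W.hc with e | e | e | e <;> rw [e] at hk <;>
    have := (dvd_pow_self 5 (Nat.succ_ne_zero n)).trans hk <;> norm_num at this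

end Cfsg.Agent.Lib.RecogThree.M12.Budget
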