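import Cfsg.Agent.Lib.RecogThree.M12.Budget

/-!
Simple groups of order `95040`: the values at an involution centralising `y`.
-/

set_option autoImplicit false
set_option linter.style.haveILetI false
set_option linter.unusedSectionVars false

namespace Cfsg.Agent.Lib.RecogThree.M12.Central

open Cfsg.Agent.Lib.Characters Cfsg.Agent.Lib.Characters.Basic
open Cfsg.Agent.Lib.Classif
open Cfsg.Agent.Lib.Classif.FirstPowerData (int_dvd_of_isIntegral)
open Cfsg.Agent.Lib.Classif.PrimeExceptional (deg apply_one_eq)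
open Cfsg.Agent.Lib.RecogThree.M12.Combos
open Cfsg.Agent.Lib.RecogThree.M12.Eleven (Base)
open Cfsg.Agent.Lib.RecogThree.M12.Data5 (Four Five)
open scoped ComplexConjugate
open Finset

universe u

/-- The index of the centraliser, the remaining budget and the possible signed pairs. -/
def info : Fin 3 → ℕ × ℤ × List (ℤ × ℤ) :=
  ![(792, 10, [(-9, 1)]), (396, 130, [(-9, 1), (-4, -4), (1, -9), (6, 6), (16, -4)]),
    (66, 186, [(-4, -4), (1, -9), (6, 6)])]

set_option synthInstance.maxSize 2000 in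
set_option synthInstance.maxHeartbeats 200000 in
theorem pair_mem_aux : ∀ i : Fin 3, ∀ k : Fin 43, ∀ w : Fin 27,
    (5 : ℤ) ∣ ((k : ℤ) - 21) - 1 → (5 : ℤ) ∣ ((w : ℤ) - 13) - 1 →
    ((w : ℤ) - 13).natAbs < 11 * ((k : ℤ) - 21).natAbs → (4 : ℤ) ∣ 11 * ((k : ℤ) - 21) - ((w : ℤ) - 13) →
    11 * ((k : ℤ) - 21).natAbs ∣ (info i).1 * ((w : ℤ) - 13).natAbs →
    11 * ((k : ℤ) - 21).natAbs ∣ 95040 → ((w : ℤ) - 13) ^ 2 ≤ (info i).2.1 →
    ((k : ℤ) - 21, (w : ℤ) - 13) ∈ (info i).2.2 := by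
  decide +kernel

theorem pair_mem (i : Fin 3) {k w : ℤ} (hk : k ^ 2 ≤ 450) (h1 : (5 : ℤ) ∣ k - 1)
    (h2 : (5 : ℤ) ∣ w - 1) (h3 : w.natAbs < 11 * k.natAbs) (h4 : (4 : ℤ) ∣ 11 * k - w)
    (h5 : 11 * k.natAbs ∣ (info i).1 * w.natAbs) (h6 : 11 * k.natAbs ∣ 95040)
    (h7 : w ^ 2 ≤ (info i).2.1) : (k, w) ∈ (info i).2.2 := by
  have hrem : (info i).2.1 ≤ 186 := by fin_cases i <;> decide
  have hkb : -21 ≤ k ∧ k ≤ 21 := by constructor <;> nlinarith
  have hw : -13 ≤ w ∧ w ≤ 13 := by constructor <;> nlinarith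
  obtain ⟨a, ha⟩ : ∃ a : Fin 43, (a : ℤ) - 21 = k := ⟨⟨(k + 21).toNat, by omega⟩, by simp; omega⟩
  obtain ⟨b, hb⟩ : ∃ b : Fin 27, (b : ℤ) - 13 = w := ⟨⟨(w + 13).toNat, by omega⟩, by simp; omega⟩
  subst ha hb
  exact pair_mem_aux i a b h1 h2 h3 h4 h5 h6 h7

theorem triples : ∀ i : Fin 3, ∀ a ∈ (info i).2.2, ∀ b ∈ (info i).2.2, ∀ c ∈ (info i).2.2,
    a.1 + b.1 + c.1 = 13 → a.2 + b.2 + c.2 = (if i = 2 then 23 else 3) →
    a.2 ^ 2 + b.2 ^ 2 + c.2 ^ 2 ≤ (info i).2.1 → a.1 ^ 2 + b.1 ^ 2 + c.1 ^ 2 ≤ 450 →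
    i = 1 ∧ (∀ t ∈ [((6 : ℤ), (6 : ℤ)), (-9, 1), (16, -4)], t = a ∨ t = b ∨ t = c) := by
  decide +kernel

theorem doubles : ∀ i : Fin 3, i ≠ 2 → ∀ a ∈ (info i).2.2, ∀ b ∈ (info i).2.2,
    a.1 + b.1 = -3 → a.2 + b.2 = 7 →
    a.2 ^ 2 + b.2 ^ 2 ≤ (info i).2.1 → a.1 ^ 2 + b.1 ^ 2 ≤ 450 →
    i = 1 ∧ (∀ t ∈ [((6 : ℤ), (6 : ℤ)), (-9, 1)], t = a ∨ t = b) := by
  decide +kernel

variable {G : Type u} [Group G] [Finite G] [IsSimpleGroup G] [Fact (Nat.Prime 11)] (B : Base G)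

/-- The values at `q`. -/
structure Values (W : Five B) (q : G) : Prop where
  card : Nat.card (Subgroup.centralizer ({q} : Set G)) = 240
  v0 : ((W.ι 0 : Cfsg.IrrCharacter G) : G → ℂ) q = 5
  v1 : ((W.ι 1 : Cfsg.IrrCharacter G) : G → ℂ) q = 6
  v2 : ((W.ι 2 : Cfsg.IrrCharacter G) : G → ℂ) q = 0
  six : ∃ χ ∈ W.four.F, deg χ = 66 ∧ W.four.b χ = 1 ∧ (χ : G → ℂ) q = 6
  nine : ∃ χ ∈ W.four.F, deg χ = 99 ∧ W.four.b χ = -1 ∧ (χ : G → ℂ) q = -1
  case : (((W.ι 3 : Cfsg.IrrCharacter G) ∈ W.four.F ∧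
        ((W.ι 3 : Cfsg.IrrCharacter G) : G → ℂ) q = 4) ∧
      (∀ θ' ∈ B.D.fam, (θ' : G → ℂ) q = 4) ∧
      (∃ χ ∈ W.four.F, deg χ = 176 ∧ W.four.b χ = 1 ∧ (χ : G → ℂ) q = -4) ∧
      ∀ θ' ∈ B.D.fam, θ' ∉ W.four.F) ∨
    ((W.ι 3 : Cfsg.IrrCharacter G) ∉ W.four.F ∧
      ((W.ι 3 : Cfsg.IrrCharacter G) : G → ℂ) q = -4 ∧
      ∀ θ' ∈ B.D.fam, θ' ∈ W.four.F ∧ W.four.b θ' = 1 ∧ (θ' : G → ℂ) q = -4)

theorem deg_facts (W : Five B) : (∀ i, deg (W.ι i : Cfsg.IrrCharacter G) =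
      (![45, 54, 120, 144] : Fin 4 → ℤ) i) ∧ deg B.D.θ = 16 := by
  have key : ∀ i : Fin 4, (((![45, -54, -120, 144] : Fin 4 → ℤ) i).natAbs : ℤ) =
      (![45, 54, 120, 144] : Fin 4 → ℤ) i := by decide
  refine ⟨fun i => ?_, ?_⟩
  · have h := (Local11.deg_of_code B.card B.D (W.ι i).2 (B.hf _ (W.ι i).2)).1
    rw [W.hι i] at h
    exact h.trans (key i)
  · have h2 := B.D.degree_eq
    rw [sum_congr rfl B.hf, ← sum_coe_sort B.D.K (fun χ => code (B.f χ)),
      ← W.ι.sum_comp (fun χ => code (B.f χ)), Fin.sum_univ_four, W.hι 0, W.hι 1, W.hι 2,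
      W.hι 3] at h2
    simp only [Matrix.cons_val] at h2
    have := M12.Basic.deg_nonneg B.D.θ
    rcases B.D.δ_unit with e | e <;> rw [e] at h2 <;> omega

theorem sum_base (W : Five B) (O : Finset (Cfsg.IrrCharacter G))
    (hO : ∀ χ ∈ O, χ ≠ oneChar G ∧ χ ∉ B.D.K ∧ χ ∉ B.D.fam)
    (z : Cfsg.IrrCharacter G → ℤ) {g : G} (hz : ∀ χ : Cfsg.IrrCharacter G, (χ : G → ℂ) g = z χ)
    {t : ℤ} (ht : ∀ θ' ∈ B.D.fam, z θ' = t) :
    1 + (z (W.ι 0) ^ 2 + z (W.ι 1) ^ 2 + z (W.ι 2) ^ 2 + z (W.ι 3) ^ 2) + 2 * t ^ 2 +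
      ∑ χ ∈ O, z χ ^ 2 ≤ (Nat.card (Subgroup.centralizer ({g} : Set G)) : ℤ) := by
  classical
  haveI := Fintype.ofFinite (Cfsg.IrrCharacter G)
  have h1 : z (oneChar G) = 1 := by
    have h := hz (oneChar G)
    rw [oneChar_apply] at h
    exact_mod_cast h.symm
  have hd : Disjoint (B.D.K ∪ B.D.fam) O := disjoint_left.mpr fun χ h hχ => by
    obtain ⟨-, hK, hF⟩ := hO χ hχ
    exact (mem_union.mp h).elim hK hF
  have hn : oneChar G ∉ B.D.K ∪ B.D.fam ∪ O := by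
    simp only [mem_union, not_or]
    exact ⟨⟨B.D.one_not_mem, B.D.fam_one⟩, fun h => (hO _ h).1 rfl⟩
  have h := Budget.sum_sq_le (insert (oneChar G) (B.D.K ∪ B.D.fam ∪ O)) z fun χ _ => hz χ
  rw [sum_insert hn, sum_union hd, sum_union B.D.fam_disj, h1,
    ← sum_coe_sort B.D.K (fun χ => z χ ^ 2), ← W.ι.sum_comp (fun χ => z χ ^ 2), Fin.sum_univ_four,
    sum_congr rfl fun θ' hθ' => by rw [ht θ' hθ'], sum_const, B.fam_card] at h
  rw [nsmul_eq_mul] at h
  push_cast at h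
  linarith

set_option maxHeartbeats 3200000 in
theorem values (W : Five B) {q : G} (hq : orderOf q = 2) (hqy : Commute q B.y) :
    Values B W q ∧ (5 : ℕ) ∣ Nat.card (Subgroup.centralizer ({q} : Set G)) := by
  classical
  haveI : Fintype (Cfsg.IrrCharacter G) := Fintype.ofFinite _
  have h5C : 5 ∣ Nat.card (Subgroup.centralizer ({q} : Set G)) :=
    B.hy ▸ Subgroup.orderOf_dvd_natCard _ (Subgroup.mem_centralizer_singleton_iff.mpr hqy.eq.symm)
  refine ⟨?_, h5C⟩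
  obtain ⟨C, v₀, v₁, v₂, v₃, t, hmem, hC, hv0, hv1, hv2, hv3, hvt⟩ :=
    B.involution W.ι W.hι (c := ![45, -54, -120, 144]) (T := 16) (by decide) (by norm_num) hq
  obtain ⟨z, hz⟩ := Budget.exists_z B hq
  have hqV : q ∈ W.four.V := (W.four.mem_V q).mpr
    ⟨Subgroup.mem_centralizer_singleton_iff.mpr hqy.eq, by rw [hq]; norm_num⟩
  have hz1 : ∀ χ : Cfsg.IrrCharacter G, ∀ v : ℤ, (χ : G → ℂ) q = v → z χ = v := fun χ v h => by
    rw [(hz χ).1] at h; exact_mod_cast h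
  have hz0 := hz1 _ _ hv0
  have hz11 := hz1 _ _ hv1
  have hz2 := hz1 _ _ hv2
  have hz3 := hz1 _ _ hv3
  have hzt : ∀ θ' ∈ B.D.fam, z θ' = t := fun θ' h => hz1 _ _ (hvt θ' h)
  obtain ⟨hdK, hdθ⟩ := deg_facts B W
  have hdθ' : ∀ θ' ∈ B.D.fam, deg θ' = 16 := fun θ' h => (B.D.fam_deg θ' h).trans hdθ
  have hcong : ∀ χ ∈ W.four.F, (5 : ℤ) ∣ z χ - W.four.b χ := fun χ hχ => by
    refine int_dvd_of_isIntegral (n := 5) (by norm_num) ?_
    have h := Budget.four_cong B W.four hχ hqV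
    rw [(hz χ).1] at h
    push_cast at h ⊢
    exact h
  have hrel := W.four.rel q (by rw [hq]; norm_num)
  have hrelz : 1 + ∑ χ ∈ W.four.F, W.four.b χ * z χ = 0 := by
    rw [sum_congr rfl fun χ _ => by rw [(hz χ).1]] at hrel
    exact_mod_cast hrel
  have hreld : 1 + ∑ χ ∈ W.four.F, W.four.b χ * deg χ = 0 := by
    have h := W.four.rel 1 (by rw [orderOf_one]; norm_num)
    rw [sum_congr rfl fun χ _ => by rw [apply_one_eq]] at h
    exact_mod_cast h
  -- the possible centralisers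
  rw [solutions_target] at hmem
  simp only [List.mem_cons, List.not_mem_nil, or_false, Prod.mk.injEq, List.cons.injEq,
    and_true] at hmem
  -- the members outside the family at eleven
  have hO : ∀ χ ∈ W.four.F, χ ∉ B.D.K → χ ∉ B.D.fam → ∀ i : Fin 3,
      ((Subgroup.centralizer ({q} : Set G)).index = (info i).1) →
      z χ ^ 2 ≤ (info i).2.1 → deg χ ^ 2 ≤ 54450 →
      ∃ k, W.four.b χ * deg χ = 11 * k ∧
        (k, W.four.b χ * z χ) ∈ (info i).2.2 := by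
    intro χ hχ hK hF i hidx hz2 hd2
    have h1 : χ ≠ oneChar G := fun e => W.four.one_not_mem (e ▸ hχ)
    obtain ⟨j, hj⟩ := B.deg_dvd_of_others h1 hK hF
    refine ⟨W.four.b χ * j, by rw [hj]; ring, ?_⟩
    obtain ⟨-, h4, hlt, hdvd⟩ := hz χ
    have hlt := hlt h1
    rw [hidx] at hdvd
    have hj0 : 0 < j := by
      have := abs_nonneg (z χ)
      omega
    have hdG : (deg χ).natAbs ∣ 95040 := by
      rw [PrimeExceptional.natAbs_deg, ← B.card]
      haveI := Fintype.ofFinite G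
      exact H80.ClassMult.charDegree_dvd_card _
    have hc := W.four.cong χ hχ
    have hc' := hcong χ hχ
    rw [hj] at hlt h4 hdvd hc hd2 hdG
    have hdvd' := Int.natAbs_dvd_natAbs.mpr hdvd
    rw [Int.natAbs_mul, Int.natAbs_mul, Int.natAbs_natCast] at hdvd'
    rw [Int.natAbs_mul] at hdG
    have hab := abs_lt.mp hlt
    rcases W.four.b_unit χ hχ with e | e <;> rw [e] at hc hc' ⊢
    · refine pair_mem i (by nlinarith) (by omega) (by omega) ?_ (by omega) ?_ ?_ ?_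
      · simp only [one_mul]; omega
      · simpa using hdvd'
      · simpa using hdG
      · simpa using hz2
    · refine pair_mem i (by nlinarith) (by omega) (by omega) ?_ (by omega) ?_ ?_ ?_
      · simp only [neg_one_mul, Int.natAbs_neg]; omega
      · simpa using hdvd'
      · simpa using hdG
      · simpa using hz2
  -- a member from its signed data
  have hmember : ∀ χ ∈ W.four.F, ∀ k, W.four.b χ * deg χ = 11 * k →
      (k = 6 → W.four.b χ * z χ = 6 → deg χ = 66 ∧ W.four.b χ = 1 ∧ (χ : G → ℂ) q = 6) ∧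
      (k = -9 → W.four.b χ * z χ = 1 → deg χ = 99 ∧ W.four.b χ = -1 ∧ (χ : G → ℂ) q = -1) ∧
      (k = 16 → W.four.b χ * z χ = -4 → deg χ = 176 ∧ W.four.b χ = 1 ∧ (χ : G → ℂ) q = -4) := by
    intro χ hχ k hk
    have hd := M12.Basic.deg_nonneg χ
    rw [(hz χ).1]
    rcases W.four.b_unit χ hχ with e | e <;> rw [e] at hk ⊢ <;>
      refine ⟨fun h h' => ?_, fun h h' => ?_, fun h h' => ?_⟩ <;> subst h <;>
      first
        | (exfalso; omega)
        | exact ⟨by omega, rfl, by exact_mod_cast (show z χ = _ by omega)⟩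
  have hCeq : (Subgroup.centralizer ({q} : Set G)).index * C = 95040 := by
    rw [← hC, mul_comm, Subgroup.card_mul_index, B.card]
  have hbudget := fun O hO' => sum_base B W O hO' z (fun χ => (hz χ).1) hzt
  have hsquare := fun O hO' => sum_base B W O hO' deg (g := (1 : G))
    (fun χ => apply_one_eq χ) hdθ'
  rw [Budget.card_centralizer_one, B.card] at hsquare
  simp only [hdK, hz0, hz11, hz2, hz3, Matrix.cons_val, Nat.cast_ofNat] at hbudget hsquare
  rcases W.case with ⟨h3, hb3, hK, hfam⟩ | ⟨hK, hfam⟩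
  · -- first case
    set O := W.four.F.erase (W.ι 3 : Cfsg.IrrCharacter G) with hOdef
    have hOK : ∀ χ ∈ O, χ ≠ oneChar G ∧ χ ∉ B.D.K ∧ χ ∉ B.D.fam := fun χ hχ => by
      obtain ⟨hne, hχ⟩ := mem_erase.mp hχ
      refine ⟨fun e => W.four.one_not_mem (e ▸ hχ), fun hm => ?_, fun hm => hfam χ hm hχ⟩
      obtain ⟨i, hi⟩ := W.ι.surjective ⟨χ, hm⟩
      have hi' : χ = (W.ι i : Cfsg.IrrCharacter G) := (congrArg Subtype.val hi).symm
      refine hK i (fun e => hne ?_) (hi' ▸ hχ)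
      rw [hi', e]
    have hB := hbudget O hOK
    have hS := hsquare O hOK
    have hO3 : O.card = 3 := by rw [hOdef, card_erase_of_mem h3, W.four.card_F]
    obtain ⟨a, b, c, hab, hac, hbc, hOabc⟩ := card_eq_three.mp hO3
    rw [← add_sum_erase _ _ h3, hb3, hz3, ← hOdef] at hrelz
    rw [← add_sum_erase _ _ h3, hb3, hdK, ← hOdef] at hreld
    have h3c := hcong _ h3
    rw [hb3, hz3] at h3c
    have hsum : ∀ f : Cfsg.IrrCharacter G → ℤ, ∑ χ ∈ O, f χ = f a + (f b + f c) := fun f => by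
      rw [hOabc, sum_insert (by simp [hab, hac]), sum_pair hbc]
    rw [hsum] at hB hS hrelz hreld
    simp only [Matrix.cons_val] at hreld
    have hm : ∀ χ ∈ O, χ ∈ W.four.F := fun χ h => (mem_erase.mp h).2
    have haO : a ∈ O := by rw [hOabc]; simp
    have hbO : b ∈ O := by rw [hOabc]; simp
    have hcO : c ∈ O := by rw [hOabc]; simp
    have key : ∀ i : Fin 3, (Subgroup.centralizer ({q} : Set G)).index = (info i).1 →
        z a ^ 2 + z b ^ 2 + z c ^ 2 ≤ (info i).2.1 →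
        v₃ = (if i = 2 then 24 else 4) → i = 1 ∧
        (∃ χ ∈ W.four.F, deg χ = 66 ∧ W.four.b χ = 1 ∧ (χ : G → ℂ) q = 6) ∧
        (∃ χ ∈ W.four.F, deg χ = 99 ∧ W.four.b χ = -1 ∧ (χ : G → ℂ) q = -1) ∧
        (∃ χ ∈ W.four.F, deg χ = 176 ∧ W.four.b χ = 1 ∧ (χ : G → ℂ) q = -4) := by
      intro i hidx hle hv
      have hsq : ∀ x : ℤ, 0 ≤ x ^ 2 := fun x => sq_nonneg x
      obtain ⟨ka, hka, ha⟩ := hO a (hm a haO) (hOK a haO).2.1 (hOK a haO).2.2 i hidx
        (by linarith [hsq (z b), hsq (z c)]) (by linarith [hsq (deg b), hsq (deg c)])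
      obtain ⟨kb, hkb, hb⟩ := hO b (hm b hbO) (hOK b hbO).2.1 (hOK b hbO).2.2 i hidx
        (by linarith [hsq (z a), hsq (z c)]) (by linarith [hsq (deg a), hsq (deg c)])
      obtain ⟨kc, hkc, hc⟩ := hO c (hm c hcO) (hOK c hcO).2.1 (hOK c hcO).2.2 i hidx
        (by linarith [hsq (z a), hsq (z b)]) (by linarith [hsq (deg a), hsq (deg b)])
      have hu : ∀ χ ∈ W.four.F, (W.four.b χ) ^ 2 = 1 := fun χ h => by
        rcases W.four.b_unit χ h with e | e <;> rw [e] <;> norm_num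
      have hk2 : ∀ χ ∈ W.four.F, ∀ k, W.four.b χ * deg χ = 11 * k →
          deg χ ^ 2 = 121 * k ^ 2 := fun χ h k hk => by
        have e : (W.four.b χ * deg χ) ^ 2 = deg χ ^ 2 := by rw [mul_pow, hu χ h, one_mul]
        rw [hk] at e
        linarith
      have hz' : ∀ χ ∈ W.four.F, (W.four.b χ * z χ) ^ 2 = z χ ^ 2 := fun χ h => by
        rw [mul_pow, hu χ h, one_mul]
      obtain ⟨hi, hall⟩ := triples i _ ha _ hb _ hc (by simp only; linarith)
        (by simp only; split_ifs at hv ⊢ with h <;> linarith)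
        (by simp only; rw [hz' a (hm a haO), hz' b (hm b hbO), hz' c (hm c hcO)]; exact hle)
        (by
          simp only
          linarith [hk2 a (hm a haO) ka hka, hk2 b (hm b hbO) kb hkb, hk2 c (hm c hcO) kc hkc])
      refine ⟨hi, ?_, ?_, ?_⟩
      · rcases hall (6, 6) (by simp) with h | h | h <;>
          simp only [Prod.mk.injEq] at h
        · exact ⟨a, hm a haO, (hmember a (hm a haO) ka hka).1 h.1.symm h.2.symm⟩
        · exact ⟨b, hm b hbO, (hmember b (hm b hbO) kb hkb).1 h.1.symm h.2.symm⟩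
        · exact ⟨c, hm c hcO, (hmember c (hm c hcO) kc hkc).1 h.1.symm h.2.symm⟩
      · rcases hall (-9, 1) (by simp) with h | h | h <;>
          simp only [Prod.mk.injEq] at h
        · exact ⟨a, hm a haO, (hmember a (hm a haO) ka hka).2.1 h.1.symm h.2.symm⟩
        · exact ⟨b, hm b hbO, (hmember b (hm b hbO) kb hkb).2.1 h.1.symm h.2.symm⟩
        · exact ⟨c, hm c hcO, (hmember c (hm c hcO) kc hkc).2.1 h.1.symm h.2.symm⟩
      · rcases hall (16, -4) (by simp) with h | h | h <;>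
          simp only [Prod.mk.injEq] at h
        · exact ⟨a, hm a haO, (hmember a (hm a haO) ka hka).2.2 h.1.symm h.2.symm⟩
        · exact ⟨b, hm b hbO, (hmember b (hm b hbO) kb hkb).2.2 h.1.symm h.2.symm⟩
        · exact ⟨c, hm c hcO, (hmember c (hm c hcO) kc hkc).2.2 h.1.symm h.2.symm⟩
    rcases hmem with ⟨rfl, e0, e1, e2, e3, et⟩ | ⟨rfl, e0, e1, e2, e3, et⟩ |
      ⟨rfl, e0, e1, e2, e3, et⟩ | ⟨rfl, e0, e1, e2, e3, et⟩ | ⟨rfl, e0, e1, e2, e3, et⟩ |
      ⟨rfl, e0, e1, e2, e3, et⟩ <;> rw [e3] at h3c <;>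
      rw [e0, e1, e2, e3, et, hC] at hB <;> push_cast at hB
    · norm_num at h3c
    · exact absurd (key 0 (by norm_num [info]; omega) (by norm_num [info]; linarith)
        (by rw [e3]; decide)).1 (by decide)
    · rw [hC] at h5C; norm_num at h5C
    · norm_num at h3c
    · obtain ⟨-, k6, k9, k16⟩ := key 1 (by norm_num [info]; omega)
        (by norm_num [info]; linarith) (by rw [e3]; decide)
      exact ⟨hC, by rw [hv0, e0]; norm_num, by rw [hv1, e1]; norm_num,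
        by rw [hv2, e2]; norm_num, k6, k9, Or.inl ⟨⟨h3, by rw [hv3, e3]; norm_num⟩,
        fun θ' h => by rw [hvt θ' h, et]; norm_num, k16, hfam⟩⟩
    · exact absurd (key 2 (by simp [info]; omega) (by simp [info]; linarith)
        (by rw [e3]; decide)).1 (by decide)
  · -- second case
    have hfF : B.D.fam ⊆ W.four.F := fun θ' h => (hfam θ' h).1
    set O := W.four.F \ B.D.fam with hOdef
    have hOK : ∀ χ ∈ O, χ ≠ oneChar G ∧ χ ∉ B.D.K ∧ χ ∉ B.D.fam := fun χ hχ => by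
      obtain ⟨hχ, hn⟩ := mem_sdiff.mp hχ
      refine ⟨fun e => W.four.one_not_mem (e ▸ hχ), fun hm => ?_, hn⟩
      obtain ⟨i, hi⟩ := W.ι.surjective ⟨χ, hm⟩
      exact hK i ((congrArg Subtype.val hi).symm ▸ hχ)
    have hB := hbudget O hOK
    have hS := hsquare O hOK
    have hO2 : O.card = 2 := by
      rw [hOdef, card_sdiff_of_subset hfF, W.four.card_F, B.fam_card]
    obtain ⟨a, b, hab, hOab⟩ := card_eq_two.mp hO2
    have hsplit : ∀ f : Cfsg.IrrCharacter G → ℤ,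
        ∑ χ ∈ W.four.F, f χ = f a + f b + ∑ θ' ∈ B.D.fam, f θ' := fun f => by
      rw [← sum_sdiff hfF, ← hOdef, hOab, sum_pair hab]
    rw [hsplit, sum_congr rfl fun θ' h => by rw [(hfam θ' h).2, hzt θ' h],
      sum_const, B.fam_card] at hrelz
    rw [hsplit, sum_congr rfl fun θ' h => by rw [(hfam θ' h).2, hdθ' θ' h],
      sum_const, B.fam_card] at hreld
    norm_num at hrelz hreld
    rw [hOab, sum_pair hab] at hB hS
    have htc := hcong B.D.θ (hfam _ B.D.θ_mem).1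
    rw [(hfam _ B.D.θ_mem).2, hzt _ B.D.θ_mem] at htc
    have hm : ∀ χ ∈ O, χ ∈ W.four.F := fun χ h => (mem_sdiff.mp h).1
    have haO : a ∈ O := by rw [hOab]; simp
    have hbO : b ∈ O := by rw [hOab]; simp
    have key : ∀ i : Fin 3, i ≠ 2 → (Subgroup.centralizer ({q} : Set G)).index = (info i).1 →
        z a ^ 2 + z b ^ 2 ≤ (info i).2.1 → t = -4 → i = 1 ∧
        (∃ χ ∈ W.four.F, deg χ = 66 ∧ W.four.b χ = 1 ∧ (χ : G → ℂ) q = 6) ∧
        (∃ χ ∈ W.four.F, deg χ = 99 ∧ W.four.b χ = -1 ∧ (χ : G → ℂ) q = -1) := by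
      intro i hi2 hidx hle ht'
      have hsq : ∀ x : ℤ, 0 ≤ x ^ 2 := fun x => sq_nonneg x
      obtain ⟨ka, hka, ha⟩ := hO a (hm a haO) (hOK a haO).2.1 (hOK a haO).2.2 i hidx
        (by linarith [hsq (z b)]) (by linarith [hsq (deg b)])
      obtain ⟨kb, hkb, hb⟩ := hO b (hm b hbO) (hOK b hbO).2.1 (hOK b hbO).2.2 i hidx
        (by linarith [hsq (z a)]) (by linarith [hsq (deg a)])
      have hu : ∀ χ ∈ W.four.F, (W.four.b χ) ^ 2 = 1 := fun χ h => by
        rcases W.four.b_unit χ h with e | e <;> rw [e] <;> norm_num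
      have hk2 : ∀ χ ∈ W.four.F, ∀ k, W.four.b χ * deg χ = 11 * k →
          deg χ ^ 2 = 121 * k ^ 2 := fun χ h k hk => by
        have e : (W.four.b χ * deg χ) ^ 2 = deg χ ^ 2 := by rw [mul_pow, hu χ h, one_mul]
        rw [hk] at e
        linarith
      have hz' : ∀ χ ∈ W.four.F, (W.four.b χ * z χ) ^ 2 = z χ ^ 2 := fun χ h => by
        rw [mul_pow, hu χ h, one_mul]
      obtain ⟨hi, hall⟩ := doubles i hi2 _ ha _ hb (by simp only; linarith)
        (by simp only; linarith)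
        (by simp only; rw [hz' a (hm a haO), hz' b (hm b hbO)]; exact hle)
        (by simp only; linarith [hk2 a (hm a haO) ka hka, hk2 b (hm b hbO) kb hkb])
      refine ⟨hi, ?_, ?_⟩
      · rcases hall (6, 6) (by simp) with h | h <;> simp only [Prod.mk.injEq] at h
        · exact ⟨a, hm a haO, (hmember a (hm a haO) ka hka).1 h.1.symm h.2.symm⟩
        · exact ⟨b, hm b hbO, (hmember b (hm b hbO) kb hkb).1 h.1.symm h.2.symm⟩
      · rcases hall (-9, 1) (by simp) with h | h <;> simp only [Prod.mk.injEq] at h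
        · exact ⟨a, hm a haO, (hmember a (hm a haO) ka hka).2.1 h.1.symm h.2.symm⟩
        · exact ⟨b, hm b hbO, (hmember b (hm b hbO) kb hkb).2.1 h.1.symm h.2.symm⟩
    rcases hmem with ⟨rfl, e0, e1, e2, e3, et⟩ | ⟨rfl, e0, e1, e2, e3, et⟩ |
      ⟨rfl, e0, e1, e2, e3, et⟩ | ⟨rfl, e0, e1, e2, e3, et⟩ | ⟨rfl, e0, e1, e2, e3, et⟩ |
      ⟨rfl, e0, e1, e2, e3, et⟩ <;> rw [et] at htc <;>
      rw [e0, e1, e2, e3, et, hC] at hB <;> push_cast at hB
    · exact absurd (key 0 (by decide) (by norm_num [info]; omega) (by norm_num [info]; linarith)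
        et).1 (by decide)
    · norm_num at htc
    · rw [hC] at h5C; norm_num at h5C
    · obtain ⟨-, k6, k9⟩ := key 1 (by decide) (by norm_num [info]; omega)
        (by norm_num [info]; linarith) et
      exact ⟨hC, by rw [hv0, e0]; norm_num, by rw [hv1, e1]; norm_num,
        by rw [hv2, e2]; norm_num, k6, k9, Or.inr ⟨hK 3, by rw [hv3, e3]; norm_num,
        fun θ' h => ⟨(hfam θ' h).1, (hfam θ' h).2, by rw [hvt θ' h, et]; norm_num⟩⟩⟩
    · norm_num at htc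
    · norm_num at htc

end Cfsg.Agent.Lib.RecogThree.M12.Central
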