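import Cfsg.Agent.Lib.RecogThree.M11.Cert

/-!
Kernel-checked facts on twelve points: the involutions commuting with `i ↦ 3 i` that exchange its
two fixed points.
-/

set_option autoImplicit false

namespace Cfsg.Agent.Lib.RecogThree.M12.Cert

open Cfsg.Agent.Lib.RecogThree.M11.Cert (X Y N)

/-- The five candidates. -/
def Z : Fin 5 → Fin 12 → Fin 12 :=
  ![![11, 2, 1, 6, 8, 10, 3, 9, 4, 7, 5, 0],
    ![11, 6, 4, 7, 2, 8, 1, 3, 5, 10, 9, 0],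
    ![11, 7, 5, 10, 6, 2, 4, 1, 9, 8, 3, 0],
    ![11, 10, 9, 8, 7, 6, 5, 4, 3, 2, 1, 0],
    ![11, 8, 3, 2, 10, 7, 9, 5, 1, 6, 4, 0]]

theorem Z_table : ∀ k : Fin 5, ∀ i : Fin 12, (i = 0 ∧ Z k i = 11) ∨ (i = 11 ∧ Z k i = 0) ∨
    ∃ n : Fin 5, (i = Y^[n.1] 1 ∧ Z k i = Y^[n.1] (Y^[k.1] 2)) ∨
      (i = Y^[n.1] (Y^[k.1] 2) ∧ Z k i = Y^[n.1] 1) := by
  decide +kernel

theorem point_cases : ∀ a : Fin 12, a = 0 ∨ a = 11 ∨ ∃ k : Fin 5, a = Y^[k.1] 1 ∨ a = Y^[k.1] 2 := by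
  decide +kernel

theorem double_zero : ∀ k : Fin 5, (Y^[k.1] (Y^[k.1] 1) = 1 → k = 0) ∧
    (Y^[k.1] (Y^[k.1] 2) = 2 → k = 0) := by
  decide +kernel

theorem flip : ∀ i : Fin 12, N (Z 4 (N i)) = Z 2 i ∧ X (N (X (N i))) = i ∧
    N (Y (N i)) = Y i ∧ N (N i) = i := by
  decide +kernel

theorem order_thirty_five : ∀ k : Fin 5, k ≠ 2 → k ≠ 4 →
    ∃ w ∈ [X ∘ X ∘ Z k ∘ X ∘ X ∘ Z k ∘ X ∘ Z k, X ∘ Y ∘ Z k ∘ X ∘ Z k],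
      w^[35] = id ∧ w^[5] ≠ id := by
  decide +kernel

theorem order_eight : (X ∘ Y ∘ Y ∘ Z 2)^[8] = id ∧ (X ∘ Y ∘ Y ∘ Z 2)^[4] ≠ id := by
  decide +kernel

end Cfsg.Agent.Lib.RecogThree.M12.Cert
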