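import Cfsg.Agent.Lib.RecogThree.M12.Ten

/-!
Simple groups of order `95040`: the columns of `y` and of `q`.
-/

set_option autoImplicit false
set_option linter.style.haveILetI false
set_option linter.unusedSectionVars false

namespace Cfsg.Agent.Lib.RecogThree.M12.Column

open Cfsg.Agent.Lib.Characters Cfsg.Agent.Lib.Characters.Basic
open Cfsg.Agent.Lib.Classif
open Cfsg.Agent.Lib.Classif.FirstPowerData (int_dvd_of_isIntegral)
open Cfsg.Agent.Lib.Classif.PrimeExceptional (deg apply_one_eq)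
open Cfsg.Agent.Lib.RecogThree.M12.Eleven (Base)
open Cfsg.Agent.Lib.RecogThree.M12.Data5 (Four Five)
open scoped ComplexConjugate
open Finset

universe u

/-! The rows of the remaining characters. -/

set_option synthInstance.maxSize 2000 in
set_option synthInstance.maxHeartbeats 200000 in
theorem pairs_dec : ∀ k l : Fin 9, ∀ s t : Bool,
    (5 : ℤ) ∣ (k : ℤ) - (if s then 1 else -1) → (5 : ℤ) ∣ (l : ℤ) - (if t then 1 else -1) →
      (k : ℤ) * (if s then 1 else -1) + (l : ℤ) * (if t then 1 else -1) = 2 →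
      (k : ℤ) ^ 2 + (l : ℤ) ^ 2 ≤ 77 →
      ((k : ℤ) = 1 ∧ (l : ℤ) = 1 ∧ (if s then (1 : ℤ) else -1) = 1 ∧
          (if t then (1 : ℤ) else -1) = 1) ∨
        ((k : ℤ) ^ 2 + (l : ℤ) ^ 2 = 52 ∧ (k : ℤ) + l = 10) := by
  decide +kernel

variable {G : Type u} [Group G] [Finite G] [IsSimpleGroup G] [Fact (Nat.Prime 11)]
variable {B : Base G} (T : Ten.Data B)

include T

/-- The normaliser of `⟨y⟩` induces all powers on it. -/
theorem exists_conj_pow {r : ℕ} (hr : 1 ≤ r) (hr' : r < 5) :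
    ∃ s ∈ Subgroup.normalizer ((Subgroup.zpowers B.y : Subgroup G) : Set G),
      s * B.y * s⁻¹ = B.y ^ r := by
  classical
  set N := Subgroup.normalizer ((Subgroup.zpowers B.y : Subgroup G) : Set G) with hN
  set C := Subgroup.centralizer ({B.y} : Set G) with hC
  have hpow : ∀ u ∈ N, ∃ r < 5, r ≠ 0 ∧ u * B.y * u⁻¹ = B.y ^ r := by
    intro u hu
    have hm := (Subgroup.mem_normalizer_iff.mp hu B.y).mp (Subgroup.mem_zpowers B.y)
    rw [mem_zpowers_iff_mem_range_orderOf, Finset.mem_image] at hm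
    obtain ⟨r, hr, hr'⟩ := hm
    rw [Finset.mem_range, B.hy] at hr
    refine ⟨r, hr, ?_, hr'.symm⟩
    rintro rfl
    rw [pow_zero, eq_comm, conj_eq_one_iff] at hr'
    have := B.hy
    rw [hr', orderOf_one] at this
    omega
  choose f hf using fun u : N => hpow u u.2
  by_contra hno
  push Not at hno
  haveI := Fintype.ofFinite N
  have hfib : ∀ u v : N, f u = f v → (u : G)⁻¹ * v ∈ C := fun u v e =>
    FixedSylow.conj_eq_iff.mp ((hf u).2.2.trans (by rw [e]; exact (hf v).2.2.symm))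
  have hsub : univ.image f ⊆ ((Icc 1 4).erase r) := by
    intro k hk
    obtain ⟨u, -, rfl⟩ := mem_image.mp hk
    obtain ⟨h1, h2, h3⟩ := hf u
    refine mem_erase.mpr ⟨fun e => hno u u.2 (e ▸ h3), mem_Icc.mpr ⟨by omega, by omega⟩⟩
  have h3 : (univ.image f).card ≤ 3 := by
    refine (card_le_card hsub).trans ?_
    rw [card_erase_of_mem (mem_Icc.mpr ⟨hr, by omega⟩), Nat.card_Icc]
  have hcount : Fintype.card N ≤ (univ.image f).card * Nat.card C := by
    rw [← card_univ, card_eq_sum_card_image f univ]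
    refine (sum_le_sum (g := fun _ => Nat.card C) fun k hk => ?_).trans (by rw [sum_const, smul_eq_mul])
    obtain ⟨u₀, -, hu₀⟩ := mem_image.mp hk
    rw [← Fintype.card_coe, ← Nat.card_eq_fintype_card]
    refine Nat.card_le_card_of_injective
      (fun v => (⟨(u₀ : G)⁻¹ * (v.1 : G), hfib u₀ v.1
        (hu₀.trans (mem_filter.mp v.2).2.symm)⟩ : C)) ?_
    intro v w e
    exact Subtype.ext (Subtype.ext (mul_left_cancel (congrArg Subtype.val e)))
  have hNc : Nat.card N = 20 * T.W.c := T.W.card_N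
  have hCc : Nat.card C = 5 * T.W.c := T.W.card_C
  rw [← Nat.card_eq_fintype_card, hNc, hCc, T.hc] at hcount
  omega

/-- Integral values at `y`. -/
theorem exists_w : ∃ w : Cfsg.IrrCharacter G → ℤ, ∀ χ : Cfsg.IrrCharacter G,
    (χ : G → ℂ) B.y = w χ ∧ (5 : ℤ) ∣ deg χ - w χ := by
  classical
  have hall : ∀ χ : Cfsg.IrrCharacter G, ∀ i : ℕ, 1 ≤ i → i < 5 →
      (χ : G → ℂ) (B.y ^ i) = (χ : G → ℂ) B.y := fun χ i h1 h5 => by
    obtain ⟨s, -, hs⟩ := exists_conj_pow T h1 h5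
    rw [← hs]
    exact isClassFunction_irr χ B.y s
  have hex : ∀ χ : Cfsg.IrrCharacter G, ∃ v : ℤ, (χ : G → ℂ) B.y = v ∧ (5 : ℤ) ∣ deg χ - v := by
    intro χ
    obtain ⟨m, ζ, hm, -, -⟩ := Basic.exists_range_eigen (p := 5) (by norm_num) χ (y := B.y)
      (g := (1 : G)) (B.hy ▸ pow_orderOf_eq_one B.y) (Commute.one_left B.y)
      (a := (χ : G → ℂ) B.y) (fun i j hi hi5 => by rw [one_pow, one_mul]; exact hall χ i hi hi5)
    push_cast at hm
    have hint : IsIntegral ℤ (((5 * (m : ℤ) - deg χ : ℤ) : ℂ) / ((4 : ℕ) : ℂ)) := by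
      rw [show (((5 * (m : ℤ) - deg χ : ℤ) : ℂ) / ((4 : ℕ) : ℂ)) = (χ : G → ℂ) B.y by
        push_cast; linear_combination (1 / 4 : ℂ) * hm]
      exact isIntegral_apply (isCharacter_irr _) _
    obtain ⟨v, hv⟩ := int_dvd_of_isIntegral (by norm_num) hint
    refine ⟨v, ?_, by omega⟩
    have hv' : ((5 * (m : ℤ) - deg χ : ℤ) : ℂ) = 4 * (v : ℂ) := by rw [hv]; push_cast; ring
    push_cast at hv'
    linear_combination (1 / 4 : ℂ) * hv' - (1 / 4 : ℂ) * hm
  choose w hw using hex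
  exact ⟨w, hw⟩

theorem apply_yq {χ : Cfsg.IrrCharacter G} (h1 : χ ≠ oneChar G) (hχ : χ ∉ T.W.four.F) :
    (χ : G → ℂ) (B.y * T.q) = -(χ : G → ℂ) B.y := by
  classical
  haveI := Fintype.ofFinite T.W.four.V
  have hy1 : B.y ≠ 1 := fun e => by
    have := B.hy; rw [e, orderOf_one] at this; omega
  have h := T.W.four.others χ h1 hχ B.y (Subgroup.mem_zpowers B.y) hy1
  rw [finsum_eq_sum_of_fintype] at h
  have hq1 : T.q ≠ 1 := fun e => by
    have := T.hq; rw [e, orderOf_one] at this; omega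
  let one' : T.W.four.V := 1
  let q' : T.W.four.V := ⟨T.q, (T.V_mem T.q).mpr (Or.inr rfl)⟩
  have hu : (univ : Finset T.W.four.V) = {one', q'} := by
    ext v
    simp only [mem_univ, true_iff, mem_insert, mem_singleton]
    rcases (T.V_mem v).mp v.2 with e | e
    · exact Or.inl (Subtype.ext e)
    · exact Or.inr (Subtype.ext e)
  rw [hu, sum_pair (fun e => hq1 (congrArg Subtype.val e).symm)] at h
  simp only [one', q', OneMemClass.coe_one, mul_one] at h
  linear_combination h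

/-- The remaining characters. -/
def Rest (χ : Cfsg.IrrCharacter G) : Prop :=
  χ ≠ oneChar G ∧ χ ∉ B.D.K ∧ χ ∉ B.D.fam ∧ χ ∉ T.W.four.F

theorem sum_univ_eq [Fintype (Cfsg.IrrCharacter G)] [DecidableEq (Cfsg.IrrCharacter G)]
    [DecidablePred (Rest T)] {M : Type*} [AddCommMonoid M] (f : Cfsg.IrrCharacter G → M) :
    ∑ χ, f χ = f (oneChar G) + (f (T.W.ι 0) + f (T.W.ι 1) + f (T.W.ι 2) + f (T.W.ι 3)) +
      ∑ θ' ∈ B.D.fam, f θ' + (f T.f66 + (f T.f99 + f T.f176)) +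
        ∑ χ ∈ univ.filter (Rest T), f χ := by
  have hK : ∑ χ ∈ B.D.K, f χ = f (T.W.ι 0) + f (T.W.ι 1) + f (T.W.ι 2) + f (T.W.ι 3) := by
    rw [← sum_coe_sort B.D.K f, ← T.W.ι.sum_comp (fun χ => f χ), Fin.sum_univ_four]
  have hd : ∀ χ, χ = T.f66 ∨ χ = T.f99 ∨ χ = T.f176 →
      χ ≠ oneChar G ∧ χ ∉ B.D.K ∧ χ ∉ B.D.fam ∧ χ ∈ T.W.four.F := by
    intro χ h
    have hF : χ ∈ T.W.four.F := (T.F_eq χ).mpr (Or.inr h)
    refine ⟨fun e => T.W.four.one_not_mem (e ▸ hF), fun hm => ?_, fun hm => T.fam_not_mem χ hm hF, hF⟩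
    obtain ⟨i, hi⟩ := T.W.ι.surjective ⟨χ, hm⟩
    have hdi := (Central.deg_facts B T.W).1 i
    have hi' : (T.W.ι i : Cfsg.IrrCharacter G) = χ := congrArg Subtype.val hi
    rw [hi'] at hdi
    rcases h with rfl | rfl | rfl <;>
      simp only [T.h66.1, T.h99.1, T.h176.1] at hdi <;> revert hdi <;> fin_cases i <;> norm_num
  have h69 : T.f66 ≠ T.f99 := fun e => by
    have h1 := T.h66.1; rw [e, T.h99.1] at h1; omega
  have h617 : T.f66 ≠ T.f176 := fun e => by
    have h1 := T.h66.1; rw [e, T.h176.1] at h1; omega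
  have h917 : T.f99 ≠ T.f176 := fun e => by
    have h1 := T.h99.1; rw [e, T.h176.1] at h1; omega
  have huniv : (univ : Finset (Cfsg.IrrCharacter G)) =
      insert (oneChar G) (B.D.K ∪ B.D.fam ∪ {T.f66, T.f99, T.f176} ∪ univ.filter (Rest T)) := by
    ext χ
    simp only [mem_univ, true_iff, mem_insert, mem_union, mem_filter, true_and, mem_singleton]
    by_cases h1 : χ = oneChar G
    · exact Or.inl h1
    refine Or.inr ?_
    by_cases hK : χ ∈ B.D.K
    · exact Or.inl (Or.inl (Or.inl hK))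
    by_cases hF : χ ∈ B.D.fam
    · exact Or.inl (Or.inl (Or.inr hF))
    by_cases h5 : χ ∈ T.W.four.F
    · refine Or.inl (Or.inr ?_)
      rcases (T.F_eq χ).mp h5 with e | e
      · exact absurd (e ▸ (T.W.ι 3).2) hK
      · exact e
    · exact Or.inr ⟨h1, hK, hF, h5⟩
  conv_lhs => rw [huniv]
  rw [sum_insert, sum_union, sum_union, sum_union B.D.fam_disj, hK,
    sum_insert (by simp [h69, h617]), sum_pair h917]
  · simp only [add_assoc]
  · refine disjoint_left.mpr fun χ hχ h3 => ?_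
    simp only [mem_insert, mem_singleton] at h3
    obtain ⟨-, h2, h3', -⟩ := hd χ h3
    rcases mem_union.mp hχ with h | h
    · exact h2 h
    · exact h3' h
  · refine disjoint_left.mpr fun χ hχ hr => ?_
    obtain ⟨-, hK', hF', h5⟩ := (mem_filter.mp hr).2
    simp only [mem_union, mem_insert, mem_singleton] at hχ
    rcases hχ with (h | h) | h
    · exact hK' h
    · exact hF' h
    · exact h5 (hd χ h).2.2.2
  · simp only [mem_union, mem_insert, mem_singleton, mem_filter, not_or]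
    exact ⟨⟨⟨B.D.one_not_mem, B.D.fam_one⟩, fun e => (hd _ (Or.inl e)).1 rfl,
      fun e => (hd _ (Or.inr (Or.inl e))).1 rfl, fun e => (hd _ (Or.inr (Or.inr e))).1 rfl⟩,
      fun h => h.2.1 rfl⟩

set_option maxHeartbeats 3200000 in
/-- The columns of `y` and `q`: the small values and the two possible tables. -/
theorem columns [Fintype (Cfsg.IrrCharacter G)] [DecidablePred (Rest T)] :
    ((B.D.θ : G → ℂ) B.y = 1 ∧ ((T.W.ι 0 : Cfsg.IrrCharacter G) : G → ℂ) B.y = 0 ∧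
      ((T.W.ι 1 : Cfsg.IrrCharacter G) : G → ℂ) B.y = -1 ∧
      ((T.W.ι 2 : Cfsg.IrrCharacter G) : G → ℂ) B.y = 0) ∧
    (∀ χ, Rest T χ → ∃ k : ℤ, 0 < k ∧ deg χ = 11 * k ∧ (χ : G → ℂ) T.q = -(k : ℂ)) ∧
    ((∃ a b, a ≠ b ∧ Rest T a ∧ Rest T b ∧ deg a = 11 ∧ deg b = 11 ∧ (a : G → ℂ) B.y = 1 ∧
        (b : G → ℂ) B.y = 1 ∧
        (∀ χ, Rest T χ → χ ≠ a → χ ≠ b → deg χ = 55 ∧ (χ : G → ℂ) B.y = 0) ∧
        ∑ χ ∈ univ.filter (Rest T), deg χ = 187) ∨
      ∑ χ ∈ univ.filter (Rest T), deg χ = 165) := by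
  classical
  obtain ⟨w, hw⟩ := exists_w T
  obtain ⟨z, hz⟩ := Budget.exists_z B T.hq
  obtain ⟨hdK, hdθ⟩ := Central.deg_facts B T.W
  obtain ⟨ha, hδ⟩ := Twelve.signs B T.W
  have hwv : ∀ χ : Cfsg.IrrCharacter G, ∀ v : ℤ, (χ : G → ℂ) B.y = v → w χ = v := fun χ v h => by
    rw [(hw χ).1] at h; exact_mod_cast h
  have hzv : ∀ χ : Cfsg.IrrCharacter G, ∀ v : ℤ, (χ : G → ℂ) T.q = v → z χ = v := fun χ v h => by
    rw [(hz χ).1] at h; exact_mod_cast h
  have hy1 : B.y ≠ 1 := fun e => by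
    have := B.hy; rw [e, orderOf_one] at this; omega
  have hy11 : ¬ 11 ∣ orderOf B.y := by rw [B.hy]; norm_num
  have hwF : ∀ χ ∈ T.W.four.F, w χ = T.W.four.b χ := fun χ h => hwv χ _ (by
    have := T.W.four.value χ h B.y (Subgroup.mem_zpowers B.y) hy1 1 (one_mem _)
    rwa [mul_one] at this)
  have hDZ : ∀ i : Fin 4, ∀ e : ℕ, deg (T.W.ι i : Cfsg.IrrCharacter G) = ((5 * e : ℕ) : ℤ) →
      w (T.W.ι i) = 0 := fun i e hd => hwv _ 0 (by
    rw [Int.cast_zero]
    exact DefectZero.apply_eq_zero (n := 1) (r := 19008) (e := e) (p := 5) (by norm_num) _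
      (by rw [B.card]; norm_num) (by norm_num) (by rw [apply_one_eq, hd]; push_cast; ring)
      (by rw [B.hy]))
  have hw0 := hDZ 0 9 (by rw [hdK]; rfl)
  have hw2 := hDZ 2 24 (by rw [hdK]; rfl)
  have hw3 : w (T.W.ι 3) = -1 := by rw [hwF _ T.mem_three, T.b_three]
  have hwθ : ∀ θ' ∈ B.D.fam, w θ' = w B.D.θ := fun θ' h => hwv θ' _ (by
    rw [B.D.fam_regular θ' h B.y hy11, (hw B.D.θ).1])
  have hw66 : w T.f66 = 1 := (hwF _ ((T.F_eq _).mpr (Or.inr (Or.inl rfl)))).trans T.h66.2.1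
  have hw99 : w T.f99 = -1 :=
    (hwF _ ((T.F_eq _).mpr (Or.inr (Or.inr (Or.inl rfl))))).trans T.h99.2.1
  have hw176 : w T.f176 = 1 :=
    (hwF _ ((T.F_eq _).mpr (Or.inr (Or.inr (Or.inr rfl))))).trans T.h176.2.1
  have hwone : w (oneChar G) = 1 := hwv _ 1 (by rw [oneChar_apply]; norm_num)
  have hzone : z (oneChar G) = 1 := hzv _ 1 (by rw [oneChar_apply]; norm_num)
  have hz0 : z (T.W.ι 0) = 5 := hzv _ 5 (by rw [T.v0]; norm_num)
  have hz1 : z (T.W.ι 1) = 6 := hzv _ 6 (by rw [T.v1]; norm_num)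
  have hz2 : z (T.W.ι 2) = 0 := hzv _ 0 (by rw [T.v2]; norm_num)
  have hz3 : z (T.W.ι 3) = 4 := hzv _ 4 (by rw [T.v3]; norm_num)
  have hzθ : ∀ θ' ∈ B.D.fam, z θ' = 4 := fun θ' h => hzv _ 4 (by rw [T.fam_q θ' h]; norm_num)
  have hz66 : z T.f66 = 6 := hzv _ 6 (by rw [T.h66.2.2]; norm_num)
  have hz99 : z T.f99 = -1 := hzv _ (-1) (by rw [T.h99.2.2]; norm_num)
  have hz176 : z T.f176 = -4 := hzv _ (-4) (by rw [T.h176.2.2]; norm_num)
  have hdfam : ∀ θ' ∈ B.D.fam, deg θ' = 16 := fun θ' h => (B.D.fam_deg θ' h).trans hdθ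
  -- orthogonality
  have horth : ∀ (g h : G) (a b : Cfsg.IrrCharacter G → ℤ),
      (∀ χ : Cfsg.IrrCharacter G, (χ : G → ℂ) g = a χ) →
      (∀ χ : Cfsg.IrrCharacter G, (χ : G → ℂ) h = b χ) →
      ∑ χ, a χ * b χ =
        if IsConj g h then (Nat.card (Subgroup.centralizer ({g} : Set G)) : ℤ) else 0 := by
    intro g h a b hga hhb
    have e := Complete.sum_irr_mul_conj g h
    rw [sum_congr rfl fun (χ : Cfsg.IrrCharacter G) _ => by
      rw [hga χ, hhb χ, map_intCast]] at e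
    by_cases hc : IsConj g h
    · rw [if_pos hc] at e ⊢; exact_mod_cast e
    · rw [if_neg hc] at e ⊢; exact_mod_cast e
  have hnc : ∀ g h : G, orderOf g ≠ orderOf h → ¬ IsConj g h := fun g h hne hc => by
    obtain ⟨c, rfl⟩ := isConj_iff.mp hc
    exact hne ((MulAut.conj c).orderOf_eq g).symm
  -- the column of `x` against that of `y`
  have hxy : w (T.W.ι 1) = -w B.D.θ := by
    have e := Complete.sum_irr_mul_conj B.x B.y
    rw [if_neg (hnc _ _ (by rw [B.hx, B.hy]; norm_num)),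
      sum_congr rfl fun (χ : Cfsg.IrrCharacter G) _ => by rw [(hw χ).1, map_intCast],
      sum_univ_eq T fun χ => (χ : G → ℂ) B.x * (w χ : ℂ),
      sum_congr rfl fun θ' h => by rw [hwθ θ' h], ← sum_mul, Five.fam_sum_x B, hδ, hwone,
      oneChar_apply, B.K_apply_x (T.W.ι 0).2, B.K_apply_x (T.W.ι 1).2, B.K_apply_x (T.W.ι 2).2,
      B.K_apply_x (T.W.ι 3).2, ha 0, ha 1, ha 2, ha 3, hw0, hw2, hw3] at e
    have hrest : ∀ χ, χ = T.f66 ∨ χ = T.f99 ∨ χ = T.f176 ∨ Rest T χ →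
        (χ : G → ℂ) B.x = 0 := by
      intro χ h
      have h' : χ ≠ oneChar G ∧ χ ∉ B.D.K ∧ χ ∉ B.D.fam := by
        rcases h with h | h | h | h
        rotate_left 3
        · exact ⟨h.1, h.2.1, h.2.2.1⟩
        all_goals
          have hF : χ ∈ T.W.four.F := (T.F_eq χ).mpr (by tauto)
          refine ⟨fun e => T.W.four.one_not_mem (e ▸ hF), fun hm => ?_,
            fun hm => T.fam_not_mem χ hm hF⟩
          obtain ⟨i, hi⟩ := T.W.ι.surjective ⟨χ, hm⟩
          have hdi := hdK i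
          rw [show (T.W.ι i : Cfsg.IrrCharacter G) = χ from congrArg Subtype.val hi, h] at hdi
          simp only [T.h66.1, T.h99.1, T.h176.1] at hdi
          revert hdi; fin_cases i <;> norm_num
      exact B.others_apply_x h'.1 h'.2.1 h'.2.2
    rw [hrest _ (Or.inl rfl), hrest _ (Or.inr (Or.inl rfl)),
      hrest _ (Or.inr (Or.inr (Or.inl rfl))), sum_eq_zero fun χ hχ => by
        rw [hrest χ (Or.inr (Or.inr (Or.inr (mem_filter.mp hχ).2))), zero_mul]] at e
    simp only [Matrix.cons_val] at e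
    push_cast at e
    have e' : ((w (T.W.ι 1) : ℤ) : ℂ) = ((-w B.D.θ : ℤ) : ℂ) := by
      push_cast; linear_combination -e
    exact_mod_cast e'
  have hcyy : Nat.card (Subgroup.centralizer ({B.y} : Set G)) = 10 := by
    rw [T.W.card_C, T.hc]
  have hyy : ∑ χ, w χ * w χ = 10 := by
    rw [horth _ _ w w (fun χ => (hw χ).1) (fun χ => (hw χ).1), if_pos (IsConj.refl _), hcyy]
    norm_num
  have hqq : ∑ χ, z χ * z χ = 240 := by
    rw [horth _ _ z z (fun χ => (hz χ).1) (fun χ => (hz χ).1), if_pos (IsConj.refl _), T.card_q]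
    norm_num
  have h11 : ∑ χ : Cfsg.IrrCharacter G, deg χ * deg χ = 95040 := by
    rw [horth 1 1 deg deg apply_one_eq apply_one_eq, if_pos (IsConj.refl _),
      Budget.card_centralizer_one, B.card]
    norm_num
  have hq1 : ∑ χ : Cfsg.IrrCharacter G, deg χ * z χ = 0 := by
    rw [horth 1 T.q deg z apply_one_eq (fun χ => (hz χ).1),
      if_neg (hnc _ _ (by rw [orderOf_one, T.hq]; norm_num))]
  have hqy : ∑ χ : Cfsg.IrrCharacter G, z χ * w χ = 0 := by
    rw [horth T.q B.y z w (fun χ => (hz χ).1) (fun χ => (hw χ).1),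
      if_neg (hnc _ _ (by rw [T.hq, B.hy]; norm_num))]
  rw [sum_univ_eq T, sum_congr rfl fun θ' h => by rw [hwθ θ' h], sum_const, B.fam_card, hwone,
    hw0, hw2, hw3, hw66, hw99, hw176, hxy] at hyy
  rw [sum_univ_eq T, sum_congr rfl fun θ' h => by rw [hzθ θ' h], sum_const, B.fam_card, hzone,
    hz0, hz1, hz2, hz3, hz66, hz99, hz176] at hqq
  rw [sum_univ_eq T, sum_congr rfl fun θ' h => by rw [hdfam θ' h], sum_const, B.fam_card,
    Data5.deg_oneChar, hdK, hdK, hdK, hdK, T.h66.1, T.h99.1, T.h176.1] at h11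
  rw [sum_univ_eq T, sum_congr rfl fun θ' h => by rw [hdfam θ' h, hzθ θ' h], sum_const,
    B.fam_card, hzone, hz0, hz1, hz2, hz3, hz66, hz99, hz176,
    Data5.deg_oneChar, hdK, hdK, hdK, hdK, T.h66.1, T.h99.1, T.h176.1] at hq1
  rw [sum_univ_eq T, sum_congr rfl fun θ' h => by rw [hzθ θ' h, hwθ θ' h], sum_const, B.fam_card,
    hzone, hz0, hz1, hz2, hz3, hz66, hz99, hz176, hwone, hw0, hw2, hw3, hw66, hw99, hw176,
    hxy] at hqy
  simp only [Matrix.cons_val, nsmul_eq_mul] at hyy hqq h11 hq1 hqy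
  push_cast at hyy hqq h11 hq1 hqy
  norm_num at hyy hqq h11 hq1 hqy
  set R := univ.filter (Rest T) with hR
  have hu : w B.D.θ = 1 := by
    have h0 : 0 ≤ ∑ χ ∈ R, w χ * w χ := sum_nonneg fun χ _ => mul_self_nonneg _
    have h5 := (hw B.D.θ).2
    rw [hdθ] at h5
    have : -1 ≤ w B.D.θ ∧ w B.D.θ ≤ 1 := by constructor <;> nlinarith
    omega
  rw [hu] at hyy hxy hqy
  have hk : ∀ χ, ∃ k : ℤ, Rest T χ → 0 < k ∧ deg χ = 11 * k := fun χ => by
    by_cases h : Rest T χ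
    · obtain ⟨k, hk⟩ := B.deg_dvd_of_others h.1 h.2.1 h.2.2.1
      refine ⟨k, fun _ => ⟨?_, hk⟩⟩
      have hlt := (hz χ).2.2.1 h.1
      have := abs_nonneg (z χ)
      omega
    · exact ⟨0, fun h' => absurd h' h⟩
  choose k hk using hk
  have hmem : ∀ χ ∈ R, Rest T χ := fun χ h => (mem_filter.mp h).2
  have hd : ∀ χ ∈ R, deg χ = 11 * k χ := fun χ h => (hk χ (hmem χ h)).2
  have hk2 : ∑ χ ∈ R, k χ * k χ = 77 := by
    rw [sum_congr rfl fun χ h => show deg χ * deg χ = 121 * (k χ * k χ) by rw [hd χ h]; ring,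
      ← mul_sum] at h11
    linarith
  have hkz : ∑ χ ∈ R, k χ * z χ = -77 := by
    rw [sum_congr rfl fun χ h => show deg χ * z χ = 11 * (k χ * z χ) by rw [hd χ h]; ring,
      ← mul_sum] at hq1
    linarith
  have hzk : ∀ χ ∈ R, z χ = -k χ := by
    intro χ hχ
    have h0 : ∑ χ ∈ R, (z χ + k χ) ^ 2 = 0 := by
      rw [sum_congr rfl fun χ _ => show (z χ + k χ) ^ 2 = z χ * z χ + 2 * (k χ * z χ) + k χ * k χ by
        ring, sum_add_distrib, sum_add_distrib, ← mul_sum]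
      linarith
    have := (sum_eq_zero_iff_of_nonneg fun χ _ => sq_nonneg (z χ + k χ)).mp h0 χ hχ
    have := (pow_eq_zero_iff two_ne_zero).mp this
    linarith
  have hkw : ∑ χ ∈ R, k χ * w χ = 2 := by
    rw [sum_congr rfl fun χ h => show z χ * w χ = -1 * (k χ * w χ) by rw [hzk χ h]; ring,
      ← mul_sum] at hqy
    linarith
  refine ⟨⟨by rw [(hw B.D.θ).1, hu]; norm_num, by rw [(hw _).1, hw0]; norm_num,
    by rw [(hw _).1, hxy]; norm_num, by rw [(hw _).1, hw2]; norm_num⟩, fun χ h => ?_, ?_⟩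
  · obtain ⟨h0, hd'⟩ := hk χ h
    refine ⟨k χ, h0, hd', ?_⟩
    rw [(hz χ).1, hzk χ (mem_filter.mpr ⟨mem_univ _, h⟩)]
    push_cast; ring
  have hw2 : ∑ χ ∈ R, w χ * w χ = 2 := by linarith
  have hcong : ∀ χ ∈ R, (5 : ℤ) ∣ k χ - w χ := fun χ h => by
    have := (hw χ).2
    rw [hd χ h] at this
    omega
  set R1 := R.filter fun χ => w χ ≠ 0 with hR1
  set R0 := R.filter fun χ => ¬ w χ ≠ 0 with hR0
  have hsplit : ∀ f : Cfsg.IrrCharacter G → ℤ, ∑ χ ∈ R, f χ = ∑ χ ∈ R1, f χ + ∑ χ ∈ R0, f χ :=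
    fun f => (sum_filter_add_sum_filter_not R _ f).symm
  have hunit : ∀ χ ∈ R1, w χ = 1 ∨ w χ = -1 := fun χ h => by
    obtain ⟨hR', hne⟩ := mem_filter.mp h
    have hle : w χ * w χ ≤ 2 := hw2 ▸ single_le_sum (fun χ _ => mul_self_nonneg (w χ)) hR'
    have : -1 ≤ w χ ∧ w χ ≤ 1 := by constructor <;> nlinarith
    omega
  have hz0' : ∀ χ ∈ R0, w χ = 0 := fun χ h => not_not.mp (mem_filter.mp h).2
  have hc2 : R1.card = 2 := by
    have h := hw2
    rw [hsplit, sum_congr rfl fun χ h => show w χ * w χ = 1 by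
        rcases hunit χ h with e | e <;> rw [e] <;> norm_num,
      sum_eq_zero (s := R0) fun χ h => by rw [hz0' χ h, mul_zero], sum_const, nsmul_one] at h
    simp only [add_zero] at h
    exact_mod_cast h
  obtain ⟨a, b, hab, habR⟩ := card_eq_two.mp hc2
  have haR : a ∈ R1 := by rw [habR]; simp
  have hbR : b ∈ R1 := by rw [habR]; simp
  have h5k : ∀ χ ∈ R0, k χ = 5 := fun χ h => by
    have hR' := (mem_filter.mp h).1
    have hc := hcong χ hR'
    rw [hz0' χ h, sub_zero] at hc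
    obtain ⟨j, hj⟩ := hc
    have hle : k χ * k χ ≤ 77 := hk2 ▸ single_le_sum (fun χ _ => mul_self_nonneg (k χ)) hR'
    have h0 := (hk χ (hmem χ hR')).1
    have : j ≤ 1 := by nlinarith
    omega
  have hk2' := hk2
  rw [hsplit, habR, sum_pair hab, sum_congr rfl fun χ h => by rw [h5k χ h], sum_const,
    nsmul_eq_mul] at hk2'
  have hkw' := hkw
  rw [hsplit, habR, sum_pair hab, sum_eq_zero fun χ h => by rw [hz0' χ h, mul_zero]] at hkw'
  have haR' := (mem_filter.mp haR).1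
  have hbR' := (mem_filter.mp hbR).1
  obtain ⟨hka0, hda⟩ := hk a (hmem a haR')
  obtain ⟨hkb0, hdb⟩ := hk b (hmem b hbR')
  have hn : (0 : ℤ) ≤ (R0.card : ℤ) := Int.natCast_nonneg _
  have hbk : k a ≤ 8 ∧ k b ≤ 8 := by constructor <;> nlinarith
  obtain ⟨ka, hka⟩ : ∃ n : Fin 9, (n : ℤ) = k a := ⟨⟨(k a).toNat, by omega⟩, by simp; omega⟩
  obtain ⟨kb, hkb⟩ : ∃ n : Fin 9, (n : ℤ) = k b := ⟨⟨(k b).toNat, by omega⟩, by simp; omega⟩
  obtain ⟨s, hs⟩ : ∃ s : Bool, (if s then (1 : ℤ) else -1) = w a := by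
    rcases hunit a haR with e | e
    · exact ⟨true, e.symm⟩
    · exact ⟨false, e.symm⟩
  obtain ⟨t, ht⟩ : ∃ t : Bool, (if t then (1 : ℤ) else -1) = w b := by
    rcases hunit b hbR with e | e
    · exact ⟨true, e.symm⟩
    · exact ⟨false, e.symm⟩
  have key := pairs_dec ka kb s t
  simp only [hs, ht, hka, hkb] at key
  have hsumd : ∑ χ ∈ R, deg χ = 11 * (k a + k b + 5 * (R0.card : ℤ)) := by
    rw [sum_congr rfl hd, ← mul_sum, hsplit, habR, sum_pair hab,
      sum_congr rfl fun χ h => by rw [h5k χ h], sum_const, nsmul_eq_mul]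
    ring
  rcases key (hcong a haR') (hcong b hbR') (by linarith) (by nlinarith) with
    ⟨e1, e2, e3, e4⟩ | ⟨e52, e10⟩
  · left
    refine ⟨a, b, hab, hmem a haR', hmem b hbR', by rw [hda, e1]; norm_num,
      by rw [hdb, e2]; norm_num, by rw [(hw a).1, e3]; norm_num, by rw [(hw b).1, e4]; norm_num,
      fun χ h hχa hχb => ?_, by rw [hsumd]; nlinarith⟩
    have hχR : χ ∈ R := mem_filter.mpr ⟨mem_univ _, h⟩
    have hχ0 : χ ∈ R0 := by
      refine mem_filter.mpr ⟨hχR, fun hne => ?_⟩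
      have : χ ∈ R1 := mem_filter.mpr ⟨hχR, hne⟩
      rw [habR] at this
      simp only [mem_insert, mem_singleton] at this
      tauto
    exact ⟨by rw [hd χ hχR, h5k χ hχ0]; norm_num, by rw [(hw χ).1, hz0' χ hχ0]; norm_num⟩
  · right
    rw [hsumd]
    nlinarith

end Cfsg.Agent.Lib.RecogThree.M12.Column
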