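import Mathlib.Data.Fin.VecNotation
import Mathlib.Data.Fintype.Perm
import Mathlib.Data.Fintype.Pi
import Mathlib.Algebra.BigOperators.Fin
import Mathlib.Tactic.NormNum
import Mathlib.Data.Int.GCD

/-!
Arithmetic searches for simple groups of order `95040`: the signed degrees of the principal family
at the prime `11` and the possible values at an involution.
-/

set_option autoImplicit false

namespace Cfsg.Agent.Lib.RecogThree.M12.Combos

set_option synthInstance.maxSize 2000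
set_option synthInstance.maxHeartbeats 200000
set_option maxRecDepth 4000

/-- The possible signed degrees of the non-exceptional characters at the prime `11`. -/
def code : Fin 7 → ℤ := ![-10, 12, -32, 45, -54, -120, 144]

/-- The signed degree of the exceptional characters. -/
def tot (f : Fin 4 → Fin 7) : ℤ := 1 + code (f 0) + code (f 1) + code (f 2) + code (f 3)

/-- The arithmetic conditions on a family. -/
def Valid (f : Fin 4 → Fin 7) : Prop :=
  2 ≤ (tot f).natAbs ∧ (tot f).natAbs ∣ 95040 ∧ (11 : ℤ) ∣ tot f - 5 ∧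
    1 + code (f 0) ^ 2 + code (f 1) ^ 2 + code (f 2) ^ 2 + code (f 3) ^ 2 + 2 * tot f ^ 2 ≤ 95040

instance (f : Fin 4 → Fin 7) : Decidable (Valid f) := by unfold Valid; exact instDecidableAnd

theorem two_twelves : ∀ f : Fin 4 → Fin 7, Valid f → tot f ≠ 5 →
    (∃ i j, i ≠ j ∧ f i = 1 ∧ f j = 1) →
    ∃ σ : Equiv.Perm (Fin 4), f ∘ σ = ![0, 1, 1, 1] ∨ f ∘ σ = ![0, 1, 1, 3] ∨
      f ∘ σ = ![1, 1, 3, 4] := by
  decide +kernel

theorem no_ten : ∀ f : Fin 4 → Fin 7, Valid f → tot f ≠ 5 → (∀ i, f i ≠ 0) →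
    ((∃ i, f i = 6) ∨ tot f = 16) →
    ∃ σ : Equiv.Perm (Fin 4), f ∘ σ = ![1, 1, 3, 4] ∨ f ∘ σ = ![3, 3, 3, 5] ∨
      f ∘ σ = ![2, 2, 4, 6] ∨ f ∘ σ = ![3, 4, 5, 6] := by
  decide +kernel

theorem no_ten_one : ∀ f : Fin 4 → Fin 7, Valid f → tot f ≠ 5 → (∀ i, f i ≠ 0) →
    ((∃ i, f i = 6) ∨ tot f % 5 = 1) →
    ∃ σ : Equiv.Perm (Fin 4), f ∘ σ = ![1, 1, 3, 4] ∨ f ∘ σ = ![3, 3, 3, 5] ∨
      f ∘ σ = ![2, 2, 4, 6] ∨ f ∘ σ = ![3, 4, 5, 6] := by
  decide +kernel

/-- Lower bounds for the squared values at an involution centralising a Sylow `11`-subgroup. -/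
def low : Fin 7 → ℤ := ![0, 0, 144, 0, 100, 144, 144]

theorem five_even : ∀ f : Fin 4 → Fin 7, Valid f → (∀ i, f i ≠ 0 ∧ f i ≠ 1 ∧ f i ≠ 3) →
    (∃ i, f i = 2) ∧ (∃ i, f i = 4) ∧
      440 < 1 + low (f 0) + low (f 1) + low (f 2) + low (f 3) := by
  decide +kernel

theorem ten_even : ∀ a b c : Fin 10, a.1 + b.1 + c.1 ≤ 9 →
    let d : ℤ := 9 - a.1 - b.1 - c.1
    let T : ℤ := 1 - 32 * a.1 - 54 * b.1 - 120 * c.1 + 144 * d
    2 ≤ T.natAbs → T.natAbs ∣ 95040 → (11 : ℤ) ∣ T - 10 →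
      1 + 1024 * a.1 + 2916 * b.1 + 14400 * c.1 + 20736 * d + T ^ 2 ≤ 95040 →
        0 < a.1 ∧ 0 < b.1 := by
  decide +kernel

/-- The orders of the centralisers considered. -/
def cands : List ℕ := (List.range 4320).map (fun j => 2 * j + 2) |>.filter fun C => 8640 % C == 0

/-- The possible values at an involution with centraliser of order `C` of a character of degree
`d`. -/
def vals (C d : ℕ) : List ℤ :=
  let s := d / Nat.gcd d (95040 / C)
  ((List.range (2 * (d / s) + 1)).map fun j => ((s : ℤ) * ((j : ℤ) - (d / s : ℕ)))).filter fun v =>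
    decide (v.natAbs < d) && (((d : ℤ) - v) % 4 == 0) && decide (v * v < C)

/-- The relations satisfied by the values at an involution. -/
def rels (c : Fin 4 → ℤ) (T : ℤ) (C : ℕ) (v : Fin 4 → ℤ) (t : ℤ) : Bool :=
  decide (t.natAbs < T.natAbs) && ((T - t) % 4 == 0) &&
    decide (1 + v 0 ^ 2 + v 1 ^ 2 + v 2 ^ 2 + v 3 ^ 2 + 2 * t ^ 2 ≤ (C : ℤ)) &&
    decide ((T.natAbs : ℤ) ∣ ((95040 / C : ℕ) : ℤ) * t) &&
    decide (c 0 * c 1 * c 2 * c 3 * T + c 1 * c 2 * c 3 * T * v 0 ^ 2 +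
      c 0 * c 2 * c 3 * T * v 1 ^ 2 + c 0 * c 1 * c 3 * T * v 2 ^ 2 +
      c 0 * c 1 * c 2 * T * v 3 ^ 2 - c 0 * c 1 * c 2 * c 3 * t ^ 2 = 0)

/-- All solutions of the relations at an involution. -/
def solutions (c : Fin 4 → ℤ) (T : ℤ) : List (ℕ × List ℤ) :=
  cands.flatMap fun C => (vals C (c 0).natAbs).flatMap fun v₀ =>
    (vals C (c 1).natAbs).flatMap fun v₁ => (vals C (c 2).natAbs).flatMap fun v₂ =>
      (vals C (c 3).natAbs).filterMap fun v₃ =>
        let t := (1 + (c 0).sign * v₀ + (c 1).sign * v₁ + (c 2).sign * v₂ + (c 3).sign * v₃) *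
          T.sign
        if rels c T C ![v₀, v₁, v₂, v₃] t then some (C, [v₀, v₁, v₂, v₃, t]) else none

theorem solutions_27a : solutions ![-10, 12, 12, 12] 27 = [] := by decide +kernel

theorem solutions_16a : solutions ![12, 12, 45, -54] 16 = [] := by decide +kernel

theorem solutions_16b : solutions ![45, 45, 45, -120] 16 = [] := by decide +kernel

theorem solutions_27b : solutions ![-32, -32, -54, 144] 27 = [] := by decide +kernel

theorem solutions_target : solutions ![45, -54, -120, 144] 16 =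
    [(120, [5, 6, 0, -4, -4]), (120, [5, 6, 0, 4, 4]), (192, [-3, 6, -8, 0, 0]),
      (240, [5, 6, 0, -4, -4]), (240, [5, 6, 0, 4, 4]), (1440, [-15, 18, 0, 24, -8])] := by
  decide +kernel

end Cfsg.Agent.Lib.RecogThree.M12.Combos
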