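import Cfsg.Agent.Lib.RecogThree.M12.Combos
import Cfsg.Agent.Lib.RecogThree.M12.Basic
import Cfsg.Agent.Lib.Classif.SmallOrderKills3

/-!
Simple groups of order `95040`: the Sylow subgroups of order `11` are self-centralising, with
normalisers of order `55`.
-/

set_option autoImplicit false
set_option linter.style.haveILetI false
set_option linter.unusedSectionVars false

namespace Cfsg.Agent.Lib.RecogThree.M12.Local11

open Cfsg.Agent.Lib.Characters Cfsg.Agent.Lib.Characters.Basic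
open Cfsg.Agent.Lib.Classif Cfsg.Agent.Lib.Classif.SmallOrderKills3
open Cfsg.Agent.Lib.Classif.PrimeExceptional (deg apply_one_eq)
open Cfsg.Agent.Lib.RecogThree.M12.Combos
open Finset

universe u

theorem eleven_list : ∀ j : Fin 57, (11 * ((j : ℤ) - 28) + 1).natAbs ∣ 95040 →
    2 ≤ (11 * ((j : ℤ) - 28) + 1).natAbs → ∃ i : Fin 7, 11 * ((j : ℤ) - 28) + 1 = code i := by
  decide +kernel

/-- Lower bounds and divisibility from the values at an involution. -/
theorem low_facts (i : Fin 7) (h0 : i ≠ 0) (h1 : i ≠ 1) (h3 : i ≠ 3) {d v : ℤ} {k : ℕ}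
    (hd : d = ((code i).natAbs : ℤ)) (h44 : (44 : ℤ) ∣ d - v) (hlo : -d < v) (hhi : v < d)
    (hdk : d ∣ (k : ℤ) * v) : low i ≤ v ^ 2 ∧ (i = 2 → 8 ∣ k) ∧ (i = 4 → 27 ∣ k) := by
  obtain ⟨j, hj⟩ := h44
  fin_cases i <;> simp [code, low] at h0 h1 h3 hd ⊢ <;> subst hd
  · obtain rfl : v = -12 := by omega
    exact ⟨by norm_num, by omega⟩
  · have hv : v = 10 ∨ v = -34 := by omega
    rcases hv with rfl | rfl <;> exact ⟨by norm_num, by omega⟩
  · have hv : v = 76 ∨ v = 32 ∨ v = -12 ∨ v = -56 ∨ v = -100 := by omega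
    rcases hv with rfl | rfl | rfl | rfl | rfl <;> norm_num
  · have hv : v = 100 ∨ v = 56 ∨ v = 12 ∨ v = -32 ∨ v = -76 ∨ v = -120 := by omega
    rcases hv with rfl | rfl | rfl | rfl | rfl | rfl <;> norm_num

theorem signed_cases {c : ℤ} (h1 : (11 : ℤ) ∣ c - 1) (h2 : 2 ≤ c.natAbs) (hd : c.natAbs ∣ 95040)
    (hsq : c ^ 2 ≤ 95040) : ∃ i : Fin 7, c = code i := by
  obtain ⟨k, hk⟩ := h1
  have hb : -28 ≤ k ∧ k ≤ 28 := by constructor <;> nlinarith
  obtain rfl : c = 11 * k + 1 := by omega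
  obtain ⟨j, hj⟩ : ∃ j : Fin 57, (j : ℤ) - 28 = k := ⟨⟨(k + 28).toNat, by omega⟩, by simp; omega⟩
  have h := eleven_list j
  rw [hj] at h
  exact h hd h2

variable {G : Type u} [Group G] [Finite G] [IsSimpleGroup G] (h : Nat.card G = 95040)

include h

theorem not_isComm : ¬ IsMulCommutative G := not_comm h (by norm_num)

theorem card_p11 [Fact (Nat.Prime 11)] (P : Sylow 11 G) : Nat.card (P : Subgroup G) = 11 := by
  rw [SmallGroups.Sylow.card_sylow_eq P (a := 1) (m := 8640) (by rw [h]; norm_num) (by norm_num), pow_one]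

theorem card_p5 [Fact (Nat.Prime 5)] (R : Sylow 5 G) : Nat.card (R : Subgroup G) = 5 := by
  rw [SmallGroups.Sylow.card_sylow_eq R (a := 1) (m := 19008) (by rw [h]; norm_num) (by norm_num), pow_one]

/-- The codes of the signed degrees of a family at the prime `11`. -/
theorem exists_codes {P : Sylow 11 G} [Fact (Nat.Prime 11)] {e : ℕ}
    (D : FirstPowerData.Data P e) :
    ∃ f : Cfsg.IrrCharacter G → Fin 7, ∀ χ ∈ D.K, D.a χ * deg χ = code (f χ) := by
  classical
  haveI := Fintype.ofFinite G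
  have hperf := SmallGroups.Sylow.commutator_eq_top (not_isComm h)
  have hex : ∀ χ ∈ D.K, ∃ i : Fin 7, D.a χ * deg χ = code i := fun χ hχ => by
    obtain ⟨h1, h2, h3, h4⟩ := FirstPowerKills.signed_facts hperf (card_p11 h P) D hχ
    refine signed_cases h1 h2 (h ▸ h3) ?_
    rw [h4, show (95040 : ℤ) = (Nat.card G : ℤ) by rw [h]; norm_num]
    calc deg χ ^ 2 ≤ ∑ ψ ∈ D.K, deg ψ ^ 2 := single_le_sum (fun ψ _ => sq_nonneg (deg ψ)) hχ
      _ ≤ _ := by
        have := D.square_sum
        have : 0 ≤ (D.fam.card : ℤ) * deg D.θ ^ 2 :=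
          mul_nonneg (Int.natCast_nonneg _) (sq_nonneg _)
        linarith
  choose! f hf using hex
  exact ⟨f, hf⟩

theorem deg_of_code {P : Sylow 11 G} [Fact (Nat.Prime 11)] {e : ℕ}
    (D : FirstPowerData.Data P e) {χ : Cfsg.IrrCharacter G} (hχ : χ ∈ D.K) {i : Fin 7}
    (hi : D.a χ * deg χ = code i) : deg χ = (code i).natAbs ∧ D.a χ = (code i).sign := by
  have h2 := (D.two_le (SmallGroups.Sylow.commutator_eq_top (not_isComm h))).1 χ hχ
  rcases D.a_unit χ hχ with e' | e' <;> rw [e'] at hi ⊢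
  · rw [one_mul] at hi
    rw [← hi]
    exact ⟨by omega, (Int.sign_eq_one_of_pos (by omega)).symm⟩
  · rw [neg_one_mul] at hi
    rw [← hi]
    exact ⟨by omega, (Int.sign_eq_neg_one_of_neg (by omega)).symm⟩

/-- The values at an involution centralising a Sylow `11`-subgroup. -/
theorem even_values {P : Sylow 11 G} [Fact (Nat.Prime 11)] {e : ℕ}
    (D : FirstPowerData.Data P e) {χ : Cfsg.IrrCharacter G} (hχ : χ ∈ D.K) {q : G}
    (hq : q ∈ Subgroup.centralizer ((P : Subgroup G) : Set G)) (hq2 : orderOf q = 2) :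
    ∃ v : ℤ, (χ : G → ℂ) q = v ∧ (44 : ℤ) ∣ deg χ - v ∧ -deg χ < v ∧ v < deg χ ∧
      deg χ ∣ ((Subgroup.centralizer ({q} : Set G)).index : ℤ) * v := by
  have hG := not_isComm h
  obtain ⟨v, hv, h11, h4, -, hlt⟩ :=
    FirstPowerKills.involution_value hG (by norm_num) (card_p11 h P) D hχ hq hq2
  have habs := Basic.abs_lt hG χ (fun e' => D.one_not_mem (e' ▸ hχ)) (g := q)
    (fun e' => by rw [e', orderOf_one] at hq2; omega) hv
  refine ⟨v, hv, ?_, (abs_lt.mp habs).1, hlt, Basic.deg_dvd_index_mul χ hv⟩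
  have hd : (11 : ℤ) ∣ deg χ - v := by
    have := (D.deg_cong (card_p11 h P) hχ)
    have := dvd_sub this h11
    simpa using this
  exact (show IsCoprime (11 : ℤ) 4 by norm_num).mul_dvd hd h4

set_option maxHeartbeats 1600000 in
/-- The Sylow `11`-subgroup has odd centraliser. -/
theorem not_even [Fact (Nat.Prime 11)] (P : Sylow 11 G) {e c : ℕ} (he : e ∣ 10) (he1 : 1 < e)
    (hc11 : 11 ∣ c) (hC : Nat.card (Subgroup.centralizer ((P : Subgroup G) : Set G)) = c)
    (hN : Nat.card (Subgroup.normalizer ((P : Subgroup G) : Set G)) = c * e)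
    (hce : c * e * Nat.card (Sylow 11 G) = 95040) : ¬ 2 ∣ c := by
  classical
  intro h2
  haveI : Fact (Nat.Prime 2) := ⟨Nat.prime_two⟩
  haveI : Fact (Nat.Prime 5) := ⟨by norm_num⟩
  have hG := not_isComm h
  have hP := card_p11 h P
  have hperf := SmallGroups.Sylow.commutator_eq_top hG
  set C := Subgroup.centralizer ((P : Subgroup G) : Set G) with hCdef
  set N := Subgroup.normalizer ((P : Subgroup G) : Set G) with hNdef
  obtain ⟨⟨q₀, hq₀⟩, hqo⟩ := exists_prime_orderOf_dvd_card' (G := C) 2 (hC ▸ h2)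
  rw [Subgroup.orderOf_mk] at hqo
  have hrel : C.relIndex N = e := by
    have h' := SmallGroups.Sylow.card_centralizer_mul_relIndex (P : Subgroup G)
    rw [← hCdef, ← hNdef, hN, hC] at h'
    exact Nat.eq_of_mul_eq_mul_left (Nat.pos_of_ne_zero fun e' => by
      rw [e', zero_mul, zero_mul] at hce; norm_num at hce) h'
  obtain ⟨D⟩ := FirstPowerData.exists_data P hP hrel
  obtain ⟨f, hf⟩ := exists_codes h D
  -- no member of degree ten or twelve
  have hsmall : ∀ χ ∈ D.K, 22 < deg χ := by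
    intro χ hχ
    obtain ⟨v, -, h44, hlo, hhi, -⟩ := even_values h D hχ hq₀ hqo
    obtain ⟨k, hk⟩ := h44
    omega
  have hcode : ∀ χ ∈ D.K, f χ ≠ 0 ∧ f χ ≠ 1 := by
    intro χ hχ
    have h1 := (deg_of_code h D hχ (hf χ hχ)).1
    have h2' := hsmall χ hχ
    constructor <;> intro e' <;> rw [e'] at h1 <;>
      norm_num [code] at h1 <;> omega
  obtain ⟨hθd, hθ2, hθ3, hθ4⟩ := FirstPowerKills.theta_facts hperf D
    (S := ∑ χ ∈ D.K, code (f χ)) (sum_congr rfl hf)
  have hcong := D.θ_cong hP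
  rw [← D.degree_eq, sum_congr rfl hf] at hcong
  rw [h] at hθ3
  have hsq := D.square_sum
  rw [hθ4, h, show ∑ χ ∈ D.K, deg χ ^ 2 = ∑ χ ∈ D.K, code (f χ) ^ 2 from
    sum_congr rfl fun χ hχ => by
      rw [← (FirstPowerKills.signed_facts hperf hP D hχ).2.2.2, hf χ hχ]] at hsq
  have hK := D.card_K
  have hfam := D.fam_card
  have he' : e = 2 ∨ e = 5 ∨ e = 10 := by
    have := Nat.le_of_dvd (by norm_num) he
    interval_cases e <;> norm_num at *
  rcases he' with rfl | rfl | rfl
  · -- a single member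
    obtain ⟨χ, hχ⟩ := card_eq_one.mp (show D.K.card = 1 by omega)
    have hmem : χ ∈ D.K := hχ ▸ mem_singleton_self χ
    rw [hχ, sum_singleton] at hcong hθ3
    have key : ∀ i : Fin 7, i ≠ 0 → (1 + code i).natAbs ∣ 95040 → False := by decide +kernel
    exact key _ (hcode χ hmem).1 hθ3
  all_goals
    have hn11 : Nat.card (Sylow 11 G) = 12 ∨ Nat.card (Sylow 11 G) = 144 := by
      have hm := SmallGroups.Sylow.card_sylow_mod (G := G) (p := 11)
      have hne := SmallGroups.Sylow.card_sylow_ne_one (p := 11) (G := G) (a := 1) (m := 8640)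
        (by rw [h]; norm_num) (by norm_num) one_ne_zero (by norm_num)
      obtain ⟨j, hj⟩ := hc11
      obtain ⟨i, hi⟩ : ∃ i, j = 2 * i := by
        have : 2 ∣ j := (Nat.Coprime.dvd_mul_left (by norm_num)).mp (hj ▸ h2)
        exact this
      have hdvd : Nat.card (Sylow 11 G) ∣ 864 := by
        subst hj hi
        first
          | exact ⟨i, by nlinarith⟩
          | exact ⟨i * 2, by nlinarith⟩
      generalize Nat.card (Sylow 11 G) = n at *
      have hle := Nat.le_of_dvd (by norm_num) hdvd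
      have key : ∀ n ∈ Nat.divisors 864, n % 11 = 1 → n ≠ 1 → n = 12 ∨ n = 144 := by decide +kernel
      exact key n (Nat.mem_divisors.mpr ⟨hdvd, by norm_num⟩) hm hne
    rcases hn11 with hn | hn
    · refine false_of_even_centralizer hG (by norm_num) P hP h hn (by norm_num) hC h2 ?_
      rw [hn] at hce
      have : c ∈ [1584, 792] := by simp; omega
      revert this
      revert c
      intro c _ _ _ _ _ hmem
      simp only [List.mem_cons, List.not_mem_nil, or_false] at hmem
      rcases hmem with rfl | rfl <;> decide +kernel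
    -- an element of order five of `N` centralising an involution of `C`
    rw [hn] at hce
    have hcm : c = 132 ∨ c = 66 := by omega
    haveI hCN : (C.subgroupOf N).Normal := Subgroup.normal_subgroupOf_centralizer_normalizer _
      |> fun h' => by exact h'
    obtain ⟨q, w, hqC, hq, hwo, hwN, hcomm⟩ : ∃ q w : G, q ∈ C ∧ orderOf q = 2 ∧
        orderOf w = 5 ∧ w ∈ N ∧ Commute w q := by
      obtain ⟨S⟩ := (inferInstance : Nonempty (Sylow 2 (C.subgroupOf N)))
      set K := Subgroup.normalizer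
        ((((S : Subgroup (C.subgroupOf N)).map (C.subgroupOf N).subtype : Subgroup N)) : Set N)
      have hsup : K ⊔ C.subgroupOf N = ⊤ := Sylow.normalizer_sup_eq_top S
      have hCc : Nat.card (C.subgroupOf N) = c := by
        rw [Nat.card_congr (Subgroup.subgroupOfEquivOfLe
          (Subgroup.centralizer_le_normalizer _)).toEquiv, hC]
      have h5K : 5 ∣ Nat.card K := by
        have h5 : 5 ∣ Nat.card N := by rw [hN]; omega
        have hdvd : Nat.card N ∣ Nat.card K * Nat.card (C.subgroupOf N) := by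
          rw [← Subgroup.card_mul_index (C.subgroupOf N), mul_comm (Nat.card K)]
          refine Nat.mul_dvd_mul_left _ ?_
          rw [← Subgroup.relIndex_top_right, ← hsup, Subgroup.relIndex_sup_right]
          exact Subgroup.relIndex_dvd_card _ _
        rcases (Nat.Prime.dvd_mul (by norm_num)).mp (h5.trans hdvd) with h' | h'
        · exact h'
        · rw [hCc] at h'; omega
      obtain ⟨⟨⟨w, hwN⟩, hwK⟩, hwo⟩ := exists_prime_orderOf_dvd_card' (G := K) 5 h5K
      rw [Subgroup.orderOf_mk, Subgroup.orderOf_mk] at hwo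
      set S' : Subgroup G :=
        ((S : Subgroup (C.subgroupOf N)).map (C.subgroupOf N).subtype).map N.subtype
      have hS'C : S' ≤ C := by
        rintro _ ⟨a, ⟨b, -, rfl⟩, rfl⟩
        exact b.2
      have hS'card : Nat.card S' = 2 ∨ Nat.card S' = 4 := by
        rw [Subgroup.card_map_of_injective N.subtype_injective,
          Subgroup.card_map_of_injective (C.subgroupOf N).subtype_injective]
        rcases hcm with rfl | rfl
        · exact Or.inr (by rw [SmallGroups.Sylow.card_sylow_eq S (a := 2) (m := 33) (by rw [hCc]; norm_num)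
            (by norm_num)]; norm_num)
        · exact Or.inl (by rw [SmallGroups.Sylow.card_sylow_eq S (a := 1) (m := 33) (by rw [hCc]; norm_num)
            (by norm_num), pow_one])
      have hconj : ∀ s ∈ S', w * s * w⁻¹ ∈ S' := by
        rintro _ ⟨a, ha, rfl⟩
        exact ⟨⟨w, hwN⟩ * a * ⟨w, hwN⟩⁻¹, (Subgroup.mem_normalizer_iff.mp hwK a).mp ha, rfl⟩
      -- the permutation induced on the elements of `S'`
      let σ : Equiv.Perm S' := Equiv.ofBijective (fun s => ⟨w * s * w⁻¹, hconj s s.2⟩)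
        (Finite.injective_iff_bijective.mp fun s t hst => Subtype.ext (by
          have := congrArg Subtype.val hst
          simpa using this))
      have hpow : ∀ (j : ℕ) (s : S'), ((σ ^ j) s : G) = w ^ j * s * (w ^ j)⁻¹ := by
        intro j
        induction j with
        | zero => simp
        | succ j ih =>
          intro s
          rw [pow_succ', Equiv.Perm.mul_apply]
          show w * ((σ ^ j) s : G) * w⁻¹ = _
          rw [ih, pow_succ']
          group
      have hσ5 : σ ^ 5 = 1 := Equiv.ext fun s => Subtype.ext (by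
        rw [hpow, ← hwo, pow_orderOf_eq_one]; simp)
      have hσ : σ = 1 := by
        by_contra hne
        have ho : orderOf σ = 5 := orderOf_eq_prime hσ5 hne
        have hd := ho ▸ orderOf_dvd_natCard σ
        rw [Nat.card_perm] at hd
        rcases hS'card with e' | e' <;> rw [e'] at hd <;> norm_num [Nat.factorial] at hd
      have h2S : 2 ∣ Nat.card S' := by rcases hS'card with e' | e' <;> rw [e'] <;> norm_num
      obtain ⟨⟨q, hqS⟩, hq⟩ := exists_prime_orderOf_dvd_card' (G := S') 2 h2S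
      rw [Subgroup.orderOf_mk] at hq
      refine ⟨q, w, hS'C hqS, hq, hwo, hwN, ?_⟩
      have := congrArg Subtype.val (Equiv.Perm.ext_iff.mp hσ ⟨q, hqS⟩)
      exact mul_inv_eq_iff_eq_mul.mp this
    -- the order of the centraliser of `q`
    set Cq := Subgroup.centralizer ({q} : Set G) with hCq
    set k := Cq.index with hk
    have hmul : Nat.card Cq * k = 95040 := by rw [hk, Subgroup.card_mul_index, h]
    have hwCq : w ∈ Cq := Subgroup.mem_centralizer_singleton_iff.mpr hcomm.eq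
    have h5Cq : 5 ∣ Nat.card Cq := hwo ▸ Subgroup.orderOf_dvd_natCard _ hwCq
    have h5k : ¬ 5 ∣ k := fun hd => by
      have := Nat.mul_dvd_mul h5Cq hd
      rw [hmul] at this
      norm_num at this
    choose v hv h44 hlo hhi hdk using fun χ (hχ : χ ∈ D.K) => even_values h D hχ hqC hq
    have hno45 : ∀ χ ∈ D.K, f χ ≠ 3 := by
      intro χ hχ e'
      have h1 := (deg_of_code h D hχ (hf χ hχ)).1
      rw [e'] at h1
      have h45 := hdk χ hχ
      obtain ⟨j, hj⟩ := h44 χ hχ
      have := hlo χ hχ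
      have := hhi χ hχ
      have h1' : deg χ = 45 := h1.trans (by rfl)
      rw [h1'] at h45
      have hvv : v χ hχ = 1 ∨ v χ hχ = -43 := by omega
      refine h5k ?_
      have h5 : (5 : ℤ) ∣ (k : ℤ) * v χ hχ := (by norm_num : (5 : ℤ) ∣ 45).trans h45
      rcases (Nat.prime_iff_prime_int.mp (by norm_num : Nat.Prime 5)).dvd_or_dvd h5 with h' | h'
      · exact_mod_cast h'
      · rcases hvv with e'' | e'' <;> rw [e''] at h' <;> norm_num at h'
    have hlow : ∀ χ (hχ : χ ∈ D.K), low (f χ) ≤ v χ hχ ^ 2 ∧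
        (f χ = 2 → 8 ∣ k) ∧ (f χ = 4 → 27 ∣ k) := fun χ hχ =>
      low_facts _ (hcode χ hχ).1 (hcode χ hχ).2 (hno45 χ hχ) (deg_of_code h D hχ (hf χ hχ)).1
        (h44 χ hχ) (hlo χ hχ) (hhi χ hχ) (hdk χ hχ)
    have hbudget : 1 + ∑ χ ∈ D.K, low (f χ) ≤ (Nat.card Cq : ℤ) := by
      have hv' : ∀ χ : Cfsg.IrrCharacter G, ∃ z : ℤ, χ ∈ D.K →
          (χ : G → ℂ) q = z ∧ low (f χ) ≤ z ^ 2 := fun χ => by
        by_cases hχ : χ ∈ D.K
        · exact ⟨v χ hχ, fun _ => ⟨hv χ hχ, (hlow χ hχ).1⟩⟩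
        · exact ⟨0, fun h' => absurd h' hχ⟩
      choose z hz using hv'
      obtain ⟨t, ht, -, -⟩ := FirstPowerData.exists_int_mod_four hperf D.θ
        (show q * q = 1 by rw [← pow_two, ← hq, pow_orderOf_eq_one])
      have hle := D.centralizer_le (g := q) (by rw [hq]; norm_num) z t (fun χ hχ => (hz χ hχ).1) ht
      rw [← hCq] at hle
      have hsum : ∑ χ ∈ D.K, low (f χ) ≤ ∑ χ ∈ D.K, z χ ^ 2 :=
        sum_le_sum fun χ hχ => (hz χ hχ).2
      have : (0 : ℤ) ≤ D.fam.card * t ^ 2 := by positivity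
      linarith
    have hfinal : (∃ χ ∈ D.K, f χ = 2) → (∃ χ ∈ D.K, f χ = 4) →
        Nat.card Cq ∣ 440 := by
      rintro ⟨χ, hχ, hχ2⟩ ⟨ψ, hψ, hψ4⟩
      have h216 : 216 ∣ k := Nat.Coprime.mul_dvd_of_dvd_of_dvd (by norm_num)
        ((hlow χ hχ).2.1 hχ2) ((hlow ψ hψ).2.2 hψ4)
      refine Nat.dvd_of_mul_dvd_mul_right (by norm_num : 0 < 216) ?_
      rw [show 440 * 216 = 95040 by norm_num, ← hmul]
      exact Nat.mul_dvd_mul_left _ h216
  · -- `e = 5`
    let ι : Fin 4 ≃ {χ // χ ∈ D.K} := (D.K.equivFinOfCardEq (show D.K.card = 4 by omega)).symm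
    have hsumK : ∀ g : Cfsg.IrrCharacter G → ℤ, ∑ χ ∈ D.K, g χ =
        g (ι 0) + g (ι 1) + g (ι 2) + g (ι 3) := fun g => by
      rw [← sum_coe_sort D.K g, ← ι.sum_comp (fun χ => g χ), Fin.sum_univ_four]
    rw [hsumK, hsumK, show D.fam.card = 2 by omega] at hsq
    rw [hsumK] at hθ2 hθ3 hcong hbudget
    push_cast at hsq hcong
    have hval : Valid (fun i => f (ι i)) := by
      refine ⟨?_, ?_, ?_, ?_⟩ <;> simp only [tot]
      · convert hθ2 using 2; ring
      · convert hθ3 using 2; ring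
      · convert hcong using 1; ring
      · linarith
    obtain ⟨⟨i, hi⟩, ⟨j, hj⟩, hw⟩ := five_even _ hval fun i =>
      ⟨(hcode _ (ι i).2).1, (hcode _ (ι i).2).2, hno45 _ (ι i).2⟩
    have h440 := Nat.le_of_dvd (by norm_num) (hfinal ⟨_, (ι i).2, hi⟩ ⟨_, (ι j).2, hj⟩)
    have : (Nat.card Cq : ℤ) ≤ 440 := by exact_mod_cast h440
    linarith
  · -- `e = 10`
    have hK9 : D.K.card = 9 := by omega
    set n : Fin 7 → ℕ := fun i => (D.K.filter fun χ => f χ = i).card
    have hsum : ∀ g : Fin 7 → ℤ, ∑ χ ∈ D.K, g (f χ) = ∑ i, (n i : ℤ) * g i := fun g => by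
      rw [← sum_fiberwise D.K f (fun χ => g (f χ))]
      refine sum_congr rfl fun i _ => ?_
      rw [sum_congr rfl (g := fun _ => g i) fun χ hχ => by rw [(mem_filter.mp hχ).2],
        sum_const, nsmul_eq_mul]
    have hzero : ∀ i : Fin 7, i = 0 ∨ i = 1 ∨ i = 3 → n i = 0 := by
      intro i hi
      rw [card_eq_zero, filter_eq_empty_iff]
      intro χ hχ e'
      rcases hi with rfl | rfl | rfl
      · exact (hcode χ hχ).1 e'
      · exact (hcode χ hχ).2 e'
      · exact hno45 χ hχ e'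
    have htot : (n 2 : ℤ) + n 4 + n 5 + n 6 = 9 := by
      have := hsum fun _ => 1
      rw [Fin.sum_univ_seven, hzero 0 (by simp), hzero 1 (by simp), hzero 3 (by simp)] at this
      simp only [sum_const, nsmul_eq_mul, mul_one, hK9] at this
      push_cast at this
      linarith
    rw [hsum code, Fin.sum_univ_seven, hzero 0 (by simp), hzero 1 (by simp),
      hzero 3 (by simp)] at hθ2 hθ3 hcong
    rw [hsum fun i => code i ^ 2, Fin.sum_univ_seven, hzero 0 (by simp), hzero 1 (by simp),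
      hzero 3 (by simp), show D.fam.card = 1 by omega] at hsq
    rw [hsum low, Fin.sum_univ_seven, hzero 0 (by simp), hzero 1 (by simp),
      hzero 3 (by simp)] at hbudget
    rw [hsum code, Fin.sum_univ_seven, hzero 0 (by simp), hzero 1 (by simp),
      hzero 3 (by simp)] at hsq
    simp only [code, low, Matrix.cons_val] at hθ2 hθ3 hcong hsq hbudget
    push_cast at hθ2 hθ3 hcong hsq hbudget
    have hn6 : (n 6 : ℤ) = 9 - n 2 - n 4 - n 5 := by linarith
    rw [hn6] at hθ2 hθ3 hcong hsq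
    have hT : (1 : ℤ) - 32 * n 2 - 54 * n 4 - 120 * n 5 + 144 * (9 - n 2 - n 4 - n 5) =
        1 + (((((0 + 0) + (n 2 : ℤ) * -32) + 0) + (n 4 : ℤ) * -54) + (n 5 : ℤ) * -120 +
          (9 - n 2 - n 4 - n 5) * 144) := by ring
    obtain ⟨hn2, hn4⟩ := ten_even ⟨n 2, by omega⟩ ⟨n 4, by omega⟩ ⟨n 5, by omega⟩
      (by simp only; omega) (by simp only; rw [hT]; convert hθ2 using 3 <;> ring)
      (by simp only; rw [hT]; convert hθ3 using 3 <;> ring)
      (by simp only; rw [hT]; convert hcong using 2 <;> ring)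
      (by simp only; nlinarith)
    obtain ⟨χ, hχ⟩ := card_pos.mp hn2
    obtain ⟨ψ, hψ⟩ := card_pos.mp hn4
    have h440 := Nat.le_of_dvd (by norm_num)
      (hfinal ⟨χ, (mem_filter.mp hχ).1, (mem_filter.mp hχ).2⟩
        ⟨ψ, (mem_filter.mp hψ).1, (mem_filter.mp hψ).2⟩)
    have : (Nat.card Cq : ℤ) ≤ 440 := by exact_mod_cast h440
    have hw : (100 : ℤ) * 9 ≤ (n 2 : ℤ) * 144 + n 4 * 100 + n 5 * 144 + n 6 * 144 := by omega
    linarith

/-- The Sylow `11`-data. -/
theorem p11_data [Fact (Nat.Prime 11)] (P : Sylow 11 G) :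
    Nat.card (Sylow 11 G) = 1728 ∧
      Subgroup.centralizer ((P : Subgroup G) : Set G) = (P : Subgroup G) ∧
      Nat.card (Subgroup.normalizer ((P : Subgroup G) : Set G)) = 5 * 11 := by
  obtain ⟨-, hd⟩ := prime_data (not_isComm h) (p := 11) (m := 8640) h (by norm_num) (by norm_num)
    (by norm_num)
  obtain ⟨hP, e, c, he, he1, hc, hC, hN, hce⟩ := hd P
  have hodd := not_even h P he he1 hc hC hN hce
  have hm := SmallGroups.Sylow.card_sylow_mod (G := G) (p := 11)
  obtain ⟨j, rfl⟩ := hc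
  have hn : Nat.card (Sylow 11 G) ∣ 8640 :=
    ⟨e * j, by nlinarith⟩
  have hne := SmallGroups.Sylow.card_sylow_ne_one (p := 11) (G := G) (a := 1) (m := 8640)
    (by rw [h]; norm_num) (by norm_num) one_ne_zero (by norm_num)
  have key : ∀ n ∈ Nat.divisors 8640, n % 11 = 1 → n ≠ 1 →
      n = 12 ∨ n = 45 ∨ n = 144 ∨ n = 320 ∨ n = 540 ∨ n = 1728 := by decide +kernel
  have hn' := key _ (Nat.mem_divisors.mpr ⟨hn, by norm_num⟩) hm hne
  have hej : j * e * Nat.card (Sylow 11 G) = 8640 := by nlinarith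
  have hj : ¬ 2 ∣ j := fun hd' => hodd (hd'.mul_left 11)
  have he' : e = 2 ∨ e = 5 ∨ e = 10 := by
    have := Nat.le_of_dvd (by norm_num) he
    interval_cases e <;> norm_num at *
  have h1728 : Nat.card (Sylow 11 G) = 1728 ∧ j = 1 ∧ e = 5 := by
    rcases hn' with e1 | e1 | e1 | e1 | e1 | e1 <;> rw [e1] at hej <;>
      rcases he' with rfl | rfl | rfl <;> omega
  obtain ⟨h1, rfl, rfl⟩ := h1728
  refine ⟨h1, (Subgroup.eq_of_le_of_card_ge ?_ (by rw [hC, hP])).symm,
    by rw [hN]⟩
  intro x hx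
  rw [Subgroup.mem_centralizer_iff]
  intro y hy
  haveI := isCyclic_of_prime_card hP
  exact congrArg Subtype.val
    ((IsCyclic.commGroup (α := (P : Subgroup G))).mul_comm ⟨y, hy⟩ ⟨x, hx⟩)

end Cfsg.Agent.Lib.RecogThree.M12.Local11
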