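import Cfsg.Agent.Lib.RecogThree.M11.Counts
import Cfsg.Agent.Lib.RecogThree.M12.Local11

/-!
Groups of order `95040`, not assumed simple: `1728` Sylow `11`-subgroups force simplicity, and the
numbers of elements of given order in a simple group of that order give this number.
-/

set_option autoImplicit false
set_option linter.style.haveILetI false
set_option linter.unusedSectionVars false

namespace Cfsg.Agent.Lib.RecogThree.M12.Counts

open Cfsg.Agent.Lib.SmallGroups

universe u v

variable {G : Type u} [Group G] [Finite G] [Fact (Nat.Prime 11)]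

section Normal

variable (h : Nat.card G = 95040) (hn : Nat.card (Sylow 11 G) = 1728)

include h

theorem card_P (P : Sylow 11 G) : Nat.card (P : Subgroup G) = 11 := by
  rw [Sylow.card_sylow_eq P (a := 1) (m := 8640) (by rw [h]; norm_num) (by norm_num), pow_one]

include hn

theorem card_N (P : Sylow 11 G) :
    Nat.card (Subgroup.normalizer ((P : Subgroup G) : Set G)) = 55 := by
  have := Sylow.card_normalizer_mul P
  rw [hn, h] at this
  omega

/-- The centraliser of an element of order `11` has order dividing `55`. -/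
theorem orderOf_dvd_of_commute {w v : G} (hw : orderOf w = 11) (hc : Commute v w) :
    orderOf v ∣ 55 := by
  obtain ⟨W, hW⟩ := (IsPGroup.of_card (p := 11) (n := 1)
    (by rw [Nat.card_zpowers, hw, pow_one] : Nat.card (Subgroup.zpowers w) = 11 ^ 1)).exists_le_sylow
  have hWeq : (W : Subgroup G) = Subgroup.zpowers w :=
    (Subgroup.eq_of_le_of_card_ge hW (by rw [card_P h W, Nat.card_zpowers, hw])).symm
  rw [← card_N h hn W]
  refine Subgroup.orderOf_dvd_natCard _ (Subgroup.centralizer_le_normalizer _ ?_)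
  rw [Subgroup.mem_centralizer_iff]
  intro b hb
  rw [hWeq, SetLike.mem_coe] at hb
  obtain ⟨k, rfl⟩ := Subgroup.mem_zpowers_iff.mp hb
  exact ((hc.zpow_right k).eq).symm

/-- A normal subgroup of order prime to `11` has order dividing `5`. -/
theorem card_dvd_five (M : Subgroup G) [M.Normal] (hM : ¬ 11 ∣ Nat.card M) : Nat.card M ∣ 5 := by
  have hidx : 11 ∣ M.index := by
    have hmul := Subgroup.card_mul_index M
    rw [h] at hmul
    have hd : 11 ∣ Nat.card M * M.index := by rw [hmul]; norm_num
    exact ((by norm_num : Nat.Prime 11).dvd_mul.mp hd).resolve_left hM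
  have hsmall : ∀ (q : ℕ) [Fact q.Prime] (b : ℕ), q = 2 ∨ q = 3 →
      (∀ k, q ^ k ∣ 95040 → k ≤ b) →
      (∀ i ≤ b, ∀ j ≤ b, q ^ i % 11 = q ^ j % 11 → i = j) → ¬ q ∣ Nat.card M := by
    intro q _ b hq hb hinj hqM
    obtain ⟨S⟩ := (inferInstance : Nonempty (Sylow q M))
    have hsup := Sylow.normalizer_sup_eq_top S
    set T : Subgroup G := (S : Subgroup M).map M.subtype
    have hTc : Nat.card T = Nat.card (S : Subgroup M) :=
      Subgroup.card_map_of_injective M.subtype_injective
    obtain ⟨a, ha⟩ := IsPGroup.iff_card.mp S.isPGroup'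
    have haT : Nat.card T = q ^ a := hTc.trans ha
    have hab : a ≤ b := hb a (h ▸ haT ▸ Subgroup.card_subgroup_dvd_card T)
    have h11 : 11 ∣ Nat.card (Subgroup.normalizer (T : Set G)) := by
      refine hidx.trans ?_
      rw [← Subgroup.relIndex_top_right, ← hsup, Subgroup.relIndex_sup_right]
      exact Subgroup.relIndex_dvd_card _ _
    obtain ⟨⟨w, hwN⟩, hwo⟩ :=
      exists_prime_orderOf_dvd_card' (G := Subgroup.normalizer (T : Set G)) 11 h11
    rw [Subgroup.orderOf_mk] at hwo
    have hcomm := M11.Order7920.centralizes hwo T hwN fun d hd hm => by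
      rw [haT] at hd hm ⊢
      obtain ⟨i, hi, rfl⟩ := (Nat.dvd_prime_pow Fact.out).mp hd
      rw [hinj i (hi.trans hab) a hab hm]
    have hqT : q ∣ Nat.card T := hTc ▸ S.dvd_card_of_dvd_card hqM
    obtain ⟨⟨v, hvT⟩, hvo⟩ := exists_prime_orderOf_dvd_card' (G := T) q hqT
    rw [Subgroup.orderOf_mk] at hvo
    have := orderOf_dvd_of_commute h hn hwo (hcomm v hvT)
    rw [hvo] at this
    rcases hq with rfl | rfl <;> norm_num at this
  haveI : Fact (Nat.Prime 2) := ⟨Nat.prime_two⟩
  haveI : Fact (Nat.Prime 3) := ⟨Nat.prime_three⟩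
  have h2 := hsmall 2 6 (Or.inl rfl) (fun k hk => by
    by_contra hlt
    have := (Nat.pow_dvd_pow 2 (show 7 ≤ k by omega)).trans hk
    norm_num at this) (by decide +kernel)
  have h3 := hsmall 3 3 (Or.inr rfl) (fun k hk => by
    by_contra hlt
    have := (Nat.pow_dvd_pow 3 (show 4 ≤ k by omega)).trans hk
    norm_num at this) (by decide +kernel)
  have hcop : Nat.Coprime (Nat.card M) (2 ^ 6 * 3 ^ 3 * 11) := by
    refine (Nat.Coprime.mul_right ?_ ?_).mul_right ?_
    · exact (((Nat.prime_two.coprime_iff_not_dvd).mpr h2).symm).pow_right 6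
    · exact (((Nat.prime_three.coprime_iff_not_dvd).mpr h3).symm).pow_right 3
    · exact ((Nat.Prime.coprime_iff_not_dvd (by norm_num)).mpr hM).symm
  refine hcop.dvd_of_dvd_mul_left ?_
  have := Subgroup.card_subgroup_dvd_card M
  rw [h] at this
  norm_num
  exact this

/-- A normal subgroup of order prime to `11` is trivial. -/
theorem eq_bot_of_not_dvd (M : Subgroup G) [M.Normal] (hM : ¬ 11 ∣ Nat.card M) : M = ⊥ := by
  rcases (Nat.dvd_prime (by norm_num)).mp (card_dvd_five h hn M hM) with e | e
  · exact Subgroup.eq_bot_of_card_eq _ e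
  exfalso
  obtain ⟨P⟩ := (inferInstance : Nonempty (Sylow 11 G))
  have hP := card_P h P
  set N := Subgroup.normalizer ((P : Subgroup G) : Set G)
  set C := Subgroup.centralizer ((P : Subgroup G) : Set G)
  have hle : N ≤ C := by
    have h5 : ∀ v ∈ M, v ∈ C := by
      intro v hv
      rw [Subgroup.mem_centralizer_iff]
      intro b hb
      by_cases hb1 : b = 1
      · rw [hb1, one_mul, mul_one]
      have hbo : orderOf b = 11 :=
        ((Nat.dvd_prime (by norm_num)).mp (hP ▸ Subgroup.orderOf_dvd_natCard _ hb)).resolve_left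
          (by rwa [orderOf_eq_one_iff])
      have hbN : b ∈ Subgroup.normalizer (M : Set G) := by
        rw [Subgroup.normalizer_eq_top]; exact Subgroup.mem_top b
      exact (M11.Order7920.centralizes hbo M hbN (fun d hd hm => by
        rw [e] at hd hm ⊢
        have := Nat.le_of_dvd (by norm_num) hd
        omega) v hv).eq.symm
    have hPC : (P : Subgroup G) ≤ C := by
      haveI := isCyclic_of_prime_card hP
      intro a ha
      rw [Subgroup.mem_centralizer_iff]
      intro b hb
      exact congrArg Subtype.val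
        ((IsCyclic.commGroup (α := (P : Subgroup G))).mul_comm ⟨b, hb⟩ ⟨a, ha⟩)
    have hd : 55 ∣ Nat.card C := by
      have := Nat.Coprime.mul_dvd_of_dvd_of_dvd (by norm_num : Nat.Coprime 11 5)
        (hP ▸ Subgroup.card_dvd_of_le hPC) (e ▸ Subgroup.card_dvd_of_le h5)
      exact this
    exact (Subgroup.eq_of_le_of_card_ge (Subgroup.centralizer_le_normalizer _)
      ((card_N h hn P).trans_le (Nat.le_of_dvd Nat.card_pos hd))).ge
  set K := (MonoidHom.transferSylow P hle).ker
  have hK : ¬ 11 ∣ Nat.card K := MonoidHom.not_dvd_card_ker_transferSylow P hle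
  have hKc : Nat.card K * 11 = 95040 := by
    have := (MonoidHom.ker_transferSylow_isComplement' P hle).card_mul
    rwa [hP, h] at this
  have := Nat.le_of_dvd (by norm_num) (card_dvd_five h hn K hK)
  omega

/-- A group of order `95040` with `1728` Sylow `11`-subgroups is simple. -/
theorem isSimpleGroup_of_1728 : IsSimpleGroup G := by
  haveI : Nontrivial G := Finite.one_lt_card_iff_nontrivial.mp (by omega)
  refine ⟨fun L hL => ?_⟩
  haveI := hL
  by_cases h11 : 11 ∣ Nat.card L
  swap
  · exact Or.inl (eq_bot_of_not_dvd h hn L h11)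
  refine Or.inr ?_
  obtain ⟨⟨w, hwL⟩, hwo⟩ := exists_prime_orderOf_dvd_card' (G := L) 11 h11
  rw [Subgroup.orderOf_mk] at hwo
  obtain ⟨P, hW⟩ := (IsPGroup.of_card (p := 11) (n := 1)
    (by rw [Nat.card_zpowers, hwo, pow_one] : Nat.card (Subgroup.zpowers w) = 11 ^ 1)).exists_le_sylow
  have hP := card_P h P
  have hPL : (P : Subgroup G) ≤ L := by
    rw [← Subgroup.eq_of_le_of_card_ge hW (by rw [hP, Nat.card_zpowers, hwo])]
    exact Subgroup.zpowers_le.mpr hwL
  set N := Subgroup.normalizer ((P : Subgroup G) : Set G) with hN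
  have hidx : L.relIndex N = L.index := by
    have hsup := Sylow.normalizer_sup_eq_top (P.subtype hPL)
    rw [Sylow.coe_subtype, Subgroup.map_subgroupOf_eq_of_le hPL] at hsup
    rw [← Subgroup.relIndex_sup_right (K := L) (H := N), hN, hsup, Subgroup.relIndex_top_right]
  have hd : L.index ∣ 5 := by
    rw [← hidx]
    have h1 : L.relIndex N ∣ (P : Subgroup G).relIndex N := Subgroup.relIndex_dvd_of_le_left _ hPL
    have h2 : Nat.card (P : Subgroup G) * (P : Subgroup G).relIndex N = Nat.card N := by
      rw [← Nat.card_congr (Subgroup.subgroupOfEquivOfLe (H := (P : Subgroup G)) (K := N)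
        Subgroup.le_normalizer).toEquiv]
      exact Subgroup.card_mul_index _
    rw [hP, hN, card_N h hn P] at h2
    rwa [show (P : Subgroup G).relIndex N = 5 by rw [hN]; omega] at h1
  rcases (Nat.dvd_prime (by norm_num)).mp hd with e | e
  · exact Subgroup.index_eq_one.mp e
  exfalso
  have hLc : Nat.card L = 19008 := by
    have := Subgroup.card_mul_index L
    rw [e, h] at this
    omega
  have hle : Subgroup.normalizer (((P.subtype hPL : Sylow 11 L) : Subgroup L) : Set L) ≤
      Subgroup.centralizer (((P.subtype hPL : Sylow 11 L) : Subgroup L) : Set L) := by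
    intro a ha
    rw [Sylow.coe_subtype, ← Subgroup.subgroupOf_normalizer_eq hPL] at ha
    have haN : (a : G) ∈ N ⊓ L := ⟨ha, a.2⟩
    have hinf : N ⊓ L = (P : Subgroup G) := by
      refine (Subgroup.eq_of_le_of_card_ge (le_inf Subgroup.le_normalizer hPL) ?_).symm
      rw [hP]
      have h3 : Nat.card ↥(N ⊓ L) * L.relIndex N = Nat.card N := by
        rw [← Subgroup.inf_relIndex_left N L, ← Nat.card_congr
          (Subgroup.subgroupOfEquivOfLe (inf_le_left : N ⊓ L ≤ N)).toEquiv]
        exact Subgroup.card_mul_index _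
      rw [hidx, e, hN, card_N h hn P, ← hN] at h3
      show Nat.card ↥(N ⊓ L) ≤ 11
      omega
    rw [hinf] at haN
    rw [Subgroup.mem_centralizer_iff]
    intro b hb
    haveI := isCyclic_of_prime_card hP
    have hba : (b : G) * a = a * b := congrArg Subtype.val
      ((IsCyclic.commGroup (α := (P : Subgroup G))).mul_comm ⟨b, hb⟩ ⟨a, haN⟩)
    exact Subtype.ext hba
  set f := MonoidHom.transferSylow (P.subtype hPL) hle
  have hPLc : Nat.card ((P.subtype hPL : Sylow 11 L) : Subgroup L) = 11 := by
    rw [Sylow.coe_subtype, Nat.card_congr (Subgroup.subgroupOfEquivOfLe hPL).toEquiv, hP]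
  have hKc : Nat.card f.ker * 11 = 19008 := by
    have := (MonoidHom.ker_transferSylow_isComplement' (P.subtype hPL) hle).card_mul
    rwa [hPLc, hLc] at this
  set K : Subgroup G := f.ker.map L.subtype
  have hKG : Nat.card K = 1728 := by
    rw [Subgroup.card_map_of_injective L.subtype_injective]
    omega
  haveI : K.Normal := by
    refine ⟨?_⟩
    rintro _ ⟨k, hk, rfl⟩ g
    have hgk : g * (k : G) * g⁻¹ ∈ L := hL.conj_mem _ k.2 g
    refine ⟨⟨_, hgk⟩, ?_, rfl⟩
    have hk' : k ^ 1728 = 1 := by
      have := Subgroup.orderOf_dvd_natCard f.ker hk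
      exact orderOf_dvd_iff_pow_eq_one.mp (by rwa [show Nat.card f.ker = 1728 by omega] at this)
    have hgk' : (⟨_, hgk⟩ : L) ^ 1728 = 1 := Subtype.ext (by
      rw [Subgroup.coe_pow, conj_pow, ← Subgroup.coe_pow, hk', Subgroup.coe_one, mul_one,
        mul_inv_cancel])
    rw [SetLike.mem_coe, MonoidHom.mem_ker, ← orderOf_eq_one_iff]
    refine Nat.eq_one_of_dvd_coprimes (by norm_num : Nat.Coprime 1728 11)
      (orderOf_dvd_of_pow_eq_one ((map_pow f _ _).symm.trans (by rw [hgk', map_one]))) ?_
    exact (orderOf_dvd_natCard _).trans (dvd_of_eq hPLc)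
  have := Nat.le_of_dvd (by norm_num) (card_dvd_five h hn K (by rw [hKG]; norm_num))
  omega

end Normal

/-- The numbers of elements of given order in a simple group of order `95040` single out the
number of Sylow `11`-subgroups. -/
theorem n11_eq_1728 (h : Nat.card G = 95040) {M : Type v} [Group M] [Finite M] [IsSimpleGroup M]
    (hM : Nat.card M = 95040)
    (hset : {c : ℕ | 0 < c ∧ ∃ n : ℕ, c = Nat.card {g : G // orderOf g = n}} =
      {c : ℕ | 0 < c ∧ ∃ n : ℕ, c = Nat.card {g : M // orderOf g = n}}) :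
    Nat.card (Sylow 11 G) = 1728 := by
  obtain ⟨P⟩ := (inferInstance : Nonempty (Sylow 11 M))
  obtain ⟨hM1728, hC, -⟩ := Local11.p11_data hM P
  have hP := Local11.card_p11 hM P
  obtain ⟨⟨x, hxP⟩, hx⟩ := exists_prime_orderOf_dvd_card' (G := (P : Subgroup M)) 11 (by rw [hP])
  rw [Subgroup.orderOf_mk] at hx
  have hgen : Subgroup.zpowers x = (P : Subgroup M) :=
    Subgroup.eq_of_le_of_card_ge (Subgroup.zpowers_le.mpr hxP)
      (by rw [Nat.card_zpowers, hx, hP])
  have hCx : ∀ v : M, v * x = x * v → v ∈ Subgroup.zpowers x := by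
    intro v hv
    rw [hgen, ← hC, Subgroup.mem_centralizer_iff]
    intro b hb
    rw [← hgen, SetLike.mem_coe] at hb
    obtain ⟨k, rfl⟩ := Subgroup.mem_zpowers_iff.mp hb
    exact ((show Commute v x from hv).zpow_right k).eq.symm
  have hG : Nat.card {g : G // orderOf g = 11} = Nat.card (Sylow 11 G) * 10 :=
    Classif.OrderSieve.card_orderOf_of_entry (m := 8640) Fact.out (by rw [h]; norm_num) (by norm_num)
  have hM' : Nat.card {g : M // orderOf g = 11} = Nat.card (Sylow 11 M) * 10 :=
    Classif.OrderSieve.card_orderOf_of_entry (m := 8640) Fact.out (by rw [hM]; norm_num) (by norm_num)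
  have hmem : Nat.card (Sylow 11 G) * 10 ∈
      {c : ℕ | 0 < c ∧ ∃ n : ℕ, c = Nat.card {g : G // orderOf g = n}} :=
    ⟨Nat.mul_pos Nat.card_pos (by norm_num), 11, hG.symm⟩
  rw [hset] at hmem
  obtain ⟨-, n, hn⟩ := hmem
  by_cases h1 : n = 1
  · subst h1
    have : Nat.card {g : M // orderOf g = 1} = 1 :=
      Nat.card_eq_one_iff_unique.mpr ⟨⟨fun a b => Subtype.ext
        ((orderOf_eq_one_iff.mp a.2).trans (orderOf_eq_one_iff.mp b.2).symm)⟩, ⟨⟨1, orderOf_one⟩⟩⟩
    omega
  by_cases h11 : n = 11
  · subst h11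
    rw [hM', hM1728] at hn
    omega
  have hd := M11.Counts.count_mod hx hCx n h1 h11
  rw [← hn] at hd
  have hm := Sylow.card_sylow_mod (G := G) (p := 11)
  omega

end Cfsg.Agent.Lib.RecogThree.M12.Counts
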