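import Cfsg.Agent.Lib.RecogThree.M12.Normal5

/-!
Simple groups of order `95040`: the centraliser of an element of order five and the four
characters of the family at `5`.
-/

set_option autoImplicit false
set_option linter.style.haveILetI false
set_option linter.unusedSectionVars false

namespace Cfsg.Agent.Lib.RecogThree.M12.Data5

open Cfsg.Agent.Lib.Characters Cfsg.Agent.Lib.Characters.Basic
open Cfsg.Agent.Lib.Classif
open Cfsg.Agent.Lib.Classif.PrimeExceptional (deg apply_one_eq)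
open Cfsg.Agent.Lib.RecogThree.M12.Combos
open Cfsg.Agent.Lib.RecogThree.M12.Eleven (Base)
open scoped ComplexConjugate
open Finset

universe u

variable {G : Type u} [Group G] [Finite G] [IsSimpleGroup G] [Fact (Nat.Prime 11)]

/-- The four characters of the family at `5`. -/
structure Four (B : Base G) where
  V : Subgroup G
  mem_V : ∀ v : G, v ∈ V ↔ v ∈ Subgroup.centralizer ({B.y} : Set G) ∧ ¬ 5 ∣ orderOf v
  F : Finset (Cfsg.IrrCharacter G)
  b : Cfsg.IrrCharacter G → ℤ
  card_F : F.card = 4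
  one_not_mem : oneChar G ∉ F
  b_unit : ∀ χ ∈ F, b χ = 1 ∨ b χ = -1
  cong : ∀ χ ∈ F, (5 : ℤ) ∣ b χ * deg χ - 1
  rel : ∀ g : G, ¬ 5 ∣ orderOf g → 1 + ∑ χ ∈ F, (b χ : ℂ) * (χ : G → ℂ) g = 0
  value : ∀ χ ∈ F, ∀ z ∈ Subgroup.zpowers B.y, z ≠ 1 → ∀ v ∈ V, (χ : G → ℂ) (z * v) = (b χ : ℂ)
  others : ∀ χ : Cfsg.IrrCharacter G, χ ≠ oneChar G → χ ∉ F →
    ∀ z ∈ Subgroup.zpowers B.y, z ≠ 1 → ∑ᶠ v : V, (χ : G → ℂ) (z * v) = 0

/-- All the facts at the prime `5`. -/
structure Five (B : Base G) where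
  c : ℕ
  hc : c = 2 ∨ c = 12 ∨ c = 72 ∨ c = 432
  card_C : Nat.card (Subgroup.centralizer ({B.y} : Set G)) = 5 * c
  card_N : Nat.card (Subgroup.normalizer ((Subgroup.zpowers B.y : Subgroup G) : Set G)) = 20 * c
  four : Four B
  ι : Fin 4 ≃ {χ // χ ∈ B.D.K}
  hι : ∀ i, code (B.f (ι i)) = ![45, -54, -120, 144] i
  case : ((ι 3 : Cfsg.IrrCharacter G) ∈ four.F ∧ four.b (ι 3) = -1 ∧
      (∀ i, i ≠ 3 → (ι i : Cfsg.IrrCharacter G) ∉ four.F) ∧ ∀ θ' ∈ B.D.fam, θ' ∉ four.F) ∨
    ((∀ i, (ι i : Cfsg.IrrCharacter G) ∉ four.F) ∧ ∀ θ' ∈ B.D.fam, θ' ∈ four.F ∧ four.b θ' = 1)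

variable (B : Base G)

theorem dvd_order {g : G} (hg : orderOf g = 11) : ¬ 5 ∣ orderOf g := by rw [hg]; norm_num

theorem tot_ne_five {v : G} (hv : v ≠ 1) (hvy : Commute v B.y) (hv5 : ¬ 5 ∣ orderOf v) :
    tot B.codes ≠ 5 := fun h => Five.deg_ne_five B hv hvy hv5 B.D.θ B.D.θ_ne_one (by
  rw [(B.deg_θ).1, h]; norm_num)

theorem no_zero_of_even {v : G} (hv : orderOf v = 2) (hvy : Commute v B.y) (i : Fin 4) :
    B.codes i ≠ 0 := fun h => Five.deg_ne_ten_of_even B hv hvy _ (by
  rw [(B.deg_K i).1, h]; rfl)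

/-- The family at `5` is not of size two. -/
theorem two_false [Fact (Nat.Prime 5)] {R : Sylow 5 G} (hR : (R : Subgroup G) = Subgroup.zpowers B.y)
    (D : FirstPowerData.Data R 2) {c : ℕ}
    (hC : Nat.card (Subgroup.centralizer ({B.y} : Set G)) = 5 * c) (hc5 : ¬ 5 ∣ c)
    (hc : 2 ∣ c ∨ 9 ∣ c) : False := by
  classical
  haveI : Fact (Nat.Prime 2) := ⟨Nat.prime_two⟩
  haveI : Fact (Nat.Prime 3) := ⟨Nat.prime_three⟩
  have hRcard : Nat.card (R : Subgroup G) = 5 := by rw [hR, Nat.card_zpowers, B.hy]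
  obtain ⟨χ, hχ⟩ := card_eq_one.mp (show D.K.card = 1 by have := D.card_K; omega)
  have hmem : χ ∈ D.K := hχ ▸ mem_singleton_self χ
  have hx5 := dvd_order B.hx
  have hrelx := D.rel B.x hx5
  rw [hχ, sum_singleton] at hrelx
  have hdeg : 1 + D.a χ * deg χ = D.δ * deg D.θ := by
    have := D.degree_eq
    rwa [hχ, sum_singleton] at this
  have hfam : D.fam.card = 2 := by have := D.fam_card; omega
  have h1f : ∀ θ' ∈ D.fam, θ' ≠ oneChar G := fun θ' h e => D.fam_one (e ▸ h)
  have hχ1 : χ ≠ oneChar G := fun e => D.one_not_mem (e ▸ hmem)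
  have hx0 : ∀ θ' ∈ D.fam, (θ' : G → ℂ) B.x = (D.θ : G → ℂ) B.x := fun θ' h =>
    D.fam_regular θ' h B.x hx5
  have hreal : ((D.θ : G → ℂ) B.x).im = 0 := by
    by_contra him
    have hall : ∀ θ' ∈ D.fam, θ' ∈ B.D.fam := fun θ' h => by
      by_contra hn
      exact him (hx0 θ' h ▸ Five.int_apply_x B (h1f θ' h) hn)
    have hχF : χ ∈ B.D.fam := by
      by_contra hn
      have h := congrArg Complex.im hrelx
      simp only [Complex.add_im, Complex.one_im, Complex.mul_im, Complex.intCast_re,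
        Complex.intCast_im, Five.int_apply_x B hχ1 hn] at h
      rcases D.δ_unit with e | e <;> rw [e] at h <;> norm_num at h <;>
        first
          | exact him h
          | exact him h.symm
    have hsub : insert χ D.fam ⊆ B.D.fam := insert_subset hχF hall
    have := card_le_card hsub
    rw [card_insert_of_notMem (disjoint_left.mp D.fam_disj hmem), hfam, B.fam_card] at this
    omega
  have hnot : ∀ θ' ∈ D.fam, θ' ∉ B.D.fam := fun θ' h hm =>
    Five.fam_im B hm (hx0 θ' h ▸ hreal)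
  have hχnot : χ ∉ B.D.fam := fun hm => by
    have h := congrArg Complex.im hrelx
    simp only [Complex.add_im, Complex.one_im, Complex.mul_im, Complex.intCast_re,
      Complex.intCast_im, hreal] at h
    rcases D.a_unit χ hmem with e | e <;> rw [e] at h <;> norm_num at h <;>
      exact Five.fam_im B hm h
  have hθnot := hnot D.θ D.θ_mem
  have hc5' := D.θ_cong hRcard
  have hcχ := D.deg_cong hRcard hmem
  -- the exceptional characters have degree twelve and value one
  have hcode : ∀ θ' ∈ D.fam, ∃ i, θ' = (B.ι i : Cfsg.IrrCharacter G) ∧ B.codes i = 1 := by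
    intro θ' hθ'
    have hθd := D.fam_deg θ' hθ'
    rcases Five.cases_x B (h1f θ' hθ') with ⟨i, hi, hv⟩ | h | ⟨-, -, hv, hd11⟩
    · refine ⟨i, hi, ?_⟩
      obtain ⟨hd, ha⟩ := B.deg_K i
      have hval : D.δ * B.D.a θ' = 1 := by
        rw [hx0 θ' hθ'] at hv
        rcases Five.cases_x B hχ1 with ⟨j, hj, hw⟩ | h | ⟨-, -, hw, -⟩
        · rw [hw, hv] at hrelx
          norm_cast at hrelx
          rcases D.δ_unit with e | e <;> rw [e] at hrelx ⊢ <;>
            rcases B.D.a_unit θ' (hi ▸ (B.ι i).2) with e' | e' <;> rw [e'] at hrelx ⊢ <;>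
            rcases B.D.a_unit χ (hj ▸ (B.ι j).2) with e₃ | e₃ <;> rw [e₃] at hrelx <;>
            rcases D.a_unit χ hmem with e₂ | e₂ <;> rw [e₂] at hrelx <;> omega
        · exact absurd h hχnot
        · rw [hw, hv, mul_zero, add_zero] at hrelx
          exact_mod_cast hrelx.symm
      rw [hi, ha] at hval
      rw [← hθd, hi, hd] at hc5'
      generalize B.codes i = k at hval hc5' ⊢
      rcases D.δ_unit with e | e <;> rw [e] at hval hc5' <;> revert hval hc5' <;> revert k <;>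
        decide +kernel
    · exact absurd h (hnot θ' hθ')
    · exfalso
      rw [hx0 θ' hθ'] at hv
      rw [hv, mul_zero] at hrelx
      rw [hθd] at hd11
      rcases Five.cases_x B hχ1 with ⟨j, hj, hw⟩ | h | ⟨-, -, hw, -⟩
      · rw [hw] at hrelx
        norm_cast at hrelx
        obtain ⟨hd, ha⟩ := B.deg_K j
        have hbound := B.D.fam_card
        rw [hj, ha] at hrelx
        rw [hj] at hdeg hcχ
        rw [hd] at hdeg hcχ
        have hdvd : (deg D.θ).natAbs ∣ 95040 := by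
          rw [PrimeExceptional.natAbs_deg, ← B.card]
          haveI := Fintype.ofFinite G
          exact H80.ClassMult.charDegree_dvd_card _
        generalize D.a (B.ι j : Cfsg.IrrCharacter G) = a at hrelx hdeg hcχ
        generalize B.codes j = k at hrelx hdeg hcχ
        have hθeq : (deg D.θ).natAbs = (1 + a * ((code k).natAbs : ℤ)).natAbs := by
          rw [hdeg]; rcases D.δ_unit with e | e <;> rw [e] <;> simp
        rw [hθeq] at hdvd
        have hk : a = 1 ∨ a = -1 := by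
          rcases Int.eq_one_or_neg_one_of_mul_eq_one
            (show a * (-(code k).sign) = 1 by linarith) with e | e <;> simp [e]
        have key : ∀ k : Fin 7, ∀ a : ℤ, (a = 1 ∨ a = -1) → 1 + a * (code k).sign = 0 →
            (5 : ℤ) ∣ ((code k).natAbs : ℤ) - a → (1 + a * ((code k).natAbs : ℤ)).natAbs ∣ 95040 →
            False := by
          intro k a ha
          rcases ha with rfl | rfl <;> revert k <;> decide +kernel
        exact key k a hk hrelx hcχ hdvd
      · exact hχnot h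
      · rw [hw, mul_zero, add_zero] at hrelx
        exact one_ne_zero hrelx
  -- two members of degree twelve
  obtain ⟨θa, θb, hab, hfeq⟩ := card_eq_two.mp hfam
  obtain ⟨i, hi, hi1⟩ := hcode θa (by rw [hfeq]; simp)
  obtain ⟨j, hj, hj1⟩ := hcode θb (by rw [hfeq]; simp)
  have hij : i ≠ j := fun e => hab (by rw [hi, hj, e])
  obtain ⟨v, hv, hvy, hv5⟩ : ∃ v : G, v ≠ 1 ∧ Commute v B.y ∧ ¬ 5 ∣ orderOf v := by
    have hp : ∀ p : ℕ, p.Prime → p ∣ c → p ≠ 5 →
        ∃ v : G, v ≠ 1 ∧ Commute v B.y ∧ ¬ 5 ∣ orderOf v := fun p hp hd hp5 => by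
      haveI : Fact p.Prime := ⟨hp⟩
      obtain ⟨⟨v, hv⟩, hvo⟩ := exists_prime_orderOf_dvd_card'
        (G := Subgroup.centralizer ({B.y} : Set G)) p (hC ▸ hd.mul_left 5)
      rw [Subgroup.orderOf_mk] at hvo
      refine ⟨v, fun e => hp.ne_one (by rw [← hvo, e, orderOf_one]),
        Subgroup.mem_centralizer_singleton_iff.mp hv, ?_⟩
      rw [hvo]
      exact fun h => hp5 ((Nat.prime_dvd_prime_iff_eq (by norm_num) hp).mp h).symm
    rcases hc with h | h
    · exact hp 2 Nat.prime_two h (by norm_num)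
    · exact hp 3 Nat.prime_three (dvd_trans (by norm_num) h) (by norm_num)
  obtain ⟨σ, hσ⟩ := two_twelves B.codes B.valid (tot_ne_five B hv hvy hv5)
    ⟨i, j, hij, hi1, hj1⟩
  rcases hσ with h | h | h
  · exact Five.false_of_no_solutions B σ h (c := ![-10, 12, 12, 12])
      (by decide) (T := 27) (by decide) (by norm_num) solutions_27a
  · -- a unique character of degree ten
    have h0 : B.codes (σ 0) = 0 := congrFun h 0
    have huniq : ∀ k, B.codes k = 0 → k = σ 0 := fun k hk => by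
      obtain ⟨l, rfl⟩ := σ.surjective k
      have hl : (![0, 1, 1, 3] : Fin 4 → Fin 7) l = 0 := by
        rw [← congrFun h l]; exact hk
      have key : ∀ l : Fin 4, (![0, 1, 1, 3] : Fin 4 → Fin 7) l = 0 → l = 0 := by decide
      exact congrArg σ (key l hl)
    have hd : deg (B.ι (σ 0) : Cfsg.IrrCharacter G) = 10 := by
      rw [(B.deg_K _).1, h0]; rfl
    rcases hc with h2 | h9
    · obtain ⟨⟨w, hw⟩, hwo⟩ := exists_prime_orderOf_dvd_card'
        (G := Subgroup.centralizer ({B.y} : Set G)) 2 (hC ▸ h2.mul_left 5)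
      rw [Subgroup.orderOf_mk] at hwo
      exact Five.deg_ne_ten_of_even B hwo (Subgroup.mem_centralizer_singleton_iff.mp hw) _ hd
    · refine Five.not_nine B hd (fun χ' hχ' => ?_) (hC ▸ h9.mul_left 5)
      obtain ⟨k, hk, hk0⟩ := Five.code_of_deg_ten B hχ'
      rw [hk, huniq k hk0]
  · exact Five.false_of_no_solutions B σ h (c := ![12, 12, 45, -54])
      (by decide) (T := 16) (by decide) (by norm_num) solutions_16a

/-- The four characters from a family of size four. -/
theorem exists_four [Fact (Nat.Prime 5)] {R : Sylow 5 G}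
    (hR : (R : Subgroup G) = Subgroup.zpowers B.y) (D : FirstPowerData.Data R 4)
    (X : Full.Extra R D) : Nonempty (Four B) := by
  classical
  have hRcard : Nat.card (R : Subgroup G) = 5 := by rw [hR, Nat.card_zpowers, B.hy]
  have hCR : Subgroup.centralizer ((R : Subgroup G) : Set G) =
      Subgroup.centralizer ({B.y} : Set G) := by
    rw [hR, Subgroup.zpowers_eq_closure, Subgroup.centralizer_closure]
  have hfam : D.fam = {D.θ} := by
    obtain ⟨a, ha⟩ := card_eq_one.mp (show D.fam.card = 1 by have := D.fam_card; omega)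
    have h := D.θ_mem
    rw [ha, mem_singleton] at h
    rw [ha, h]
  let b : Cfsg.IrrCharacter G → ℤ := fun χ => if χ = D.θ then -D.δ else D.a χ
  have hbK : ∀ χ ∈ D.K, b χ = D.a χ := fun χ h =>
    if_neg fun (e : χ = D.θ) => D.θ_not_mem (e ▸ h)
  have hbθ : b D.θ = -D.δ := if_pos rfl
  refine ⟨⟨X.V, fun v => by rw [X.mem_V, hCR], insert D.θ D.K, b, ?_, ?_, ?_, ?_, ?_, ?_, ?_⟩⟩
  · rw [card_insert_of_notMem D.θ_not_mem]
    have := D.card_K
    omega
  · rw [mem_insert]
    exact fun h => h.elim (fun e => D.θ_ne_one e.symm) D.one_not_mem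
  · intro χ h
    rcases mem_insert.mp h with rfl | h
    · rw [hbθ]; rcases D.δ_unit with e | e <;> rw [e] <;> simp
    · rw [hbK χ h]; exact D.a_unit χ h
  · intro χ h
    rcases mem_insert.mp h with rfl | h
    · have := D.θ_cong hRcard
      rw [hbθ]
      obtain ⟨k, hk⟩ := this
      exact ⟨-k - 1, by linear_combination -hk⟩
    · have := D.deg_cong hRcard h
      rw [hbK χ h]
      rcases D.a_unit χ h with e | e <;> rw [e] at this ⊢ <;> omega
  · intro g hg
    rw [sum_insert D.θ_not_mem, sum_congr rfl fun χ h => by rw [hbK χ h], hbθ]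
    have := D.rel g hg
    push_cast
    linear_combination this
  · intro χ h z hz hz1 v hv
    have hzR : z ∈ (R : Subgroup G) := hR ▸ hz
    rcases mem_insert.mp h with rfl | h
    · rw [X.fam_const D.θ D.θ_mem z hzR hz1 v hv, hbθ]
      have := X.fam_sum z hzR hz1
      rw [hfam, sum_singleton] at this
      rw [this]; push_cast; rfl
    · rw [hbK χ h]
      obtain ⟨h1, h2⟩ := (X.mem_V v).mp hv
      exact D.value χ h z hzR hz1 v h1 h2
  · intro χ h1 hF z hz hz1
    rw [mem_insert, not_or] at hF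
    exact X.others χ h1 hF.2 (by rw [hfam, mem_singleton]; exact hF.1) z (hR ▸ hz) hz1

theorem false_or_target {σ : Equiv.Perm (Fin 4)}
    (h : B.codes ∘ σ = ![1, 1, 3, 4] ∨ B.codes ∘ σ = ![3, 3, 3, 5] ∨
      B.codes ∘ σ = ![2, 2, 4, 6] ∨ B.codes ∘ σ = ![3, 4, 5, 6]) :
    B.codes ∘ σ = ![3, 4, 5, 6] := by
  rcases h with h | h | h | h
  · exact (Five.false_of_no_solutions B σ h (c := ![12, 12, 45, -54])
      (by decide) (T := 16) (by decide) (by norm_num) solutions_16a).elim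
  · exact (Five.false_of_no_solutions B σ h (c := ![45, 45, 45, -120])
      (by decide) (T := 16) (by decide) (by norm_num) solutions_16b).elim
  · exact (Five.false_of_no_solutions B σ h (c := ![-32, -32, -54, 144])
      (by decide) (T := 27) (by decide) (by norm_num) solutions_27b).elim
  · exact h

theorem deg_oneChar : deg (oneChar G) = 1 := by
  have h := apply_one_eq (oneChar G)
  rw [oneChar_apply] at h
  exact_mod_cast h.symm

theorem sum_inter_eq_ite {ι : Type*} [DecidableEq ι] {s t : Finset ι} {f : ι → ℂ} :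
    ∑ i ∈ s ∩ t, f i = ∑ i ∈ s, if i ∈ t then f i else 0 := by
  rw [← sum_filter, filter_mem_eq_inter]

section FourSet

variable [DecidableEq (Cfsg.IrrCharacter G)] {p q r s : Cfsg.IrrCharacter G}
  (h13 : p ≠ q) (hp : p ∉ B.D.fam) (hq : q ∉ B.D.fam) (hr : r ∈ B.D.fam) (hs : s ∈ B.D.fam)
  (hrs : r ≠ s)

include h13 hp hq hr hs hrs

theorem sum_four {f : Cfsg.IrrCharacter G → ℂ} :
    ∑ χ ∈ ({p, q, r, s} : Finset _), f χ = f p + (f q + (f r + f s)) := by
  have hpr : p ≠ r := fun e => hp (e ▸ hr)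
  have hps : p ≠ s := fun e => hp (e ▸ hs)
  have hqr : q ≠ r := fun e => hq (e ▸ hr)
  have hqs : q ≠ s := fun e => hq (e ▸ hs)
  rw [sum_insert (by simp [h13, hpr, hps]), sum_insert (by simp [hqr, hqs]), sum_pair hrs]

theorem card_four : ({p, q, r, s} : Finset _).card = 4 := by
  have hpr : p ≠ r := fun e => hp (e ▸ hr)
  have hps : p ≠ s := fun e => hp (e ▸ hs)
  have hqr : q ≠ r := fun e => hq (e ▸ hr)
  have hqs : q ≠ s := fun e => hq (e ▸ hs)
  rw [card_insert_of_notMem (by simp [h13, hpr, hps]),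
    card_insert_of_notMem (by simp [hqr, hqs]), card_pair hrs]

end FourSet

set_option maxHeartbeats 1600000 in
/-- The position of the four characters relative to the family at `11`. -/
theorem case_split (Φ : Four B) {v : G} (hv : orderOf v = 2) (hvy : Commute v B.y) :
    ∃ ι : Fin 4 ≃ {χ // χ ∈ B.D.K}, (∀ i, code (B.f (ι i)) = ![45, -54, -120, 144] i) ∧
      (((ι 3 : Cfsg.IrrCharacter G) ∈ Φ.F ∧ Φ.b (ι 3) = -1 ∧
        (∀ i, i ≠ 3 → (ι i : Cfsg.IrrCharacter G) ∉ Φ.F) ∧ ∀ θ' ∈ B.D.fam, θ' ∉ Φ.F) ∨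
      ((∀ i, (ι i : Cfsg.IrrCharacter G) ∉ Φ.F) ∧ ∀ θ' ∈ B.D.fam, θ' ∈ Φ.F ∧ Φ.b θ' = 1)) := by
  classical
  have h1F : ∀ χ ∈ Φ.F, χ ≠ oneChar G := fun χ h e => Φ.one_not_mem (e ▸ h)
  have hnz := no_zero_of_even B hv hvy
  have hT5 : tot B.codes ≠ 5 := tot_ne_five B
    (fun e => by rw [e, orderOf_one] at hv; omega) hvy (by rw [hv]; norm_num)
  obtain ⟨hθd, hθs⟩ := B.deg_θ
  have hrelx := Φ.rel B.x (dvd_order B.hx)
  -- the exceptional characters at eleven enter together, with the same sign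
  have hbfam : ∀ θ' ∈ B.D.fam, ∀ θ'' ∈ B.D.fam, θ' ∈ Φ.F → θ'' ∈ Φ.F → Φ.b θ' = Φ.b θ'' := by
    intro θ' h' θ'' h'' hF' hF''
    have c1 := Φ.cong θ' hF'
    have c2 := Φ.cong θ'' hF''
    rw [B.D.fam_deg θ' h'] at c1
    rw [B.D.fam_deg θ'' h''] at c2
    rcases Φ.b_unit θ' hF' with e1 | e1 <;> rcases Φ.b_unit θ'' hF'' with e2 | e2 <;>
      rw [e1] at c1 ⊢ <;> rw [e2] at c2 ⊢ <;> omega
  have hboth : ∀ θ' ∈ B.D.fam, θ' ∈ Φ.F → ∀ θ'' ∈ B.D.fam, θ'' ∈ Φ.F := by
    intro θ' h' hF' θ'' h''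
    by_contra hn
    have him := congrArg Complex.im hrelx
    rw [Complex.add_im, Complex.one_im, zero_add, Complex.im_sum,
      sum_eq_single_of_mem θ' hF' fun χ hχ hne => ?_] at him
    · simp only [Complex.mul_im, Complex.intCast_re, Complex.intCast_im, zero_mul, add_zero,
        Complex.zero_im] at him
      rcases Φ.b_unit θ' hF' with e | e <;> rw [e] at him <;> norm_num at him <;>
        exact Five.fam_im B h' him
    · have hnf : χ ∉ B.D.fam := fun hm => by
        obtain ⟨θa, θb, -, hfeq⟩ := card_eq_two.mp B.fam_card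
        simp only [hfeq, mem_insert, mem_singleton] at h' h'' hm
        rcases h' with rfl | rfl <;> rcases h'' with rfl | rfl <;> rcases hm with rfl | rfl <;>
          first
            | exact hne rfl
            | exact hn hF'
            | exact hn hχ
      simp [Five.int_apply_x B (h1F χ hχ) hnf]
  -- the value of a member at `x`
  have hK : ∀ i, (B.ι i : Cfsg.IrrCharacter G) ∈ Φ.F →
      (B.codes i = 4 ∧ Φ.b (B.ι i) * B.D.a (B.ι i) = 1) ∨
        (B.codes i = 6 ∧ Φ.b (B.ι i) = -1) := by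
    intro i hi
    obtain ⟨hd, ha⟩ := B.deg_K i
    have hc := Φ.cong _ hi
    rw [hd] at hc
    rw [ha]
    have hnz' := hnz i
    rcases Φ.b_unit _ hi with e | e <;> rw [e] at hc ⊢ <;> generalize B.codes i = k at hc hnz' ⊢ <;>
      revert hc hnz' <;> revert k <;> decide +kernel
  have hgood : (∃ i, B.codes i = 6) ∨ tot B.codes % 5 = 1 := by
    by_contra hno
    push Not at hno
    obtain ⟨h6, hT1⟩ := hno
    by_cases hS : ∃ θ' ∈ B.D.fam, θ' ∈ Φ.F
    · obtain ⟨θ', h', hF'⟩ := hS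
      have hall := hboth θ' h' hF'
      have hb : Φ.b θ' = -B.D.δ := by
        have hc := Φ.cong θ' hF'
        rw [B.D.fam_deg θ' h'] at hc
        have hte := B.tot_eq
        rcases Φ.b_unit θ' hF' with e | e <;> rw [e] at hc <;>
          rcases B.D.δ_unit with e' | e' <;> rw [e'] at hte ⊢ <;>
          first
            | exact e
            | (exfalso; apply hT1; omega)
      have hre := congrArg Complex.re hrelx
      rw [Complex.add_re, Complex.one_re, Complex.re_sum,
        ← sum_filter_add_sum_filter_not Φ.F (fun χ => χ ∈ B.D.fam),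
        show Φ.F.filter (fun χ => χ ∈ B.D.fam) = B.D.fam by
          ext χ; simp only [mem_filter]; exact ⟨fun h => h.2, fun h => ⟨hall χ h, h⟩⟩] at hre
      have h1 : ∑ χ ∈ B.D.fam, ((Φ.b χ : ℂ) * (χ : G → ℂ) B.x).re = 1 := by
        rw [sum_congr rfl fun χ hχ => by rw [hbfam χ hχ θ' h' (hall χ hχ) hF', hb],
          ← Complex.re_sum, ← mul_sum, Five.fam_sum_x B]
        rcases B.D.δ_unit with e | e <;> rw [e] <;> norm_num
      have h2 : (0 : ℝ) ≤ ∑ χ ∈ Φ.F.filter (fun χ => ¬ χ ∈ B.D.fam),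
          ((Φ.b χ : ℂ) * (χ : G → ℂ) B.x).re := by
        refine sum_nonneg fun χ hχ => ?_
        obtain ⟨hχF, hn⟩ := mem_filter.mp hχ
        rcases Five.cases_x B (h1F χ hχF) with ⟨i, hi, hv⟩ | h | ⟨-, -, hv, -⟩
        · rcases hK i (hi ▸ hχF) with ⟨-, he⟩ | ⟨he, -⟩
          · rw [hv, hi, ← Int.cast_mul, he]; simp
          · exact absurd he (h6 i)
        · exact absurd h hn
        · rw [hv]; simp
      rw [Complex.zero_re, h1] at hre
      linarith
    · push Not at hS
      have hre := congrArg Complex.re hrelx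
      rw [Complex.add_re, Complex.one_re, Complex.re_sum, Complex.zero_re] at hre
      have h2 : (0 : ℝ) ≤ ∑ χ ∈ Φ.F, ((Φ.b χ : ℂ) * (χ : G → ℂ) B.x).re := by
        refine sum_nonneg fun χ hχF => ?_
        rcases Five.cases_x B (h1F χ hχF) with ⟨i, hi, hv⟩ | h | ⟨-, -, hv, -⟩
        · rcases hK i (hi ▸ hχF) with ⟨-, he⟩ | ⟨he, -⟩
          · rw [hv, hi, ← Int.cast_mul, he]; simp
          · exact absurd he (h6 i)
        · exact absurd hχF (hS χ h)
        · rw [hv]; simp
      linarith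
  obtain ⟨σ, hσ⟩ := no_ten_one B.codes B.valid hT5 hnz hgood
  have hσ' := false_or_target B hσ
  obtain ⟨ι, hι⟩ := B.exists_target hσ'
  have hι' : ∀ i, code (B.f (ι i)) = ![45, -54, -120, 144] i := fun i =>
    (hι i).trans (by revert i; decide)
  refine ⟨ι, hι', ?_⟩
  have htot : tot B.codes = 16 := by
    have h1 := B.tot_eq
    have h2 := B.D.degree_eq
    rw [sum_congr rfl B.hf, ← sum_coe_sort B.D.K (fun χ => code (B.f χ)),
      ← ι.sum_comp (fun χ => code (B.f χ)), Fin.sum_univ_four, hι' 0, hι' 1, hι' 2, hι' 3] at h2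
    simp only [Matrix.cons_val] at h2
    omega
  rw [htot] at hθd hθs
  norm_num at hθd
  replace hθs : B.D.δ = 1 := by rw [hθs]; rfl
  have hdK : ∀ i, deg (ι i : Cfsg.IrrCharacter G) = ![45, 54, 120, 144] i ∧
      B.D.a (ι i) = ![1, -1, -1, 1] i := fun i => by
    have h := Local11.deg_of_code B.card B.D (ι i).2 (B.hf _ (ι i).2)
    rw [hι' i] at h
    have key : ∀ i : Fin 4, (((![45, -54, -120, 144] : Fin 4 → ℤ) i).natAbs : ℤ) =
        (![45, 54, 120, 144] : Fin 4 → ℤ) i ∧ ((![45, -54, -120, 144] : Fin 4 → ℤ) i).sign =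
        (![1, -1, -1, 1] : Fin 4 → ℤ) i := by decide
    exact ⟨h.1.trans (key i).1, h.2.trans (key i).2⟩
  have hmemK : ∀ i, (ι i : Cfsg.IrrCharacter G) ∈ Φ.F → i = 1 ∨ i = 3 := by
    intro i hi
    have hc := Φ.cong _ hi
    rw [(hdK i).1] at hc
    have key : ∀ i : Fin 4, ((5 : ℤ) ∣ 1 * (![45, 54, 120, 144] : Fin 4 → ℤ) i - 1 ∨
        (5 : ℤ) ∣ -1 * (![45, 54, 120, 144] : Fin 4 → ℤ) i - 1) → i = 1 ∨ i = 3 := by decide
    rcases Φ.b_unit _ hi with e | e <;> rw [e] at hc
    · exact key i (Or.inl hc)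
    · exact key i (Or.inr hc)
  have hb1 : (ι 1 : Cfsg.IrrCharacter G) ∈ Φ.F → Φ.b (ι 1) = -1 := fun hi => by
    have hc := Φ.cong _ hi
    rw [(hdK 1).1] at hc
    rcases Φ.b_unit _ hi with e | e
    · rw [e] at hc; norm_num [Matrix.cons_val] at hc
    · exact e
  have hb3 : (ι 3 : Cfsg.IrrCharacter G) ∈ Φ.F → Φ.b (ι 3) = -1 := fun hi => by
    have hc := Φ.cong _ hi
    rw [(hdK 3).1, show (![45, 54, 120, 144] : Fin 4 → ℤ) 3 = 144 from rfl] at hc
    rcases Φ.b_unit _ hi with e | e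
    · rw [e] at hc; norm_num [Matrix.cons_val] at hc
    · exact e
  have hbθ : ∀ θ' ∈ B.D.fam, θ' ∈ Φ.F → Φ.b θ' = 1 := fun θ' h' hF' => by
    have hc := Φ.cong θ' hF'
    rw [B.D.fam_deg θ' h', hθd] at hc
    rcases Φ.b_unit θ' hF' with e | e
    · exact e
    · rw [e] at hc; norm_num at hc
  obtain ⟨θa, θb, hab, hfeq⟩ := card_eq_two.mp B.fam_card
  have haF : θa ∈ B.D.fam := by rw [hfeq]; simp
  have hbF : θb ∈ B.D.fam := by rw [hfeq]; simp
  have h13 : (ι 1 : Cfsg.IrrCharacter G) ≠ ι 3 := fun e =>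
    absurd (ι.injective (Subtype.ext e)) (by decide)
  have hKn : ∀ i, (ι i : Cfsg.IrrCharacter G) ∉ B.D.fam := fun i =>
    disjoint_left.mp B.D.fam_disj (ι i).2
  -- the relation at `x` on the four candidates
  have hsum : ∑ χ ∈ Φ.F, (Φ.b χ : ℂ) * (χ : G → ℂ) B.x =
      ∑ χ ∈ ({(ι 1 : Cfsg.IrrCharacter G), (ι 3 : Cfsg.IrrCharacter G), θa, θb} : Finset _) ∩ Φ.F,
        (Φ.b χ : ℂ) * (χ : G → ℂ) B.x := by
    refine (sum_subset inter_subset_right fun χ hχ hn => ?_).symm
    rcases Five.cases_x B (h1F χ hχ) with ⟨i, hi, -⟩ | h | ⟨-, -, hv, -⟩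
    · exfalso
      obtain ⟨j, hj⟩ := ι.surjective (B.ι i)
      refine hn (mem_inter.mpr ⟨?_, hχ⟩)
      rw [hi, ← hj] at hχ ⊢
      rcases hmemK j hχ with rfl | rfl <;> simp
    · exfalso
      rw [hfeq] at h
      refine hn (mem_inter.mpr ⟨?_, hχ⟩)
      simp only [mem_insert, mem_singleton] at h ⊢
      tauto
    · rw [hv, mul_zero]
  rw [hsum, sum_inter_eq_ite] at hrelx
  by_cases hS : θa ∈ Φ.F
  · have hSb := hboth θa haF hS θb hbF
    have hfs : (θa : G → ℂ) B.x + (θb : G → ℂ) B.x = -1 := by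
      have h := Five.fam_sum_x B
      rw [hfeq, sum_pair hab, hθs] at h
      simpa using h
    rw [sum_four B h13 (hKn 1) (hKn 3) haF hbF hab, if_pos hS, if_pos hSb, hbθ θa haF hS,
      hbθ θb hbF hSb, B.K_apply_x (ι 1).2, B.K_apply_x (ι 3).2, (hdK 1).2, (hdK 3).2] at hrelx
    by_cases h1 : (ι 1 : Cfsg.IrrCharacter G) ∈ Φ.F <;>
      by_cases h3 : (ι 3 : Cfsg.IrrCharacter G) ∈ Φ.F
    · -- all four: impossible by degrees
      exfalso
      have hsub : ({(ι 1 : Cfsg.IrrCharacter G), (ι 3 : Cfsg.IrrCharacter G), θa, θb} :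
          Finset _) ⊆ Φ.F := by
        intro χ hχ
        simp only [mem_insert, mem_singleton] at hχ
        rcases hχ with rfl | rfl | rfl | rfl <;> assumption
      have heq := eq_of_subset_of_card_le hsub (by
        rw [Φ.card_F, card_four B h13 (hKn 1) (hKn 3) haF hbF hab])
      have hd := Φ.rel 1 (by rw [orderOf_one]; norm_num)
      rw [← heq, sum_four B h13 (hKn 1) (hKn 3) haF hbF hab, apply_one_eq, apply_one_eq,
        apply_one_eq, apply_one_eq, B.D.fam_deg θa haF, B.D.fam_deg θb hbF, hθd, (hdK 1).1,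
        (hdK 3).1, show (![45, 54, 120, 144] : Fin 4 → ℤ) 3 = 144 from rfl,
        show (![45, 54, 120, 144] : Fin 4 → ℤ) 1 = 54 from rfl, hb1 h1, hb3 h3, hbθ θa haF hS, hbθ θb hbF hSb] at hd
      norm_num at hd
    · exfalso
      rw [if_pos h1, if_neg h3, hb1 h1] at hrelx
      simp only [Matrix.cons_val] at hrelx
      push_cast at hrelx
      exact one_ne_zero (by linear_combination hrelx - hfs : (1 : ℂ) = 0)
    · exfalso
      rw [if_neg h1, if_pos h3, hb3 h3] at hrelx
      simp only [Matrix.cons_val] at hrelx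
      push_cast at hrelx
      exact one_ne_zero (by linear_combination -hrelx + hfs : (1 : ℂ) = 0)
    · refine Or.inr ⟨fun i hi => ?_, fun θ' h' => ?_⟩
      · rcases hmemK i hi with rfl | rfl
        · exact h1 hi
        · exact h3 hi
      · exact ⟨hboth θa haF hS θ' h', hbθ θ' h' (hboth θa haF hS θ' h')⟩
  · have hSb : θb ∉ Φ.F := fun h => hS (hboth θb hbF h θa haF)
    rw [sum_four B h13 (hKn 1) (hKn 3) haF hbF hab, if_neg hS, if_neg hSb,
      B.K_apply_x (ι 1).2, B.K_apply_x (ι 3).2, (hdK 1).2, (hdK 3).2] at hrelx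
    by_cases h1 : (ι 1 : Cfsg.IrrCharacter G) ∈ Φ.F <;>
      by_cases h3 : (ι 3 : Cfsg.IrrCharacter G) ∈ Φ.F
    · exfalso
      rw [if_pos h1, if_pos h3, hb1 h1, hb3 h3] at hrelx
      simp at hrelx
    · exfalso
      rw [if_pos h1, if_neg h3, hb1 h1] at hrelx
      norm_num at hrelx
    · refine Or.inl ⟨h3, hb3 h3, fun i hi3 hi => ?_, fun θ' h' => ?_⟩
      · rcases hmemK i hi with rfl | rfl
        · exact h1 hi
        · exact hi3 rfl
      · rw [hfeq, mem_insert, mem_singleton] at h'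
        rcases h' with rfl | rfl <;> assumption
    · exfalso
      rw [if_neg h1, if_neg h3] at hrelx
      norm_num at hrelx

/-- The data at the prime `5`. -/
theorem exists_five [Fact (Nat.Prime 5)] : Nonempty (Five B) := by
  classical
  haveI : Fact (Nat.Prime 2) := ⟨Nat.prime_two⟩
  obtain ⟨R, hR⟩ := (IsPGroup.of_card (G := Subgroup.zpowers B.y) (p := 5) (n := 1)
    (by rw [Nat.card_zpowers, B.hy, pow_one])).exists_le_sylow
  have hR' : (R : Subgroup G) = Subgroup.zpowers B.y :=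
    (Subgroup.eq_of_le_of_card_ge hR
      (by rw [Local11.card_p5 B.card R, Nat.card_zpowers, B.hy])).symm
  have hCR : Subgroup.centralizer ((R : Subgroup G) : Set G) =
      Subgroup.centralizer ({B.y} : Set G) := by
    rw [hR', Subgroup.zpowers_eq_closure, Subgroup.centralizer_closure]
  obtain ⟨-, hd⟩ := SmallOrderKills3.prime_data B.not_isComm (p := 5) (m := 19008) B.card
    (by norm_num) (by norm_num) (by norm_num)
  obtain ⟨hP, e, c', he, he1, hc5, hC, hN, hce⟩ := hd R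
  rw [hCR] at hC
  obtain ⟨c, rfl⟩ := hc5
  have h11 : ¬ 11 ∣ c := fun h => Five.not_dvd_centralizer_y B (hC ▸ h.mul_left 5)
  have hm := SmallGroups.Sylow.card_sylow_mod (G := G) (p := 5)
  have hne := SmallGroups.Sylow.card_sylow_ne_one (p := 5) (G := G) (a := 1) (m := 19008)
    (by rw [B.card]; norm_num) (by norm_num) one_ne_zero (by norm_num)
  have hrel : (Subgroup.centralizer ((R : Subgroup G) : Set G)).relIndex
      (Subgroup.normalizer ((R : Subgroup G) : Set G)) = e := by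
    have h' := SmallGroups.Sylow.card_centralizer_mul_relIndex (R : Subgroup G)
    rw [hN, hCR, hC] at h'
    rw [hCR]
    exact Nat.eq_of_mul_eq_mul_left (hC ▸ Nat.card_pos) h'
  rw [hR'] at hN
  generalize hn : Nat.card (Sylow 5 G) = n at hce hm hne
  have h' : c * e * n = 19008 := by
    have : 5 * (c * e * n) = 5 * 19008 := by rw [← mul_assoc, ← mul_assoc]; exact hce
    omega
  have he' : e = 2 ∨ e = 4 := by
    have := Nat.le_of_dvd (by norm_num) he
    interval_cases e <;> norm_num at *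
  have hdiv : c * e ∈ Nat.divisors 1728 := by
    refine Nat.mem_divisors.mpr ⟨?_, by norm_num⟩
    have hcd : c * e ∣ 11 * 1728 := ⟨n, h'.symm⟩
    refine Nat.Coprime.dvd_of_dvd_mul_left (Nat.Coprime.mul_left ?_ ?_) hcd
    · exact ((Nat.Prime.coprime_iff_not_dvd (by norm_num)).mpr h11).symm
    · rcases he' with rfl | rfl <;> norm_num
  have hr : c * e % 5 = 3 := by
    have h1 : (c * e * n) % 5 = 19008 % 5 := by rw [h']
    rw [Nat.mul_mod, hm, mul_one, Nat.mod_mod] at h1
    exact h1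
  have hc5' : ¬ 5 ∣ c := by
    rintro ⟨k, rfl⟩
    rw [mul_assoc, Nat.mul_mod_right] at hr
    omega
  obtain ⟨D, ⟨X⟩⟩ := Full.exists_full R hP hrel
  have key : ∀ r ∈ Nat.divisors 1728, r % 5 = 3 →
      r = 3 ∨ r = 8 ∨ r = 18 ∨ r = 48 ∨ r = 108 ∨ r = 288 ∨ r = 1728 := by decide +kernel
  have hr' := key _ hdiv hr
  rcases he' with rfl | rfl
  · exfalso
    exact two_false B hR' D hC hc5' (by omega)
  · rcases (show c = 27 ∨ c = 2 ∨ c = 12 ∨ c = 72 ∨ c = 432 by omega) with h27 | hc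
    · subst h27
      exact (Normal5.not_27 B hC hN).elim
    · obtain ⟨Φ⟩ := exists_four B hR' D X
      obtain ⟨⟨v, hv⟩, hvo⟩ := exists_prime_orderOf_dvd_card'
        (G := Subgroup.centralizer ({B.y} : Set G)) 2 (by rw [hC]; omega)
      rw [Subgroup.orderOf_mk] at hvo
      obtain ⟨ι, hι, hcase⟩ :=
        case_split B Φ hvo (Subgroup.mem_centralizer_singleton_iff.mp hv)
      exact ⟨⟨c, hc, hC, by rw [hN]; ring, Φ, ι, hι, hcase⟩⟩

end Cfsg.Agent.Lib.RecogThree.M12.Data5
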