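import Cfsg.Agent.Lib.Classif.FirstPowerData

/-!
The family of a Sylow subgroup of prime order, with the values of the exceptional characters and
the vanishing of the averages of all other characters.
-/

set_option autoImplicit false
set_option linter.style.haveILetI false
set_option linter.unusedSectionVars false

namespace Cfsg.Agent.Lib.RecogThree.M12.Full

open Cfsg.Agent.Lib.FirstPower Average Family Periods Cfsg.Agent.Lib.PrimePrincipal.Setup
open Cfsg.Agent.Lib.Characters Cfsg.Agent.Lib.Characters.Basic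
open Cfsg.Agent.Lib.Classif

universe u

variable {G : Type u} [Group G] [Finite G] {p : ℕ} [hp : Fact p.Prime] (P : Sylow p G)

/-- The additional properties of the family. -/
structure Extra {e : ℕ} (D : FirstPowerData.Data P e) where
  V : Subgroup G
  mem_V : ∀ v : G, v ∈ V ↔ v ∈ Subgroup.centralizer ((P : Subgroup G) : Set G) ∧ ¬ p ∣ orderOf v
  others : ∀ χ : Cfsg.IrrCharacter G, χ ≠ oneChar G → χ ∉ D.K → χ ∉ D.fam →
    ∀ z ∈ (P : Subgroup G), z ≠ 1 → ∑ᶠ v : V, (χ : G → ℂ) (z * v) = 0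
  fam_const : ∀ θ' ∈ D.fam, ∀ z ∈ (P : Subgroup G), z ≠ 1 → ∀ v ∈ V,
    (θ' : G → ℂ) (z * v) = (θ' : G → ℂ) z
  fam_sum : ∀ z ∈ (P : Subgroup G), z ≠ 1 → ∑ θ' ∈ D.fam, (θ' : G → ℂ) z = -(D.δ : ℂ)

theorem exists_full (hP : Nat.card (P : Subgroup G) = p) {e : ℕ}
    (he : (Subgroup.centralizer ((P : Subgroup G) : Set G)).relIndex
      (Subgroup.normalizer ((P : Subgroup G) : Set G)) = e) :
    ∃ D : FirstPowerData.Data P e, Nonempty (Extra P D) := by
  classical
  obtain ⟨x, hx, hxP⟩ := exists_gen P hP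
  have h2 := PrimePrincipal.Setup.not_sq_dvd P hP
  have hxp := pow_eq_one_of_order hx
  obtain ⟨V, hV⟩ := exists_vpart hx h2
  obtain ⟨n, -, hidx⟩ := exists_fpf hx hxP
  obtain rfl : e = Nat.card (autE hxp) := he ▸ hidx
  haveI := Fintype.ofFinite ((ZMod p)ˣ ⧸ autE hxp)
  haveI := Fintype.ofFinite (autE hxp)
  obtain ⟨R, Y, a, δ, hYinj, hYR, hδ, h1R, ha1, hRc, hRv, hYv, hoth, hYreg, hrel⟩ :=
    exists_family hx h2 hV
  have hVmem : ∀ v : G, v ∈ V ↔
      v ∈ Subgroup.centralizer ((P : Subgroup G) : Set G) ∧ ¬ p ∣ orderOf v := fun v => by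
    rw [hV v]
    constructor
    · rintro ⟨hv, hv'⟩
      exact ⟨(mem_centralizer_iff' hxP).2 (Subgroup.mem_centralizer_singleton_iff.1 hv), hv'⟩
    · rintro ⟨hv, hv'⟩
      exact ⟨Subgroup.mem_centralizer_singleton_iff.2 ((mem_centralizer_iff' hxP).1 hv).eq, hv'⟩
  have hYval : ∀ z ∈ (P : Subgroup G), z ≠ 1 → ∃ u : (ZMod p)ˣ, ∀ q, ∀ v ∈ V,
      (Y q : G → ℂ) (z * v) = δ * eta (autE hxp) (q * QuotientGroup.mk u) := by
    intro z hz hz1
    obtain ⟨u, rfl⟩ := exists_unit hx hxP hz hz1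
    exact ⟨u, fun q v hv => hYv q u v hv⟩
  refine ⟨⟨R.erase (oneChar G), a, Y 1, δ, ?_, Finset.notMem_erase _ _,
    fun h => hYR 1 (Finset.mem_of_mem_erase h), fun h => hYR 1 (h ▸ h1R),
    fun χ hχ => (hRv χ (Finset.mem_of_mem_erase hχ)).1, hδ, ?_, ?_,
    Finset.univ.image Y, Finset.mem_image_of_mem Y (Finset.mem_univ 1), ?_, ?_, ?_, ?_, ?_⟩,
    ⟨⟨V, hVmem, ?_, ?_, ?_⟩⟩⟩
  · rw [Finset.card_erase_add_one h1R, hRc]
  · intro g hg
    rw [← hrel g hg, ← Finset.add_sum_erase _ _ h1R, ha1, oneChar_apply, Int.cast_one, one_mul]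
  · intro χ hχ y hy hy1 v hv hv'
    obtain ⟨u, rfl⟩ := exists_unit hx hxP hy hy1
    exact (hRv χ (Finset.mem_of_mem_erase hχ)).2 u v ((hVmem v).2 ⟨hv, hv'⟩)
  · rw [Finset.disjoint_left]
    intro χ hχ hχY
    obtain ⟨q, -, rfl⟩ := Finset.mem_image.1 hχY
    exact hYR q (Finset.mem_of_mem_erase hχ)
  · intro h
    obtain ⟨q, -, hq⟩ := Finset.mem_image.1 h
    exact hYR q (hq ▸ h1R)
  · rw [Finset.card_image_of_injective _ hYinj, Finset.card_univ, Nat.card_eq_fintype_card,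
      mul_comm, card_mul_card]
    have := hp.out.one_le
    omega
  · intro θ' hθ' g hg
    obtain ⟨q, -, rfl⟩ := Finset.mem_image.1 hθ'
    exact hYreg q g hg
  · intro hC g hg
    obtain ⟨b, hg'P, hg'1⟩ := FirstPowerData.exists_conj_mem P hP hC hg
    obtain ⟨u, hu⟩ := hYval _ hg'P hg'1
    rw [Finset.sum_image hYinj.injOn, Finset.sum_congr rfl fun q _ => ?_, ← Finset.mul_sum,
      sum_eta_shift (r := QuotientGroup.mk u), mul_neg, mul_one]
    have h := hu q 1 (one_mem V)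
    rw [mul_one, isClassFunction_irr (Y q) g b] at h
    exact h
  · intro χ h1 hK hY z hz hz1
    obtain ⟨u, rfl⟩ := exists_unit hx hxP hz hz1
    have h := hoth χ (fun hR => hK (Finset.mem_erase.2 ⟨h1, hR⟩))
      (fun q hq => hY (hq ▸ Finset.mem_image_of_mem Y (Finset.mem_univ q))) u
    rw [aval] at h
    refine (mul_eq_zero.mp h).resolve_left (inv_ne_zero ?_)
    exact Nat.cast_ne_zero.mpr Nat.card_pos.ne'
  · intro θ' hθ' z hz hz1 v hv
    obtain ⟨q, -, rfl⟩ := Finset.mem_image.1 hθ'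
    obtain ⟨u, hu⟩ := hYval z hz hz1
    have h := hu q 1 (one_mem V)
    rw [mul_one] at h
    rw [hu q v hv, h]
  · intro z hz hz1
    obtain ⟨u, hu⟩ := hYval z hz hz1
    show ∑ θ' ∈ Finset.univ.image Y, (θ' : G → ℂ) z = -(δ : ℂ)
    rw [Finset.sum_image hYinj.injOn, Finset.sum_congr rfl fun q _ => ?_, ← Finset.mul_sum,
      sum_eta_shift (r := QuotientGroup.mk u), mul_neg, mul_one]
    have h := hu q 1 (one_mem V)
    rw [mul_one] at h
    exact h

end Cfsg.Agent.Lib.RecogThree.M12.Full
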