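import Cfsg.Agent.Lib.RecogThree.M12.Local11
import Cfsg.Agent.Lib.RecogThree.M12.Full
import Cfsg.Agent.Lib.RecogThree.M11.Values
import Cfsg.Agent.Lib.Classif.ClassSum

/-!
Simple groups of order `95040` seen from the prime `11`: the family, the column of an element of
order `11` and the values at involutions.
-/

set_option autoImplicit false
set_option linter.style.haveILetI false
set_option linter.unusedSectionVars false

namespace Cfsg.Agent.Lib.RecogThree.M12.Eleven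

open Cfsg.Agent.Lib.Characters Cfsg.Agent.Lib.Characters.Basic
open Cfsg.Agent.Lib.Classif
open Cfsg.Agent.Lib.Classif.PrimeExceptional (deg apply_one_eq)
open Cfsg.Agent.Lib.RecogThree.M12.Combos
open scoped ComplexConjugate
open Finset

universe u

variable {G : Type u} [Group G] [Finite G] [IsSimpleGroup G]

/-- The elements `x`, `y` and the family at the prime `11`. -/
structure Base (G : Type u) [Group G] [Finite G] [IsSimpleGroup G] [Fact (Nat.Prime 11)] where
  card : Nat.card G = 95040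
  P : Sylow 11 G
  x : G
  y : G
  hx : orderOf x = 11
  hy : orderOf y = 5
  hyx : y * x * y⁻¹ = x ^ 3
  hPx : Subgroup.zpowers x = (P : Subgroup G)
  D : FirstPowerData.Data P 5
  X : Full.Extra P D
  f : Cfsg.IrrCharacter G → Fin 7
  hf : ∀ χ ∈ D.K, D.a χ * deg χ = code (f χ)
  ι : Fin 4 ≃ {χ // χ ∈ D.K}

theorem exists_base [Fact (Nat.Prime 11)] (h : Nat.card G = 95040) : Nonempty (Base G) := by
  classical
  haveI : Fact (Nat.Prime 5) := ⟨by norm_num⟩
  obtain ⟨P⟩ := (inferInstance : Nonempty (Sylow 11 G))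
  obtain ⟨-, hC, hN⟩ := Local11.p11_data h P
  have hP := Local11.card_p11 h P
  obtain ⟨⟨x, hxP⟩, hx⟩ := exists_prime_orderOf_dvd_card' (G := (P : Subgroup G)) 11 (by rw [hP])
  rw [Subgroup.orderOf_mk] at hx
  have hz : Subgroup.zpowers x = (P : Subgroup G) :=
    Subgroup.eq_of_le_of_card_ge (Subgroup.zpowers_le.mpr hxP)
      (by rw [Nat.card_zpowers, hx, hP])
  obtain ⟨⟨w, hw⟩, hwo⟩ := exists_prime_orderOf_dvd_card'
    (G := Subgroup.normalizer ((P : Subgroup G) : Set G)) 5 (by rw [hN]; norm_num)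
  rw [Subgroup.orderOf_mk] at hwo
  have hwx : w * x * w⁻¹ ∈ Subgroup.zpowers x := by
    rw [hz]; exact (Subgroup.mem_normalizer_iff.mp hw x).mp hxP
  obtain ⟨r, hr, hr'⟩ : ∃ r < 11, w * x * w⁻¹ = x ^ r := by
    rw [mem_zpowers_iff_mem_range_orderOf, Finset.mem_image] at hwx
    obtain ⟨r, hr, hr'⟩ := hwx
    exact ⟨r, by rw [Finset.mem_range, hx] at hr; exact hr, hr'.symm⟩
  have hpow : ∀ j, w ^ j * x * (w ^ j)⁻¹ = x ^ r ^ j := by
    intro j
    induction j with
    | zero => simp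
    | succ j ih =>
      calc w ^ (j + 1) * x * (w ^ (j + 1))⁻¹ = w * (w ^ j * x * (w ^ j)⁻¹) * w⁻¹ := by
            rw [pow_succ']; group
        _ = (w * x * w⁻¹) ^ r ^ j := by rw [ih, conj_pow]
        _ = x ^ r ^ (j + 1) := by rw [hr', ← pow_mul, pow_succ']
  have h5 : r ^ 5 % 11 = 1 := by
    have := hpow 5
    rw [← hwo, pow_orderOf_eq_one, one_mul, inv_one, mul_one, hwo] at this
    have h' : x ^ 1 = x ^ r ^ 5 := by rw [pow_one]; exact this
    rw [pow_eq_pow_iff_modEq, hx] at h'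
    exact h'.symm
  have hr1 : r ≠ 1 := by
    rintro rfl
    rw [pow_one] at hr'
    have hwP : w ∈ (P : Subgroup G) := by
      rw [← hC, Subgroup.mem_centralizer_iff]
      intro a ha
      rw [SetLike.mem_coe, ← hz] at ha
      obtain ⟨j, rfl⟩ := Subgroup.mem_zpowers_iff.mp ha
      exact (Commute.zpow_left (show Commute x w from (mul_inv_eq_iff_eq_mul.mp hr').symm) j).eq
    have := Subgroup.orderOf_dvd_natCard _ hwP
    rw [hwo, hP] at this
    norm_num at this
  obtain ⟨j, hj5, hj⟩ : ∃ j, 0 < j ∧ j < 5 ∧ r ^ j % 11 = 3 := by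
    have key : ∀ r : Fin 11, r.1 ^ 5 % 11 = 1 → r.1 ≠ 1 →
        ∃ j : Fin 5, 0 < j.1 ∧ r.1 ^ j.1 % 11 = 3 := by decide +kernel
    obtain ⟨j, h0, hj⟩ := key ⟨r, hr⟩ h5 hr1
    exact ⟨j.1, h0, j.2, hj⟩
  have hrel : (Subgroup.centralizer ((P : Subgroup G) : Set G)).relIndex
      (Subgroup.normalizer ((P : Subgroup G) : Set G)) = 5 := by
    have h' := SmallGroups.Sylow.card_centralizer_mul_relIndex (P : Subgroup G)
    rw [hN, show Nat.card (Subgroup.centralizer ((P : Subgroup G) : Set G)) = 11 by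
      rw [hC, hP]] at h'
    omega
  obtain ⟨D, ⟨X⟩⟩ := Full.exists_full P hP hrel
  obtain ⟨f, hf⟩ := Local11.exists_codes h D
  refine ⟨⟨h, P, x, w ^ j, hx, ?_, ?_, hz, D, X, f, hf,
    (D.K.equivFinOfCardEq (show D.K.card = 4 by have := D.card_K; omega)).symm⟩⟩
  · rw [orderOf_pow' w (by omega), hwo,
      Nat.Coprime.gcd_eq_one ((Nat.Prime.coprime_iff_not_dvd (by norm_num)).mpr
        (Nat.not_dvd_of_pos_of_lt hj5 hj.1)), Nat.div_one]
  · rw [hpow, ← hj.2]
    rw [pow_mod_orderOf x (r ^ j) |>.symm, hx]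

namespace Base

variable [Fact (Nat.Prime 11)] (B : Base G)
include B

theorem not_isComm : ¬ IsMulCommutative G := Local11.not_isComm B.card

theorem perfect : commutator G = ⊤ := SmallGroups.Sylow.commutator_eq_top B.not_isComm

theorem card_P : Nat.card (B.P : Subgroup G) = 11 := Local11.card_p11 B.card B.P

theorem centralizer_P :
    Subgroup.centralizer ((B.P : Subgroup G) : Set G) = (B.P : Subgroup G) :=
  (Local11.p11_data B.card B.P).2.1

theorem x_mem : B.x ∈ (B.P : Subgroup G) := B.hPx ▸ Subgroup.mem_zpowers B.x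

theorem x_ne_one : B.x ≠ 1 := fun e => by
  have := B.hx; rw [e, orderOf_one] at this; omega

/-- The family as a function on four indices. -/
def codes (i : Fin 4) : Fin 7 := B.f (B.ι i)

theorem sum_K {M : Type*} [AddCommMonoid M] (g : Cfsg.IrrCharacter G → M) :
    ∑ χ ∈ B.D.K, g χ = g (B.ι 0) + g (B.ι 1) + g (B.ι 2) + g (B.ι 3) := by
  rw [← sum_coe_sort B.D.K g, ← B.ι.sum_comp (fun χ => g χ), Fin.sum_univ_four]

theorem K_apply_x {χ : Cfsg.IrrCharacter G} (hχ : χ ∈ B.D.K) :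
    (χ : G → ℂ) B.x = (B.D.a χ : ℂ) := by
  simpa using B.D.value χ hχ B.x B.x_mem B.x_ne_one 1 (one_mem _)
    (by rw [orderOf_one]; norm_num)

theorem others_apply_x {χ : Cfsg.IrrCharacter G} (h1 : χ ≠ oneChar G) (hK : χ ∉ B.D.K)
    (hF : χ ∉ B.D.fam) : (χ : G → ℂ) B.x = 0 := by
  have h := B.X.others χ h1 hK hF B.x B.x_mem B.x_ne_one
  have hV : B.X.V = ⊥ := by
    refine (Subgroup.eq_bot_iff_forall _).mpr fun v hv => ?_
    obtain ⟨hc, hp⟩ := (B.X.mem_V v).mp hv
    rw [B.centralizer_P] at hc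
    by_contra hv1
    exact hp (by rw [orderOf_eq_prime (FixedSylow.pow_eq_one B.P B.card_P hc) hv1])
  haveI : Unique B.X.V := ⟨⟨1⟩, fun v => Subtype.ext (by
    have := v.2
    simp only [hV, Subgroup.mem_bot] at this
    simpa using this)⟩
  rw [finsum_unique] at h
  have h1v : ((default : B.X.V) : G) = 1 := by
    have := (default : B.X.V).2
    simpa [hV] using this
  rwa [h1v, mul_one] at h

theorem tot_eq : B.D.δ * deg B.D.θ = tot B.codes := by
  rw [← B.D.degree_eq, sum_congr rfl B.hf, B.sum_K, tot, ← add_assoc, ← add_assoc, ← add_assoc]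
  rfl

theorem fam_card : B.D.fam.card = 2 := by have := B.D.fam_card; omega

theorem valid : Valid B.codes := by
  obtain ⟨-, h2, h3, h4⟩ := FirstPowerKills.theta_facts B.perfect B.D
    (S := ∑ χ ∈ B.D.K, code (B.f χ)) (sum_congr rfl B.hf)
  have hc := B.D.θ_cong B.card_P
  rw [B.tot_eq] at hc
  have hsq := B.D.square_sum
  rw [B.card, h4, B.fam_card, show ∑ χ ∈ B.D.K, deg χ ^ 2 = ∑ χ ∈ B.D.K, code (B.f χ) ^ 2 from
    sum_congr rfl fun χ hχ => by
      rw [← (FirstPowerKills.signed_facts B.perfect B.card_P B.D hχ).2.2.2, B.hf χ hχ]] at hsq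
  have hS : 1 + ∑ χ ∈ B.D.K, code (B.f χ) = tot B.codes := by
    rw [← B.tot_eq, ← B.D.degree_eq, sum_congr rfl B.hf]
  rw [hS] at h2 h3 hsq
  rw [B.sum_K] at hsq
  refine ⟨h2, B.card ▸ h3, by exact_mod_cast hc, ?_⟩
  push_cast at hsq
  simp only [codes]
  linarith

theorem deg_θ : deg B.D.θ = (tot B.codes).natAbs ∧ B.D.δ = (tot B.codes).sign := by
  have h2 := (B.D.two_le B.perfect).2
  rw [← B.tot_eq]
  rcases B.D.δ_unit with e | e <;> rw [e]
  · rw [one_mul]
    exact ⟨by omega, (Int.sign_eq_one_of_pos (by omega)).symm⟩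
  · rw [neg_one_mul]
    exact ⟨by omega, (Int.sign_eq_neg_one_of_neg (by omega)).symm⟩

theorem deg_K (i : Fin 4) : deg (B.ι i : Cfsg.IrrCharacter G) = (code (B.codes i)).natAbs ∧
    B.D.a (B.ι i) = (code (B.codes i)).sign :=
  Local11.deg_of_code B.card B.D (B.ι i).2 (B.hf _ (B.ι i).2)

/-- The value of an exceptional character at `x`: not real, conjugate to the other one. -/
theorem fam_apply_x {θ' : Cfsg.IrrCharacter G} (hθ' : θ' ∈ B.D.fam) :
    (θ' : G → ℂ) B.x + conj ((θ' : G → ℂ) B.x) = -(B.D.δ : ℂ) ∧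
      Complex.normSq ((θ' : G → ℂ) B.x) = 3 := by
  classical
  haveI : Fintype (Cfsg.IrrCharacter G) := Fintype.ofFinite _
  choose m s S hs hS hms hdS hnorm hn using fun χ =>
    M11.Values.at_x B.hx B.hy B.hyx χ
  have hcx : Nat.card (Subgroup.centralizer ({B.x} : Set G)) = 11 := by
    rw [← Subgroup.centralizer_closure, ← Subgroup.zpowers_eq_closure, B.hPx, B.centralizer_P,
      B.card_P]
  have hcol : ∑ χ, S χ = 11 := by
    have h' := Complete.sum_irr_mul_conj B.x B.x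
    rw [if_pos (IsConj.refl B.x), hcx, sum_congr rfl fun χ _ => by
      rw [Complex.mul_conj, hS χ]] at h'
    exact_mod_cast h'
  have hS1 : S (oneChar G) = 1 := by
    have := hS (oneChar G)
    rw [oneChar_apply, map_one] at this
    exact_mod_cast this.symm
  have hSK : ∀ χ ∈ B.D.K, S χ = 1 := fun χ hχ => by
    have := hS χ
    rw [B.K_apply_x hχ] at this
    rcases B.D.a_unit χ hχ with e1 | e1 <;> rw [e1] at this <;> simp at this <;>
      exact_mod_cast this.symm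
  have hθd : deg θ' = deg B.D.θ := B.D.fam_deg θ' hθ'
  have hθ5 : (11 : ℤ) ∣ B.D.δ * deg θ' - 5 := by
    rw [hθd]; exact_mod_cast B.D.θ_cong B.card_P
  have hle : 1 + (B.D.K.card + ∑ ψ ∈ B.D.fam, S ψ) ≤ 11 :=
    calc 1 + (B.D.K.card + ∑ ψ ∈ B.D.fam, S ψ)
        = S (oneChar G) + (∑ ψ ∈ B.D.K, S ψ + ∑ ψ ∈ B.D.fam, S ψ) := by
          rw [hS1, sum_congr rfl hSK, card_eq_sum_ones]
      _ = ∑ ψ ∈ insert (oneChar G) (B.D.K ∪ B.D.fam), S ψ := by
          rw [sum_insert (by simp [B.D.one_not_mem, B.D.fam_one]), sum_union B.D.fam_disj]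
      _ ≤ ∑ χ, S χ := sum_le_sum_of_subset (subset_univ _)
      _ = 11 := hcol
  have h3 : ∀ ψ ∈ B.D.fam, 3 ≤ S ψ := fun ψ hψ => by
    obtain ⟨k, hk⟩ := hdS ψ
    rw [B.D.fam_deg ψ hψ] at hk
    obtain ⟨l, hl⟩ := (hθd ▸ hθ5 : (11 : ℤ) ∣ B.D.δ * deg B.D.θ - 5)
    have hsq : deg B.D.θ ^ 2 = (11 * l + 5) ^ 2 := by
      rw [show (11 * l + 5 : ℤ) = B.D.δ * deg B.D.θ by omega]
      rcases B.D.δ_unit with e | e <;> rw [e] <;> ring
    rw [hsq, show (11 * l + 5 : ℤ) ^ 2 = 11 * (11 * l ^ 2 + 10 * l + 2) + 3 by ring] at hk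
    generalize (11 * l ^ 2 + 10 * l + 2 : ℤ) = q at hk
    omega
  have hS3 : S θ' = 3 := by
    have h1 := card_nsmul_le_sum (B.D.fam.erase θ') S 3 fun ψ hψ => h3 ψ (mem_of_mem_erase hψ)
    have h1' : 3 ≤ ∑ ψ ∈ B.D.fam.erase θ', S ψ := by
      simpa [card_erase_of_mem hθ', B.fam_card] using h1
    have h2 := add_sum_erase B.D.fam S hθ'
    have := h3 θ' hθ'
    have := B.D.card_K
    omega
  refine ⟨?_, by rw [hS θ', hS3]; norm_num⟩
  rw [hs θ']
  have h1 : (s θ' : ℝ) = 2 * ((θ' : G → ℂ) B.x).re := by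
    have := congrArg Complex.re (hs θ')
    simp only [Complex.add_re, Complex.conj_re, Complex.intCast_re] at this
    linarith
  have h2 := hS θ'
  rw [Complex.normSq_apply, hS3] at h2
  have h4 : (s θ' : ℝ) ^ 2 ≤ 12 := by rw [h1]; push_cast at h2; nlinarith
  have h4' : s θ' ^ 2 ≤ 12 := by exact_mod_cast h4
  have : -3 ≤ s θ' ∧ s θ' ≤ 3 := by constructor <;> nlinarith
  have h5 := hms θ'
  obtain ⟨l, hl⟩ := hθ5
  have : s θ' = -B.D.δ := by
    rcases B.D.δ_unit with e | e <;> rw [e] at hl ⊢ <;> omega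
  rw [this]
  push_cast
  ring

theorem deg_dvd_of_others {χ : Cfsg.IrrCharacter G} (h1 : χ ≠ oneChar G) (hK : χ ∉ B.D.K)
    (hF : χ ∉ B.D.fam) : (11 : ℤ) ∣ deg χ := by
  obtain ⟨m, s, S, hs, hS, hms, -, -, -⟩ := M11.Values.at_x B.hx B.hy B.hyx χ
  rw [B.others_apply_x h1 hK hF, map_zero, add_zero] at hs
  have : s = 0 := by exact_mod_cast hs.symm
  exact ⟨m, by omega⟩

/-- An involution does not normalise a conjugate of `P`. -/
theorem not_normalize {z : G} (hz : orderOf z = 2) (b : G) :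
    b * z * b⁻¹ ∉ Subgroup.normalizer ((B.P : Subgroup G) : Set G) := fun hm => by
  have h := Subgroup.orderOf_dvd_natCard _ hm
  rw [(Local11.p11_data B.card B.P).2.2,
    show b * z * b⁻¹ = MulAut.conj b z from rfl, (MulAut.conj b).orderOf_eq, hz] at h
  norm_num at h

/-- The centraliser of an involution has no element of order `11`. -/
theorem not_dvd_card_centralizer {z : G} (hz : orderOf z = 2) :
    ¬ 11 ∣ Nat.card (Subgroup.centralizer ({z} : Set G)) := fun hd => by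
  obtain ⟨⟨g, hg⟩, hgo⟩ := exists_prime_orderOf_dvd_card'
    (G := Subgroup.centralizer ({z} : Set G)) 11 hd
  rw [Subgroup.orderOf_mk] at hgo
  have hcomm : Commute g z := Subgroup.mem_centralizer_singleton_iff.mp hg
  have h22 : 11 ∣ orderOf (g * z) := by
    rw [hcomm.orderOf_mul_eq_mul_orderOf_of_coprime (by rw [hgo, hz]; norm_num), hgo, hz]
    norm_num
  obtain ⟨b, hb, -⟩ := FirstPowerData.exists_conj_mem B.P B.card_P B.centralizer_P h22
  have h1 := FixedSylow.pow_eq_one B.P B.card_P hb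
  rw [conj_pow, conj_eq_one_iff] at h1
  have := orderOf_dvd_of_pow_eq_one h1
  rw [hcomm.orderOf_mul_eq_mul_orderOf_of_coprime (by rw [hgo, hz]; norm_num), hgo, hz] at this
  norm_num at this

set_option maxHeartbeats 1000000 in
/-- The values at an involution solve the relations. -/
theorem involution {c : Fin 4 → ℤ} {T : ℤ} (ι' : Fin 4 ≃ {χ // χ ∈ B.D.K})
    (hc : ∀ i, code (B.f (ι' i)) = c i) (hT : T = 1 + c 0 + c 1 + c 2 + c 3) (hTpos : 0 < T) {z : G}
    (hz : orderOf z = 2) :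
    ∃ (C : ℕ) (v₀ v₁ v₂ v₃ t : ℤ), (C, [v₀, v₁, v₂, v₃, t]) ∈ solutions c T ∧
      Nat.card (Subgroup.centralizer ({z} : Set G)) = C ∧
      ((ι' 0 : Cfsg.IrrCharacter G) : G → ℂ) z = v₀ ∧
      ((ι' 1 : Cfsg.IrrCharacter G) : G → ℂ) z = v₁ ∧
      ((ι' 2 : Cfsg.IrrCharacter G) : G → ℂ) z = v₂ ∧
      ((ι' 3 : Cfsg.IrrCharacter G) : G → ℂ) z = v₃ ∧
      ∀ θ' ∈ B.D.fam, (θ' : G → ℂ) z = t := by
  classical
  haveI : Fintype G := Fintype.ofFinite G
  have hz11 : ¬ 11 ∣ orderOf z := by rw [hz]; norm_num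
  have hzz : z * z = 1 := by rw [← pow_two, ← hz, pow_orderOf_eq_one]
  have hsumK : ∀ {M : Type} [AddCommMonoid M] (g : Cfsg.IrrCharacter G → M),
      ∑ χ ∈ B.D.K, g χ = g (ι' 0) + g (ι' 1) + g (ι' 2) + g (ι' 3) := by
    intro M _ g
    rw [← sum_coe_sort B.D.K g, ← ι'.sum_comp (fun χ => g χ), Fin.sum_univ_four]
  have hdK : ∀ i, deg (ι' i : Cfsg.IrrCharacter G) = (c i).natAbs ∧
      B.D.a (ι' i) = (c i).sign := fun i => by
    have := Local11.deg_of_code B.card B.D (ι' i).2 (B.hf _ (ι' i).2)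
    rwa [hc i] at this
  have hT' : B.D.δ * deg B.D.θ = T := by
    rw [hT, ← B.D.degree_eq, sum_congr rfl B.hf, hsumK, hc, hc, hc, hc]
    ring
  have hdT : deg B.D.θ = T.natAbs ∧ B.D.δ = T.sign := by
    have h2 := (B.D.two_le B.perfect).2
    rw [← hT']
    rcases B.D.δ_unit with e | e <;> rw [e]
    · rw [one_mul]; exact ⟨by omega, (Int.sign_eq_one_of_pos (by omega)).symm⟩
    · rw [neg_one_mul]; exact ⟨by omega, (Int.sign_eq_neg_one_of_neg (by omega)).symm⟩
  set C := Nat.card (Subgroup.centralizer ({z} : Set G)) with hC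
  have hCmul : C * (Subgroup.centralizer ({z} : Set G)).index = 95040 := by
    rw [hC, Subgroup.card_mul_index, B.card]
  have hk : (Subgroup.centralizer ({z} : Set G)).index = 95040 / C := by
    rw [← hCmul, Nat.mul_div_cancel_left _ Nat.card_pos]
  choose v hv h4 hlt hdiv using fun i => Basic.involution B.not_isComm
    (ι' i : Cfsg.IrrCharacter G) (fun e => B.D.one_not_mem (e ▸ (ι' i).2)) hz
  obtain ⟨t, ht, ht4, htlt, htdiv⟩ := Basic.involution B.not_isComm B.D.θ B.D.θ_ne_one hz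
  rw [hk] at htdiv
  simp only [hk] at hdiv
  let α : Cfsg.IrrCharacter G → ℤ := fun χ =>
    if h : χ ∈ B.D.K then v (ι'.symm ⟨χ, h⟩) else 0
  have hα : ∀ i, α (ι' i) = v i := fun i => by simp [α]
  have hle := B.D.centralizer_le hz11 α t (fun χ hχ => by
    obtain ⟨i, hi⟩ := ι'.surjective ⟨χ, hχ⟩
    rw [show χ = (ι' i : Cfsg.IrrCharacter G) from (congrArg Subtype.val hi).symm, hα]
    exact hv i) ht
  rw [hsumK, hα, hα, hα, hα, B.fam_card, ← hC] at hle
  push_cast at hle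
  have hrel := B.D.rel z hz11
  rw [hsumK, hv, hv, hv, hv, ht, (hdK 0).2, (hdK 1).2, (hdK 2).2, (hdK 3).2] at hrel
  have hrel' : 1 + (c 0).sign * v 0 + (c 1).sign * v 1 + (c 2).sign * v 2 + (c 3).sign * v 3 =
      T.sign * t := by
    rw [hdT.2] at hrel
    have h' : ((1 + (c 0).sign * v 0 + (c 1).sign * v 1 + (c 2).sign * v 2 +
        (c 3).sign * v 3 : ℤ) : ℂ) = ((T.sign * t : ℤ) : ℂ) := by
      push_cast
      linear_combination hrel
    exact_mod_cast h'
  have hTne : T ≠ 0 := fun e => by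
    have h2 := (B.D.two_le B.perfect).2
    rw [hdT.1, e] at h2
    norm_num at h2
  have htv : t = (1 + (c 0).sign * v 0 + (c 1).sign * v 1 + (c 2).sign * v 2 +
      (c 3).sign * v 3) * T.sign := by
    rw [hrel']
    rcases lt_or_gt_of_ne hTne with hlt' | hlt'
    · rw [Int.sign_eq_neg_one_of_neg hlt']; ring
    · rw [Int.sign_eq_one_of_pos hlt']; ring
  have hcne : ∀ i, c i ≠ 0 := fun i e => by
    have h2 := (B.D.two_le B.perfect).1 _ (ι' i).2
    rw [(hdK i).1, e] at h2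
    norm_num at h2
  have hquad : c 0 * c 1 * c 2 * c 3 * T + c 1 * c 2 * c 3 * T * v 0 ^ 2 +
      c 0 * c 2 * c 3 * T * v 1 ^ 2 + c 0 * c 1 * c 3 * T * v 2 ^ 2 +
      c 0 * c 1 * c 2 * T * v 3 ^ 2 - c 0 * c 1 * c 2 * c 3 * t ^ 2 = 0 := by
    have hq := ClassSum.class_sum_zero B.P B.card_P B.centralizer_P B.D
      (Local11.p11_data B.card B.P).2.2 hz11 hzz (B.not_normalize hz)
    rw [mul_eq_zero, or_iff_right (Nat.cast_ne_zero.mpr Nat.card_pos.ne'),
      hsumK, hv, hv, hv, hv, ht] at hq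
    have hterm : ∀ i, (B.D.a (ι' i) : ℂ) * ((v i : ℂ) * (v i : ℂ) /
        (deg (ι' i : Cfsg.IrrCharacter G) : ℂ)) = (v i : ℂ) ^ 2 / (c i : ℂ) := fun i => by
      rw [(hdK i).1, (hdK i).2]
      rcases lt_or_gt_of_ne (hcne i) with h' | h'
      · rw [Int.sign_eq_neg_one_of_neg h', show ((c i).natAbs : ℤ) = -c i by omega]
        push_cast; rw [div_neg]; ring
      · rw [Int.sign_eq_one_of_pos h', show ((c i).natAbs : ℤ) = c i by omega]
        push_cast; ring
    have htT : (B.D.δ : ℂ) * ((t : ℂ) * (t : ℂ) / (deg B.D.θ : ℂ)) = (t : ℂ) ^ 2 / (T : ℂ) := by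
      rw [hdT.1, hdT.2]
      rcases lt_or_gt_of_ne hTne with h' | h'
      · rw [Int.sign_eq_neg_one_of_neg h', show (T.natAbs : ℤ) = -T by omega]
        push_cast; rw [div_neg]; ring
      · rw [Int.sign_eq_one_of_pos h', show (T.natAbs : ℤ) = T by omega]
        push_cast; ring
    rw [hterm, hterm, hterm, hterm, htT] at hq
    have h0 : (c 0 : ℂ) ≠ 0 := Int.cast_ne_zero.mpr (hcne 0)
    have h1 : (c 1 : ℂ) ≠ 0 := Int.cast_ne_zero.mpr (hcne 1)
    have h2 : (c 2 : ℂ) ≠ 0 := Int.cast_ne_zero.mpr (hcne 2)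
    have h3 : (c 3 : ℂ) ≠ 0 := Int.cast_ne_zero.mpr (hcne 3)
    have hT0 : (T : ℂ) ≠ 0 := Int.cast_ne_zero.mpr hTne
    field_simp at hq
    apply Int.cast_injective (α := ℂ)
    push_cast
    linear_combination hq
  refine ⟨C, v 0, v 1, v 2, v 3, t, ?_, rfl, hv 0, hv 1, hv 2, hv 3, fun θ' hθ' => by
    rw [B.D.fam_regular θ' hθ' z hz11, ht]⟩
  have hCdvd : C ∣ 8640 := by
    have hd : C ∣ 11 * 8640 := ⟨_, hCmul.symm⟩
    exact (((Nat.Prime.coprime_iff_not_dvd (by norm_num)).mpr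
      (B.not_dvd_card_centralizer hz)).symm).dvd_of_dvd_mul_left hd
  have hC2 : 2 ∣ C := hz ▸ Subgroup.orderOf_dvd_natCard _
    (Subgroup.mem_centralizer_singleton_iff.mpr rfl)
  have hCc : C ∈ cands := by
    obtain ⟨j, hj⟩ := hC2
    have hpos : 0 < C := Nat.card_pos
    have := Nat.le_of_dvd (by norm_num) hCdvd
    simp only [cands, List.mem_filter, List.mem_map, List.mem_range, beq_iff_eq]
    exact ⟨⟨j - 1, by omega, by omega⟩, Nat.mod_eq_zero_of_dvd hCdvd⟩
  have hvals : ∀ i, v i ∈ vals C (c i).natAbs := by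
    intro i
    have hd := hdiv i
    rw [(hdK i).1] at hd
    have hlt' := hlt i
    rw [(hdK i).1] at hlt'
    have h4' := h4 i
    rw [(hdK i).1] at h4'
    set d := (c i).natAbs
    have hd0 : 0 < d := Int.natAbs_pos.mpr (hcne i)
    set s := d / Nat.gcd d (95040 / C) with hs
    have hdn : d ∣ (95040 / C) * (v i).natAbs := by
      rw [show (95040 / C) * (v i).natAbs = (((95040 / C : ℕ) : ℤ) * v i).natAbs by
        rw [Int.natAbs_mul, Int.natAbs_natCast]]
      exact Int.natCast_dvd.mp hd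
    have hg : 0 < Nat.gcd d (95040 / C) := Nat.gcd_pos_of_pos_left _ hd0
    have hsv : s ∣ (v i).natAbs := (Nat.coprime_div_gcd_div_gcd hg).dvd_of_dvd_mul_left (by
      refine Nat.dvd_of_mul_dvd_mul_left hg ?_
      rw [Nat.mul_div_cancel' (Nat.gcd_dvd_left ..), ← mul_assoc,
        Nat.mul_div_cancel' (Nat.gcd_dvd_right ..)]
      exact hdn)
    have hsv' : (s : ℤ) ∣ v i := Int.natCast_dvd.mpr hsv
    obtain ⟨q, hq⟩ := hsv'
    have hsd : s ∣ d := Nat.div_dvd_of_dvd (Nat.gcd_dvd_left _ _)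
    obtain ⟨r, hr⟩ := hsd
    have hs0 : 0 < s := Nat.pos_of_ne_zero fun e => by rw [e, zero_mul] at hr; omega
    have hrs : d / s = r := by rw [hr, Nat.mul_div_cancel_left _ hs0]
    have habs := abs_lt.mp hlt'
    have hsq : v i * v i < (C : ℤ) := by
      have h1 := single_le_sum (f := fun j => v j ^ 2) (fun j _ => sq_nonneg (v j)) (mem_univ i)
      rw [Fin.sum_univ_four] at h1
      nlinarith [sq_nonneg t]
    simp only [vals, List.mem_filter, List.mem_map, List.pure_def, List.bind_eq_flatMap,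
      List.mem_flatMap, List.mem_singleton, List.mem_range, ← hs, hrs, Bool.and_eq_true,
      decide_eq_true_eq, beq_iff_eq]
    have hqr : -(r : ℤ) < q ∧ q < r := by
      rw [hq, hr] at habs
      push_cast at habs
      constructor <;> nlinarith
    refine ⟨⟨q + r, ⟨(q + r).toNat, by omega, by omega⟩, ?_⟩, ⟨by omega, ?_⟩, hsq⟩
    · rw [hq]; ring
    · exact Int.emod_eq_zero_of_dvd h4'
  simp only [solutions, List.mem_flatMap, List.mem_filterMap]
  refine ⟨C, hCc, v 0, hvals 0, v 1, hvals 1, v 2, hvals 2, v 3, hvals 3, ?_⟩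
  simp only [← htv]
  rw [if_pos ?_]
  simp only [rels, Bool.and_eq_true, decide_eq_true_eq, beq_iff_eq]
  refine ⟨⟨⟨⟨?_, ?_⟩, ?_⟩, ?_⟩, ?_⟩
  · rw [hdT.1] at htlt
    have := abs_lt.mp htlt
    omega
  · rw [hdT.1] at ht4
    omega
  · simp only [Matrix.cons_val]
    linarith
  · rw [hdT.1] at htdiv
    exact htdiv
  · simp only [Matrix.cons_val]
    exact hquad

/-- Renumbering of the family. -/
theorem exists_target {σ : Equiv.Perm (Fin 4)} {g : Fin 4 → Fin 7} (h : B.codes ∘ σ = g) :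
    ∃ ι' : Fin 4 ≃ {χ // χ ∈ B.D.K}, ∀ i, code (B.f (ι' i)) = code (g i) :=
  ⟨σ.trans B.ι, fun i => congrArg code (congrFun h i)⟩

end Base

end Cfsg.Agent.Lib.RecogThree.M12.Eleven
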