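import Cfsg.Agent.Lib.RecogThree.M12.Eleven
import Cfsg.Agent.Lib.Characters.DefectZero

/-!
Simple groups of order `95040` seen from the prime `5`: general facts.
-/

set_option autoImplicit false
set_option linter.style.haveILetI false
set_option linter.unusedSectionVars false

namespace Cfsg.Agent.Lib.RecogThree.M12.Five

open Cfsg.Agent.Lib.Characters Cfsg.Agent.Lib.Characters.Basic
open Cfsg.Agent.Lib.Classif
open Cfsg.Agent.Lib.Classif.PrimeExceptional (deg apply_one_eq)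
open Cfsg.Agent.Lib.RecogThree.M12.Combos
open Cfsg.Agent.Lib.RecogThree.M12.Eleven (Base)
open scoped ComplexConjugate
open Finset

universe u

variable {G : Type u} [Group G] [Finite G] [IsSimpleGroup G] [Fact (Nat.Prime 11)] (B : Base G)

include B

/-- An element of order `11` commutes only with powers of itself. -/
theorem eq_one_of_commute {g z : G} (hg : orderOf g = 11) (hc : Commute g z)
    (hz : ¬ 11 ∣ orderOf z) : z = 1 := by
  have hco : (orderOf g).Coprime (orderOf z) := by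
    rw [hg]; exact (Nat.Prime.coprime_iff_not_dvd (by norm_num)).mpr hz
  have h11 : 11 ∣ orderOf (g * z) := by
    rw [hc.orderOf_mul_eq_mul_orderOf_of_coprime hco, hg]
    exact dvd_mul_right _ _
  obtain ⟨b, hb, -⟩ := FirstPowerData.exists_conj_mem B.P B.card_P B.centralizer_P h11
  have h1 := FixedSylow.pow_eq_one B.P B.card_P hb
  rw [conj_pow, conj_eq_one_iff] at h1
  have h2 := orderOf_dvd_of_pow_eq_one h1
  rw [hc.orderOf_mul_eq_mul_orderOf_of_coprime hco, hg] at h2
  have : orderOf z = 1 := by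
    have h3 : orderOf z ∣ 1 := (Nat.mul_dvd_mul_iff_left (by norm_num : 0 < 11)).mp (by simpa using h2)
    exact Nat.dvd_one.mp h3
  exact orderOf_eq_one_iff.mp this

theorem not_dvd_centralizer_y : ¬ 11 ∣ Nat.card (Subgroup.centralizer ({B.y} : Set G)) := by
  intro hd
  obtain ⟨⟨g, hg⟩, hgo⟩ := exists_prime_orderOf_dvd_card'
    (G := Subgroup.centralizer ({B.y} : Set G)) 11 hd
  rw [Subgroup.orderOf_mk] at hgo
  have h1 := eq_one_of_commute B hgo (Subgroup.mem_centralizer_singleton_iff.mp hg)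
    (by rw [B.hy]; norm_num)
  have := B.hy
  rw [h1, orderOf_one] at this
  norm_num at this

/-- A non-trivial character is in the family at `11` or vanishes at `x`. -/
theorem cases_x {χ : Cfsg.IrrCharacter G} (h1 : χ ≠ oneChar G) :
    (∃ i, χ = (B.ι i : Cfsg.IrrCharacter G) ∧ (χ : G → ℂ) B.x = (B.D.a χ : ℂ)) ∨
      χ ∈ B.D.fam ∨
      (χ ∉ B.D.K ∧ χ ∉ B.D.fam ∧ (χ : G → ℂ) B.x = 0 ∧ (11 : ℤ) ∣ deg χ) := by
  by_cases hK : χ ∈ B.D.K
  · obtain ⟨i, hi⟩ := B.ι.surjective ⟨χ, hK⟩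
    exact Or.inl ⟨i, (congrArg Subtype.val hi).symm, B.K_apply_x hK⟩
  by_cases hF : χ ∈ B.D.fam
  · exact Or.inr (Or.inl hF)
  · exact Or.inr (Or.inr ⟨hK, hF, B.others_apply_x h1 hK hF, B.deg_dvd_of_others h1 hK hF⟩)

theorem fam_im {θ' : Cfsg.IrrCharacter G} (h : θ' ∈ B.D.fam) : ((θ' : G → ℂ) B.x).im ≠ 0 := by
  intro him
  obtain ⟨h1, h2⟩ := B.fam_apply_x h
  have hre := congrArg Complex.re h1
  rw [Complex.add_re, Complex.conj_re] at hre
  simp only [Complex.neg_re, Complex.intCast_re] at hre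
  rw [Complex.normSq_apply, him, mul_zero, add_zero] at h2
  rcases B.D.δ_unit with e | e <;> rw [e] at hre <;> push_cast at hre <;> nlinarith

theorem fam_sum_x : ∑ θ' ∈ B.D.fam, (θ' : G → ℂ) B.x = -(B.D.δ : ℂ) :=
  B.X.fam_sum B.x B.x_mem B.x_ne_one

theorem fam_re {θ' : Cfsg.IrrCharacter G} (h : θ' ∈ B.D.fam) :
    2 * ((θ' : G → ℂ) B.x).re = -(B.D.δ : ℝ) := by
  have hre := congrArg Complex.re (B.fam_apply_x h).1
  rw [Complex.add_re, Complex.conj_re] at hre
  simp only [Complex.neg_re, Complex.intCast_re] at hre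
  linarith

/-- A character whose value at `x` is real is not exceptional at `11`. -/
theorem int_apply_x {χ : Cfsg.IrrCharacter G} (h1 : χ ≠ oneChar G) (hF : χ ∉ B.D.fam) :
    ((χ : G → ℂ) B.x).im = 0 := by
  rcases cases_x B h1 with ⟨i, -, hv⟩ | h | ⟨-, -, hv, -⟩
  · rw [hv]; simp
  · exact absurd h hF
  · rw [hv]; simp

/-- There is no involution once the relations at involutions have no solution. -/
theorem false_of_no_solutions (σ : Equiv.Perm (Fin 4)) {g : Fin 4 → Fin 7}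
    (h : B.codes ∘ σ = g) {c : Fin 4 → ℤ} {T : ℤ} (hc : ∀ i, code (g i) = c i)
    (hT : T = 1 + c 0 + c 1 + c 2 + c 3) (hTpos : 0 < T) (hsol : solutions c T = []) :
    False := by
  haveI : Fact (Nat.Prime 2) := ⟨Nat.prime_two⟩
  obtain ⟨ι', hι'⟩ := B.exists_target h
  obtain ⟨z, hz⟩ := exists_prime_orderOf_dvd_card' (G := G) 2 (by rw [B.card]; norm_num)
  obtain ⟨C, v₀, v₁, v₂, v₃, t, hmem, -⟩ :=
    B.involution ι' (fun i => (hι' i).trans (hc i)) hT hTpos hz
  rw [hsol] at hmem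
  exact List.not_mem_nil hmem

/-- A character of degree ten is in the family at `11`. -/
theorem code_of_deg_ten {χ : Cfsg.IrrCharacter G} (hd : deg χ = 10) :
    ∃ i, χ = (B.ι i : Cfsg.IrrCharacter G) ∧ B.codes i = 0 := by
  have h1 : χ ≠ oneChar G := fun e => by
    rw [e] at hd
    have h := apply_one_eq (oneChar G)
    rw [oneChar_apply, hd] at h
    norm_num at h
  rcases cases_x B h1 with ⟨i, hi, -⟩ | h | ⟨-, -, -, h⟩
  · refine ⟨i, hi, ?_⟩
    have hdeg := (B.deg_K i).1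
    rw [← hi, hd] at hdeg
    generalize B.codes i = k at hdeg
    revert hdeg; revert k
    decide +kernel
  · exfalso
    have hdeg := B.D.fam_deg χ h
    have hc := B.D.θ_cong B.card_P
    rw [← hdeg, hd] at hc
    rcases B.D.δ_unit with e | e <;> rw [e] at hc <;> norm_num at hc
  · rw [hd] at h; norm_num at h

/-- The values of a character of degree five or ten on a coset of the centraliser of `y`. -/
theorem eigen_sum (χ : Cfsg.IrrCharacter G) {m₀ : ℕ} (hd : deg χ = ((5 * m₀ : ℕ) : ℤ)) {g : G}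
    (hgy : Commute g B.y) (hg5 : ¬ 5 ∣ orderOf g) :
    ∃ ζ : Fin m₀ → ℂ, (∀ i, ζ i ^ orderOf g = 1) ∧
      ∀ j : ℕ, (χ : G → ℂ) (g ^ j) = 5 * ∑ i, ζ i ^ j := by
  obtain ⟨m, ζ, hm, hζ, hsum⟩ := Basic.exists_range_eigen (p := 5) (by norm_num) χ
    (y := B.y) (g := g) (B.hy ▸ pow_orderOf_eq_one B.y) hgy (a := 0) (fun i j hi hi5 => by
      refine DefectZero.apply_eq_zero (n := 1) (r := 19008) (e := m₀) (p := 5) (by norm_num) χ
        (by rw [B.card]; norm_num) (by norm_num) (by rw [apply_one_eq, hd]; push_cast; ring) ?_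
      have ho : orderOf (B.y ^ i) = 5 := by
        rw [orderOf_pow' B.y (by omega), B.hy, Nat.Coprime.gcd_eq_one ((Nat.Prime.coprime_iff_not_dvd
          (by norm_num)).mpr (Nat.not_dvd_of_pos_of_lt hi hi5)), Nat.div_one]
      rw [((hgy.pow_left j).pow_right i).orderOf_mul_eq_mul_orderOf_of_coprime, ho]
      · exact dvd_mul_left _ _
      · rw [ho]
        exact (((Nat.Prime.coprime_iff_not_dvd (by norm_num)).mpr hg5).symm).coprime_dvd_left
          (orderOf_pow_dvd j))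
  have hm' : m = m₀ := by
    rw [hd, mul_zero, add_zero] at hm
    push_cast at hm
    exact Nat.cast_injective (mul_left_cancel₀ (by norm_num : (5 : ℂ) ≠ 0) hm)
  subst hm'
  refine ⟨ζ, hζ, fun j => ?_⟩
  have := hsum j
  rw [mul_zero, add_zero] at this
  exact this.symm

/-- The prime `5` centralises more than itself, so no character has degree five. -/
theorem deg_ne_five {v : G} (hv : v ≠ 1) (hvy : Commute v B.y) (hv5 : ¬ 5 ∣ orderOf v)
    (χ : Cfsg.IrrCharacter G) (hχ : χ ≠ oneChar G) : deg χ ≠ 5 := by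
  intro hd
  obtain ⟨ζ, hζ, hs⟩ := eigen_sum B χ (m₀ := 1) (by rw [hd]; norm_num) hvy hv5
  have h := Basic.norm_lt B.not_isComm χ hχ hv
  have h1 := hs 1
  rw [pow_one, Fin.sum_univ_one, pow_one] at h1
  have hn : ‖ζ 0‖ = 1 := Complex.norm_eq_one_of_pow_eq_one (hζ 0) (orderOf_pos v).ne'
  rw [h1, norm_mul, hn, hd] at h
  norm_num at h

/-- No character has degree ten if `y` centralises an involution. -/
theorem deg_ne_ten_of_even {v : G} (hv : orderOf v = 2) (hvy : Commute v B.y)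
    (χ : Cfsg.IrrCharacter G) : deg χ ≠ 10 := by
  intro hd
  have hχ : χ ≠ oneChar G := by
    obtain ⟨i, hi, -⟩ := code_of_deg_ten B hd
    exact fun e => B.D.one_not_mem (e ▸ hi ▸ (B.ι i).2)
  obtain ⟨ζ, hζ, hs⟩ := eigen_sum B χ (m₀ := 2) (by rw [hd]; norm_num) hvy (by rw [hv]; norm_num)
  obtain ⟨w, hw, h4, hlt, -⟩ := Basic.involution B.not_isComm χ hχ hv
  rw [hd] at h4 hlt
  have h1 := hs 1
  rw [pow_one, Fin.sum_univ_two, pow_one, pow_one, hw] at h1
  have hsq : ∀ i, ζ i = 1 ∨ ζ i = -1 := fun i => by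
    have := hζ i
    rw [hv] at this
    exact sq_eq_one_iff.mp this
  have hw' : w = 10 ∨ w = 0 ∨ w = -10 := by
    have : (w : ℂ) = (10 : ℤ) ∨ (w : ℂ) = (0 : ℤ) ∨ (w : ℂ) = (-10 : ℤ) := by
      rcases hsq 0 with e0 | e0 <;> rcases hsq 1 with e1 | e1 <;> rw [e0, e1] at h1 <;>
        rw [h1] <;> norm_num
    simpa only [Int.cast_inj] using this
  rcases hw' with rfl | rfl | rfl <;> (revert h4 hlt; norm_num)

/-- The value minus five of the unique character of degree ten on elements of order three. -/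
theorem apply_three {χ : Cfsg.IrrCharacter G} (hd : deg χ = 10)
    (huniq : ∀ χ' : Cfsg.IrrCharacter G, deg χ' = 10 → χ' = χ) {g : G} (hg1 : g ≠ 1)
    (hg9 : orderOf g ∣ 9) (hgy : Commute g B.y) :
    g ^ 3 = 1 ∧ (χ : G → ℂ) g = -5 := by
  have hg5 : ¬ 5 ∣ orderOf g := fun h => by
    have := h.trans hg9
    norm_num at this
  obtain ⟨χ', hχ'⟩ := Basic.exists_pow_char χ (k := 29) (by rw [B.card]; norm_num)
  have he : χ' = χ := huniq χ' (by
    have h := hχ' 1
    rw [one_pow, apply_one_eq, apply_one_eq, hd] at h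
    exact_mod_cast h)
  have h29 : ∀ j : ℕ, (χ : G → ℂ) (g ^ j) = (χ : G → ℂ) (g ^ (2 * j)) := by
    intro j
    have h := hχ' (g ^ j)
    rw [he] at h
    rw [h, ← pow_mul]
    refine congrArg _ (pow_eq_pow_iff_modEq.mpr ?_)
    exact Nat.ModEq.of_dvd hg9 (by unfold Nat.ModEq; omega)
  obtain ⟨ζ, hζ, hs⟩ := eigen_sum B χ (m₀ := 2) (by rw [hd]; norm_num) hgy hg5
  have hχ : χ ≠ oneChar G := by
    obtain ⟨i, hi, -⟩ := code_of_deg_ten B hd
    exact fun e => B.D.one_not_mem (e ▸ hi ▸ (B.ι i).2)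
  have h1 := h29 1
  have h2 := h29 2
  rw [hs, hs, Fin.sum_univ_two, Fin.sum_univ_two] at h1 h2
  norm_num at h1 h2
  have hne : ∀ k : G, k ≠ 1 → (χ : G → ℂ) k ≠ 10 := fun k hk he10 => by
    have := Basic.norm_lt B.not_isComm χ hχ hk
    rw [he10, hd] at this
    norm_num at this
  have hπ : ζ 0 * ζ 1 = 1 := by
    have hζ0 : ζ 0 * ζ 1 ≠ 0 := mul_ne_zero
      (fun e => by have := hζ 0; rw [e, zero_pow (orderOf_pos g).ne'] at this; norm_num at this)
      (fun e => by have := hζ 1; rw [e, zero_pow (orderOf_pos g).ne'] at this; norm_num at this)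
    have h : ζ 0 * ζ 1 * (ζ 0 * ζ 1 - 1) = 0 := by
      linear_combination (1 / 2 : ℂ) * h2 - ((ζ 0 + ζ 1 + ζ 0 ^ 2 + ζ 1 ^ 2) / 2) * h1
    exact sub_eq_zero.mp ((mul_eq_zero.mp h).resolve_left hζ0)
  have hs2 : ζ 0 + ζ 1 = -1 := by
    have h : (ζ 0 + ζ 1 - 2) * (ζ 0 + ζ 1 + 1) = 0 := by linear_combination 2 * hπ - h1
    refine eq_neg_of_add_eq_zero_left ((mul_eq_zero.mp h).resolve_left fun e => hne g hg1 ?_)
    rw [← pow_one g, hs, Fin.sum_univ_two, pow_one, pow_one, sub_eq_zero.mp e]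
    norm_num
  refine ⟨?_, ?_⟩
  · by_contra h3
    refine hne _ h3 ?_
    rw [hs, Fin.sum_univ_two]
    linear_combination (5 * ((ζ 0 + ζ 1) ^ 2 - (ζ 0 + ζ 1) + 1 - 3 * 1)) * hs2 -
      (15 * (ζ 0 + ζ 1)) * hπ
  · rw [← pow_one g, hs, Fin.sum_univ_two, pow_one, pow_one, hs2]
    norm_num

/-- The unique character of degree ten forbids nine in the centraliser of `y`. -/
theorem not_nine {χ : Cfsg.IrrCharacter G} (hd : deg χ = 10)
    (huniq : ∀ χ' : Cfsg.IrrCharacter G, deg χ' = 10 → χ' = χ) :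
    ¬ 9 ∣ Nat.card (Subgroup.centralizer ({B.y} : Set G)) := by
  intro h9
  haveI : Fact (Nat.Prime 3) := ⟨Nat.prime_three⟩
  obtain ⟨E, hE⟩ := Sylow.exists_subgroup_card_pow_prime 3 (n := 2)
    (G := Subgroup.centralizer ({B.y} : Set G)) (by simpa using h9)
  set E' := E.map (Subgroup.centralizer ({B.y} : Set G)).subtype with hE'
  have hE'card : Nat.card E' = 9 := by
    rw [hE', Subgroup.card_map_of_injective (Subgroup.subtype_injective _), hE]; norm_num
  have hord : ∀ g ∈ E', g ≠ 1 → g ^ 3 = 1 ∧ (χ : G → ℂ) g = -5 := fun g hg hg1 => by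
    have hgy : Commute g B.y := by
      obtain ⟨a, -, rfl⟩ := hg
      exact Subgroup.mem_centralizer_singleton_iff.mp a.2
    exact apply_three B hd huniq hg1 (hE'card ▸ Subgroup.orderOf_dvd_natCard _ hg) hgy
  haveI : IsMulCommutative E' := IsPGroup.isMulCommutative_of_card_eq_prime_sq (p := 3)
    (by rw [hE'card]; norm_num)
  obtain ⟨a, ha, ha1⟩ := (Subgroup.ne_bot_iff_exists_ne_one.mp (fun e : E' = ⊥ => by
    rw [e, Subgroup.card_bot] at hE'card; norm_num at hE'card) : ∃ a : E', a ≠ 1) |>.elim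
      fun a h => (⟨a, a.2, fun e => h (Subtype.ext e)⟩ : ∃ a ∈ E', a ≠ (1 : G))
  have ha3 : orderOf a = 3 := orderOf_eq_prime (hord a ha ha1).1 ha1
  obtain ⟨b, hb, hbn⟩ : ∃ b ∈ E', b ∉ Subgroup.zpowers a := by
    by_contra hno
    push Not at hno
    have := Subgroup.card_le_of_le (fun b hb => hno b hb : E' ≤ Subgroup.zpowers a)
    rw [hE'card, Nat.card_zpowers, ha3] at this
    omega
  have hb1 : b ≠ 1 := fun e => hbn (e ▸ one_mem _)
  have hcomm : Commute b a := congrArg Subtype.val (mul_comm' (⟨b, hb⟩ : E') ⟨a, ha⟩)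
  have hb3 : orderOf b = 3 := orderOf_eq_prime (hord b hb hb1).1 hb1
  obtain ⟨m, ζ, hm, -, hsum⟩ := Basic.exists_range_eigen (p := 3) (by norm_num) χ (y := a) (g := b)
    (hord a ha ha1).1 hcomm (a := (-5 : ℂ)) (fun i j hi hi3 => by
      refine (hord _ (mul_mem (pow_mem hb j) (pow_mem ha i)) fun e => ?_).2
      have hai : a ^ i ≠ 1 := pow_ne_one_of_lt_orderOf (by omega) (by omega)
      have hbj : b ^ j ∈ Subgroup.zpowers a := by
        rw [eq_inv_of_mul_eq_one_left e]
        exact inv_mem (Subgroup.npow_mem_zpowers a i)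
      by_cases h3 : 3 ∣ j
      · rw [← hb3] at h3
        rw [orderOf_dvd_iff_pow_eq_one.mp h3, one_mul] at e
        exact hai e
      · obtain ⟨k, hk⟩ := exists_pow_eq_self_of_coprime (x := b) (n := j)
          (by rw [hb3]; exact ((Nat.Prime.coprime_iff_not_dvd Nat.prime_three).mpr h3).symm)
        exact hbn (hk ▸ pow_mem hbj k))
  have hm0 : m = 0 := by
    rw [hd] at hm
    norm_num at hm
    exact_mod_cast hm
  subst hm0
  have := hsum 1
  rw [pow_one, (hord b hb hb1).2] at this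
  norm_num at this

end Cfsg.Agent.Lib.RecogThree.M12.Five
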