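import Cfsg.Agent.Lib.RecogThree.M12.Table

/-!
Simple groups of order `95040`: elements of order four inducing an automorphism of order four on
`⟨y⟩`, and their values.
-/

set_option autoImplicit false
set_option linter.style.haveILetI false
set_option linter.unusedSectionVars false

namespace Cfsg.Agent.Lib.RecogThree.M12.Fix

open Cfsg.Agent.Lib.Characters Cfsg.Agent.Lib.Characters.Basic
open Cfsg.Agent.Lib.Classif
open Cfsg.Agent.Lib.Classif.PrimeExceptional (deg apply_one_eq)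
open Cfsg.Agent.Lib.RecogThree.M11 (Rep.avg Rep.avg_idem Rep.trace_mul_avg Rep.trace_avg
  Rep.comm_avg Rep.trace_idem Rep.norm_trace_mul_le Rep.eq_zero_of_trace)
open Cfsg.Agent.Lib.RecogThree.M12.Eleven (Base)
open Cfsg.Agent.Lib.RecogThree.M12.Column (Rest)
open scoped ComplexConjugate
open Finset

universe u

variable {G : Type u} [Group G] [Finite G]

theorem four_case {ζ : ℂ} (h : ζ ^ 4 = 1) : ∃ k : Fin 4, ζ = Complex.I ^ (k : ℕ) := by
  have h' : (ζ - 1) * (ζ + 1) * (ζ - Complex.I) * (ζ + Complex.I) = 0 := by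
    linear_combination h - (ζ ^ 2 - 1) * Complex.I_sq
  have hI3 : Complex.I ^ 3 = -Complex.I := by linear_combination Complex.I * Complex.I_sq
  rcases mul_eq_zero.mp h' with h1 | h1
  · rcases mul_eq_zero.mp h1 with h2 | h2
    · rcases mul_eq_zero.mp h2 with h3 | h3
      · exact ⟨0, by simpa [sub_eq_zero] using h3⟩
      · exact ⟨2, by simp [eq_neg_of_add_eq_zero_left h3]⟩
    · exact ⟨1, by simpa [sub_eq_zero] using h2⟩
  · exact ⟨3, by simp [hI3, eq_neg_of_add_eq_zero_left h1]⟩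

/-- A real value at an element with fourth power one, from its square. -/
theorem mod_four (hperf : commutator G = ⊤) (χ : Cfsg.IrrCharacter G) {u : G} (hu : u ^ 4 = 1)
    (hreal : ((χ : G → ℂ) u).im = 0) {e : ℤ} (he : (χ : G → ℂ) (u ^ 2) = e) :
    ∃ c : ℤ, (χ : G → ℂ) u = c ∧ (8 : ℤ) ∣ deg χ + e - 2 * c := by
  classical
  obtain ⟨n, ρ, -, hχ⟩ := exists_rep χ
  obtain ⟨ι, hι, b, ζ, hζ, hcard, htr⟩ := Diag.exists_eigenbasis ρ u (N := 4) (by norm_num) hu
  choose k hk using fun i => four_case (hζ i).2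
  have hdeg : deg χ = (Fintype.card ι : ℤ) := by
    have h1 := apply_one_eq χ
    rw [← hχ, Representation.char_one, ← hcard] at h1
    exact_mod_cast h1.symm
  have hdet : LinearMap.det (ρ u) = 1 := by
    let D : G →* ℂˣ := ((LinearMap.det).comp ρ).toHomUnits
    have hker : commutator G ≤ D.ker := Abelianization.commutator_subset_ker D
    exact congrArg Units.val (hker (hperf ▸ Subgroup.mem_top u))
  have hdiag : LinearMap.toMatrix b b (ρ u) = Matrix.diagonal ζ := by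
    ext i j
    rw [LinearMap.toMatrix_apply, (hζ j).1, map_smul, Module.Basis.repr_self, Matrix.diagonal]
    by_cases h : i = j
    · subst h; simp
    · simp [h, Finsupp.single_apply, Ne.symm h]
  rw [← LinearMap.det_toMatrix b, hdiag, Matrix.det_diagonal,
    prod_congr rfl fun i _ => hk i, prod_pow_eq_pow_sum] at hdet
  have h4 : 4 ∣ ∑ i, (k i : ℕ) := by
    rw [Complex.I_pow_eq_pow_mod] at hdet
    have hlt := Nat.mod_lt (∑ i, (k i : ℕ)) (show 4 > 0 by norm_num)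
    generalize hr : (∑ i, (k i : ℕ)) % 4 = r at hdet hlt
    interval_cases r
    · exact Nat.dvd_of_mod_eq_zero hr
    all_goals exfalso; norm_num [pow_succ, Complex.ext_iff] at hdet
  let f : Fin 4 → ℤ := ![1, 0, -1, 0]
  let g : Fin 4 → ℤ := ![0, 1, 0, -1]
  let e' : Fin 4 → ℤ := ![1, -1, 1, -1]
  have hval : ∀ j : Fin 4, Complex.I ^ (j : ℕ) = (f j : ℂ) + (g j : ℂ) * Complex.I ∧
      (Complex.I ^ (j : ℕ)) ^ 2 = (e' j : ℂ) := by
    intro j
    fin_cases j <;> simp [f, g, e', pow_succ, Complex.ext_iff]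
  have hu1 : (χ : G → ℂ) u = (∑ i, f (k i) : ℤ) + ((∑ i, g (k i) : ℤ) : ℂ) * Complex.I := by
    rw [← hχ, htr]
    push_cast
    rw [sum_mul, ← sum_add_distrib]
    exact sum_congr rfl fun i _ => by rw [hk i, (hval (k i)).1]
  have hg0 : ∑ i, g (k i) = 0 := by
    rw [hu1] at hreal
    simp only [Complex.add_im, Complex.intCast_im, Complex.mul_im, Complex.intCast_re,
      Complex.I_re, Complex.I_im, mul_one, mul_zero, zero_add, add_zero] at hreal
    exact_mod_cast hreal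
  have hu2 : (χ : G → ℂ) (u ^ 2) = ((∑ i, e' (k i) : ℤ) : ℂ) := by
    rw [← hχ, Representation.character, map_pow,
      Diag.trace_eq_sum_eigenvalues b _ (fun i => ζ i ^ 2) fun i => by
        rw [pow_two, Module.End.mul_apply, (hζ i).1, map_smul, (hζ i).1, smul_smul, pow_two]]
    push_cast
    exact sum_congr rfl fun i _ => by rw [hk i, (hval (k i)).2]
  rw [he] at hu2
  have he' : e = ∑ i, e' (k i) := by exact_mod_cast hu2
  refine ⟨∑ i, f (k i), by rw [hu1, hg0]; simp, ?_⟩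
  have key : ∀ j : Fin 4, (8 : ℤ) ∣ 1 + e' j - 2 * f j + 2 * g j - 2 * ((j : ℕ) : ℤ) := by decide
  have hsum : (8 : ℤ) ∣ ∑ i, (1 + e' (k i) - 2 * f (k i) + 2 * g (k i) - 2 * ((k i : ℕ) : ℤ)) :=
    dvd_sum fun i _ => key (k i)
  simp only [sum_sub_distrib, sum_add_distrib, ← mul_sum, sum_const, card_univ, nsmul_eq_mul,
    mul_one, hg0, mul_zero, add_zero, ← he', ← hdeg] at hsum
  obtain ⟨m, hm⟩ := h4
  rw [show (∑ i, ((k i : ℕ) : ℤ)) = 4 * (m : ℤ) by rw [← Nat.cast_sum, hm]; push_cast; ring] at hsum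
  omega

variable [IsSimpleGroup G] [Fact (Nat.Prime 11)] {B : Base G} (D : Table.Data B)

/-- An element of order four inducing an automorphism of order four on `⟨y⟩`. -/
structure Mover (n : G) where
  r : ℕ
  hr : r = 2 ∨ r = 3
  act : n * B.y * n⁻¹ = B.y ^ r
  four : n ^ 4 = 1
  sq : orderOf (n ^ 2) = 2
  notq : ¬ IsConj (n ^ 2) D.T.q
  commq : Commute n D.T.q

theorem conj_coset {n : G} (M : Mover D n) (i : ℕ) : IsConj (n * B.y ^ i) n := by
  obtain ⟨k, hk⟩ : ∃ k : ℕ, (k + M.r * i) % 5 = M.r * k % 5 := by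
    rcases M.hr with e | e <;> rw [e]
    · exact ⟨2 * i, by omega⟩
    · exact ⟨4 * i, by omega⟩
  refine isConj_iff.mpr ⟨B.y ^ k, ?_⟩
  have h2 : B.y ^ k * n * B.y ^ i = n * B.y ^ k := by
    calc B.y ^ k * n * B.y ^ i = B.y ^ k * (n * B.y ^ i * n⁻¹) * n := by group
      _ = B.y ^ (k + M.r * i) * n := by rw [← conj_pow, M.act, ← pow_mul, pow_add]
      _ = B.y ^ (M.r * k) * n := by
        congr 1
        rw [pow_eq_pow_iff_modEq, B.hy]
        exact hk
      _ = n * B.y ^ k := by rw [pow_mul, ← M.act, conj_pow, inv_mul_cancel_right]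
  calc B.y ^ k * (n * B.y ^ i) * (B.y ^ k)⁻¹ = B.y ^ k * n * B.y ^ i * (B.y ^ k)⁻¹ := by group
    _ = n := by rw [h2, mul_inv_cancel_right]

theorem exists_mover : ∃ s : G, Nonempty (Mover D s) ∧ Nonempty (Mover D (s * D.T.q)) := by
  classical
  obtain ⟨s₀, hs₀N, hs₀⟩ := Column.exists_conj_pow D.T (r := 2) (by norm_num) (by norm_num)
  obtain ⟨a, m, hm, he⟩ : ∃ a m, ¬ 2 ∣ m ∧ orderOf s₀ = 2 ^ a * m :=
    Nat.exists_eq_pow_mul_and_not_dvd (orderOf_pos s₀).ne' 2 (by norm_num)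
  set s := s₀ ^ m with hs
  have hy5 : B.y ^ 5 = 1 := B.hy ▸ pow_orderOf_eq_one B.y
  have hpow : ∀ j, s₀ ^ j * B.y * (s₀ ^ j)⁻¹ = B.y ^ 2 ^ j := by
    intro j
    induction j with
    | zero => simp
    | succ j ih =>
      calc s₀ ^ (j + 1) * B.y * (s₀ ^ (j + 1))⁻¹ = s₀ * (s₀ ^ j * B.y * (s₀ ^ j)⁻¹) * s₀⁻¹ := by
            rw [pow_succ']; group
        _ = B.y ^ 2 ^ (j + 1) := by rw [ih, ← conj_pow, hs₀, ← pow_mul, pow_succ']
  obtain ⟨r, hr, hact⟩ : ∃ r, (r = 2 ∨ r = 3) ∧ s * B.y * s⁻¹ = B.y ^ r := by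
    refine ⟨2 ^ m % 5, ?_, by rw [hs, hpow]; exact pow_eq_pow_mod _ hy5⟩
    obtain ⟨j, rfl⟩ : ∃ j, m = 2 * j + 1 := ⟨m / 2, by omega⟩
    rw [pow_succ, pow_mul, Nat.mul_mod, Nat.pow_mod]
    rcases Nat.even_or_odd' j with ⟨i, rfl | rfl⟩
    · left; rw [pow_mul, Nat.pow_mod]; norm_num
    · right; rw [pow_succ, pow_mul]; norm_num [Nat.mul_mod, Nat.pow_mod]
  have hso : orderOf s ∣ 2 ^ a := by
    rw [orderOf_dvd_iff_pow_eq_one, hs, ← pow_mul, mul_comm, ← he, pow_orderOf_eq_one]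
  have hconj : ∀ j, s ^ j * B.y * (s ^ j)⁻¹ = B.y ^ r ^ j := by
    intro j
    induction j with
    | zero => simp
    | succ j ih =>
      calc s ^ (j + 1) * B.y * (s ^ (j + 1))⁻¹ = s * (s ^ j * B.y * (s ^ j)⁻¹) * s⁻¹ := by
            rw [pow_succ']; group
        _ = B.y ^ r ^ (j + 1) := by rw [ih, ← conj_pow, hact, ← pow_mul, pow_succ']
  have h4 : s ^ 4 = 1 := by
    have hfix : s ^ 4 * B.y * (s ^ 4)⁻¹ = B.y := by
      rw [hconj]
      conv_rhs => rw [← pow_one B.y]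
      rw [pow_eq_pow_iff_modEq, B.hy]
      rcases hr with e | e <;> rw [e] <;> rfl
    have hmem : s ^ 4 ∈ D.T.W.four.V := by
      refine (D.T.W.four.mem_V _).mpr ⟨Subgroup.mem_centralizer_singleton_iff.mpr
        (mul_inv_eq_iff_eq_mul.mp hfix), fun h5 => ?_⟩
      have := (h5.trans (orderOf_pow_dvd 4)).trans hso
      have := (Nat.Prime.prime (by norm_num : Nat.Prime 5)).dvd_of_dvd_pow this
      norm_num at this
    rcases (D.T.V_mem _).mp hmem with e | e
    · exact e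
    · exact absurd (show IsConj (s ^ 2 * s ^ 2) D.T.q by rw [← pow_add, e]) (D.no_root (s ^ 2))
  have hne : s ^ 2 ≠ 1 := fun e => by
    have h := hconj 2
    rw [e, one_mul, inv_one, mul_one] at h
    conv_lhs at h => rw [← pow_one B.y]
    rw [pow_eq_pow_iff_modEq, B.hy] at h
    unfold Nat.ModEq at h
    rcases hr with e' | e' <;> rw [e'] at h <;> norm_num at h
  have hsq : orderOf (s ^ 2) = 2 := orderOf_eq_prime (by rw [← pow_mul]; exact h4) hne
  have hq : Commute s D.T.q := by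
    have ho : orderOf (s * D.T.q * s⁻¹) = 2 := by
      rw [show s * D.T.q * s⁻¹ = MulAut.conj s D.T.q from rfl, MulEquiv.orderOf_eq, D.T.hq]
    have hN : s ∈ Subgroup.normalizer ((Subgroup.zpowers B.y : Subgroup G) : Set G) :=
      pow_mem hs₀N m
    have hmem : s * D.T.q * s⁻¹ ∈ D.T.W.four.V := (D.T.W.four.mem_V _).mpr
      ⟨Normal5.conj_mem_centralizer B hN (Subgroup.mem_centralizer_singleton_iff.mpr D.T.hqy.eq),
        by rw [ho]; norm_num⟩
    rcases (D.T.V_mem _).mp hmem with e | e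
    · rw [e, orderOf_one] at ho; omega
    · exact mul_inv_eq_iff_eq_mul.mp e
  have hnq : ¬ IsConj (s ^ 2) D.T.q := by rw [pow_two]; exact D.no_root s
  refine ⟨s, ⟨⟨r, hr, hact, h4, hsq, hnq, hq⟩⟩, ⟨⟨r, hr, ?_, ?_, ?_, ?_, ?_⟩⟩⟩
  · calc s * D.T.q * B.y * (s * D.T.q)⁻¹ = s * (D.T.q * B.y * D.T.q⁻¹) * s⁻¹ := by group
      _ = B.y ^ r := by rw [D.T.hqy.eq, mul_inv_cancel_right, hact]
  · rw [hq.mul_pow, h4, one_mul, orderOf_dvd_iff_pow_eq_one.mp (D.T.hq ▸ by norm_num)]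
  · rw [hq.mul_pow, show D.T.q ^ 2 = 1 from D.T.hq ▸ pow_orderOf_eq_one _, mul_one, hsq]
  · rw [hq.mul_pow, show D.T.q ^ 2 = 1 from D.T.hq ▸ pow_orderOf_eq_one _, mul_one]
    exact hnq
  · exact hq.mul_left (Commute.refl _)

include D in
theorem not_fam_of_deg {χ : Cfsg.IrrCharacter G} (h : deg χ ≠ 16) : χ ∉ B.D.fam := fun hm =>
  h ((B.D.fam_deg χ hm).trans (Central.deg_facts B D.T.W).2)

/-- The values of the two characters of degree eleven at an involution of class `B`. -/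
theorem three_at_t {t : G} (ht : orderOf t = 2) (htq : ¬ IsConj t D.T.q)
    (hinv : t * B.y * t⁻¹ = B.y ^ 4) (hcos : ∀ i : ℕ, IsConj (t * B.y ^ i) t) :
    (D.a : G → ℂ) t = 3 ∧ (D.b : G → ℂ) t = 3 := by
  classical
  haveI : Fintype (Cfsg.IrrCharacter G) := Fintype.ofFinite _
  obtain ⟨-, v0, v1, v2, v3, vθ⟩ := (D.classes t ht).resolve_left htq
  have hbound : ∀ χ : Cfsg.IrrCharacter G, deg χ = 11 → (χ : G → ℂ) B.y = 1 →
      ‖(χ : G → ℂ) t‖ ≤ 3 := by
    intro χ hd hy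
    obtain ⟨n, ρ, -, hρ⟩ := exists_rep χ
    have hy5 : B.y ^ 5 = 1 := B.hy ▸ pow_orderOf_eq_one B.y
    set Y := Rep.avg ρ B.y 5 with hY
    have hall : ∀ i : ℕ, 1 ≤ i → i < 5 → (χ : G → ℂ) (B.y ^ i) = 1 := fun i h1 h5 => by
      obtain ⟨s, -, hs⟩ := Column.exists_conj_pow D.T h1 h5
      rw [← hs, isClassFunction_irr χ B.y s, hy]
    have htrY : LinearMap.trace ℂ (Fin n → ℂ) Y = 3 := by
      rw [hY, Rep.trace_avg, hρ]
      simp only [sum_range_succ _ 4, sum_range_succ _ 3, sum_range_succ _ 2, sum_range_succ _ 1,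
        sum_range_one, pow_zero, apply_one_eq, hd, hall 1 le_rfl (by norm_num),
        hall 2 (by norm_num) (by norm_num), hall 3 (by norm_num) (by norm_num),
        hall 4 (by norm_num) (by norm_num)]
      norm_num
    have hYY : Y * Y = Y := Rep.avg_idem ρ (by norm_num) hy5
    have hle := Rep.norm_trace_mul_le hYY (f := ρ t)
      (Rep.comm_avg ρ hy5 (r := 4) (by norm_num) hinv) two_ne_zero
      (by rw [← map_pow, ← ht, pow_orderOf_eq_one, map_one])
    rw [hY, Rep.trace_mul_avg, hρ, sum_congr rfl fun i _ =>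
      classFunction_apply_of_isConj (isClassFunction_irr χ) (hcos i), sum_const, card_range,
      nsmul_eq_mul, ← mul_assoc, inv_mul_cancel₀ (by norm_num : ((5 : ℕ) : ℂ) ≠ 0), one_mul,
      ← hY] at hle
    have hfin : (Module.finrank ℂ (LinearMap.range Y) : ℂ) = 3 := by
      rw [← Rep.trace_idem Y hYY, htrY]
    have : Module.finrank ℂ (LinearMap.range Y) = 3 := by exact_mod_cast hfin
    rw [this] at hle
    exact_mod_cast hle
  -- the column of `y` against that of `t`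
  obtain ⟨w, hw⟩ := Column.exists_w D.T
  have hwv : ∀ χ : Cfsg.IrrCharacter G, ∀ v : ℤ, (χ : G → ℂ) B.y = v → w χ = v := fun χ v h => by
    rw [(hw χ).1] at h; exact_mod_cast h
  have ht5 : ¬ 5 ∣ orderOf t := by rw [ht]; norm_num
  have hrel := D.T.W.four.rel t ht5
  have hy1 : B.y ≠ 1 := fun e => by
    have := B.hy; rw [e, orderOf_one] at this; omega
  have h33 : (D.T.W.ι 3 : Cfsg.IrrCharacter G) ∉ ({D.T.f66, D.T.f99, D.T.f176} : Finset _) := by
    have hd := (Central.deg_facts B D.T.W).1 3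
    simp only [mem_insert, mem_singleton]
    rw [show (![45, 54, 120, 144] : Fin 4 → ℤ) 3 = 144 from rfl] at hd
    rintro (e | e | e) <;> rw [e] at hd
    · rw [D.T.h66.1] at hd; norm_num at hd
    · rw [D.T.h99.1] at hd; norm_num at hd
    · rw [D.T.h176.1] at hd; norm_num at hd
  have h69 : D.T.f66 ≠ D.T.f99 := fun e => by
    have h1 := D.T.h66.1; rw [e, D.T.h99.1] at h1; omega
  have h617 : D.T.f66 ≠ D.T.f176 := fun e => by
    have h1 := D.T.h66.1; rw [e, D.T.h176.1] at h1; omega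
  have h917 : D.T.f99 ≠ D.T.f176 := fun e => by
    have h1 := D.T.h99.1; rw [e, D.T.h176.1] at h1; omega
  have hF : D.T.W.four.F = {(D.T.W.ι 3 : Cfsg.IrrCharacter G), D.T.f66, D.T.f99, D.T.f176} := by
    ext χ; rw [D.T.F_eq χ]; simp
  rw [hF, sum_insert h33, sum_insert (by simp [h69, h617]), sum_pair h917, v3, D.T.h66.2.1,
    D.T.h99.2.1, D.T.h176.2.1] at hrel
  have e := Complete.sum_irr_mul_conj t B.y
  have hnc : ¬ IsConj t B.y := fun hc => by
    obtain ⟨c, hc⟩ := isConj_iff.mp hc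
    have := (MulAut.conj c).orderOf_eq t
    rw [show MulAut.conj c t = B.y from hc, B.hy, ht] at this
    omega
  have hval : ∀ χ ∈ D.T.W.four.F, w χ = D.T.W.four.b χ := fun χ h => hwv χ _ (by
    have := D.T.W.four.value χ h B.y (Subgroup.mem_zpowers B.y) hy1 1 (one_mem _)
    rwa [mul_one] at this)
  have hwθ : ∀ θ' ∈ B.D.fam, (θ' : G → ℂ) t * (w θ' : ℂ) = 0 := fun θ' h => by
    rw [vθ θ' h, zero_mul]
  have hrest : ∀ χ ∈ univ.filter (Rest D.T), χ ≠ D.a → χ ≠ D.b →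
      (χ : G → ℂ) t * (w χ : ℂ) = 0 := fun χ h h1 h2 => by
    have h0 : w χ = 0 := hwv χ 0 (by rw [(D.rest χ (mem_filter.mp h).2 h1 h2).2.1]; norm_num)
    rw [h0]; simp
  rw [if_neg hnc, sum_congr rfl fun (χ : Cfsg.IrrCharacter G) _ => by
      rw [(hw χ).1, map_intCast],
    Column.sum_univ_eq D.T fun χ => (χ : G → ℂ) t * (w χ : ℂ), sum_eq_zero hwθ,
    ← sum_subset (s₁ := ({D.a, D.b} : Finset _)) (s₂ := univ.filter (Rest D.T))
      (fun χ h => mem_filter.mpr ⟨mem_univ _, by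
        simp only [mem_insert, mem_singleton] at h
        rcases h with rfl | rfl
        exacts [D.ha, D.hb]⟩)
      (fun χ h hn => by
        simp only [mem_insert, mem_singleton, not_or] at hn
        exact hrest χ h hn.1 hn.2),
    sum_pair D.hab, oneChar_apply, v0, v1, v2, v3,
    hwv (D.T.W.ι 0) 0 (by rw [D.v0_y]; norm_num), hwv (D.T.W.ι 1) (-1) (by rw [D.v1_y]; norm_num),
    hwv (D.T.W.ι 2) 0 (by rw [D.v2_y]; norm_num), hwv (oneChar G) 1 (by rw [oneChar_apply]; norm_num),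
    hval _ D.T.mem_three, D.T.b_three,
    hval _ ((D.T.F_eq _).mpr (Or.inr (Or.inl rfl))), D.T.h66.2.1,
    hval _ ((D.T.F_eq _).mpr (Or.inr (Or.inr (Or.inl rfl)))), D.T.h99.2.1,
    hval _ ((D.T.F_eq _).mpr (Or.inr (Or.inr (Or.inr rfl)))), D.T.h176.2.1,
    hwv D.a 1 (by rw [D.ha_y]; norm_num), hwv D.b 1 (by rw [D.hb_y]; norm_num)] at e
  push_cast at e hrel
  obtain ⟨za, hza, -⟩ := FirstPowerData.exists_int_mod_four
    (SmallGroups.Sylow.commutator_eq_top B.not_isComm) D.a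
    (show t * t = 1 by rw [← pow_two, ← ht, pow_orderOf_eq_one])
  obtain ⟨zb, hzb, -⟩ := FirstPowerData.exists_int_mod_four
    (SmallGroups.Sylow.commutator_eq_top B.not_isComm) D.b
    (show t * t = 1 by rw [← pow_two, ← ht, pow_orderOf_eq_one])
  have h6 : za + zb = 6 := by
    have : ((za + zb : ℤ) : ℂ) = ((6 : ℤ) : ℂ) := by
      push_cast; rw [← hza, ← hzb]; linear_combination e - hrel
    exact_mod_cast this
  have ha := hbound D.a D.ha11 D.ha_y
  have hb := hbound D.b D.hb11 D.hb_y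
  rw [hza, Complex.norm_intCast] at ha
  rw [hzb, Complex.norm_intCast] at hb
  have ha' : |za| ≤ 3 := by exact_mod_cast ha
  have hb' : |zb| ≤ 3 := by exact_mod_cast hb
  have := abs_le.mp ha'
  have := abs_le.mp hb'
  rw [hza, hzb, show za = 3 by omega, show zb = 3 by omega]
  norm_num

/-- A mover fixing the fixed space of `y`, or the value minus one. -/
theorem fix_or {χ : Cfsg.IrrCharacter G} (hd : deg χ = 11) (hy : (χ : G → ℂ) B.y = 1)
    {n : G} (M : Mover D n) (ht : (χ : G → ℂ) (n ^ 2) = 3) :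
    (χ : G → ℂ) n = -1 ∨ (χ : G → ℂ) n = 3 := by
  have hnf : χ ∉ B.D.fam := not_fam_of_deg D (by rw [hd]; norm_num)
  letI : Fintype G := Fintype.ofFinite G
  obtain ⟨c, hc, h8⟩ := mod_four (SmallGroups.Sylow.commutator_eq_top B.not_isComm) χ M.four
    ((D.indicator χ hnf).1 n) (e := 3) (by rw [ht]; norm_num)
  rw [hd] at h8
  obtain ⟨m, ρ, -, hρ⟩ := exists_rep χ
  have hy5 : B.y ^ 5 = 1 := B.hy ▸ pow_orderOf_eq_one B.y
  set Y := Rep.avg ρ B.y 5 with hY
  have hall : ∀ i : ℕ, 1 ≤ i → i < 5 → (χ : G → ℂ) (B.y ^ i) = 1 := fun i h1 h5 => by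
    obtain ⟨s, -, hs⟩ := Column.exists_conj_pow D.T h1 h5
    rw [← hs, isClassFunction_irr χ B.y s, hy]
  have htrY : LinearMap.trace ℂ (Fin m → ℂ) Y = 3 := by
    rw [hY, Rep.trace_avg, hρ]
    simp only [sum_range_succ _ 4, sum_range_succ _ 3, sum_range_succ _ 2, sum_range_succ _ 1,
      sum_range_one, pow_zero, apply_one_eq, hd, hall 1 le_rfl (by norm_num),
      hall 2 (by norm_num) (by norm_num), hall 3 (by norm_num) (by norm_num),
      hall 4 (by norm_num) (by norm_num)]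
    norm_num
  have hYY : Y * Y = Y := Rep.avg_idem ρ (by norm_num) hy5
  have hle := Rep.norm_trace_mul_le hYY (f := ρ n)
    (Rep.comm_avg ρ hy5 (r := M.r) (by rcases M.hr with e | e <;> rw [e] <;> norm_num) M.act)
    (by norm_num : (4 : ℕ) ≠ 0) (by rw [← map_pow, M.four, map_one])
  rw [hY, Rep.trace_mul_avg, hρ, sum_congr rfl fun i _ =>
    classFunction_apply_of_isConj (isClassFunction_irr χ) (conj_coset D M i), sum_const,
    card_range, nsmul_eq_mul, ← mul_assoc, inv_mul_cancel₀ (by norm_num : ((5 : ℕ) : ℂ) ≠ 0),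
    one_mul, ← hY, hc, Complex.norm_intCast] at hle
  have hfin : (Module.finrank ℂ (LinearMap.range Y) : ℂ) = 3 := by
    rw [← Rep.trace_idem Y hYY, htrY]
  have h3 : Module.finrank ℂ (LinearMap.range Y) = 3 := by exact_mod_cast hfin
  rw [h3] at hle
  have hc' : |c| ≤ 3 := by exact_mod_cast hle
  have := abs_le.mp hc'
  rw [hc]
  rcases (show c = -1 ∨ c = 3 by omega) with e | e <;> rw [e] <;> norm_num

end Cfsg.Agent.Lib.RecogThree.M12.Fix
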