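import Cfsg.Agent.Lib.RecogThree.M12.Fix

/-!
Simple groups of order `95040`: a mover fixes the fixed space of `y` in one of the two
representations of degree eleven.
-/

set_option autoImplicit false
set_option linter.style.haveILetI false
set_option linter.unusedSectionVars false

namespace Cfsg.Agent.Lib.RecogThree.M12.Good

open Cfsg.Agent.Lib.Characters Cfsg.Agent.Lib.Characters.Basic
open Cfsg.Agent.Lib.Classif
open Cfsg.Agent.Lib.Classif.PrimeExceptional (deg apply_one_eq)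
open Cfsg.Agent.Lib.RecogThree.M12.Eleven (Base)
open Cfsg.Agent.Lib.RecogThree.M12.Column (Rest)
open scoped ComplexConjugate
open Finset

universe u

/-- The constituents of the symmetric square. -/
theorem sym_mult {A B Θ S Z : ℕ} (h1 : 65 = 45 * A + 54 * B + 16 * Θ + 11 * S + 55 * Z)
    (h2 : B = Θ + S) : A = 0 ∧ B = 1 ∧ Θ = 0 ∧ S = 1 ∧ Z = 0 := by
  have key : ∀ A : Fin 2, ∀ B : Fin 2, ∀ Θ : Fin 5, ∀ S : Fin 6, ∀ Z : Fin 2,
      65 = 45 * A.1 + 54 * B.1 + 16 * Θ.1 + 11 * S.1 + 55 * Z.1 → B.1 = Θ.1 + S.1 →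
      A.1 = 0 ∧ B.1 = 1 ∧ Θ.1 = 0 ∧ S.1 = 1 ∧ Z.1 = 0 := by decide +kernel
  exact key ⟨A, by omega⟩ ⟨B, by omega⟩ ⟨Θ, by omega⟩ ⟨S, by omega⟩ ⟨Z, by omega⟩ h1 h2

variable {G : Type u} [Group G] [Finite G] [IsSimpleGroup G] [Fact (Nat.Prime 11)] {B : Base G}
  (D : Table.Data B)

theorem ne_one_of_deg {χ : Cfsg.IrrCharacter G} (h : deg χ ≠ 1) : χ ≠ oneChar G := fun e =>
  h (e ▸ Data5.deg_oneChar)

set_option maxHeartbeats 3200000 in
/-- The two characters of degree eleven do not both take the value minus one at a mover. -/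
theorem not_both {n : G} (M : Fix.Mover D n) (ha : (D.a : G → ℂ) n = -1)
    (hb : (D.b : G → ℂ) n = -1) : False := by
  classical
  letI : Fintype G := Fintype.ofFinite G
  haveI : Fintype (Cfsg.IrrCharacter G) := Fintype.ofFinite _
  have hperf := SmallGroups.Sylow.commutator_eq_top B.not_isComm
  set t := n ^ 2 with ht
  obtain ⟨hC, v0, v1, v2, v3, vθ⟩ := (D.classes t M.sq).resolve_left M.notq
  have hinv : t * B.y * t⁻¹ = B.y ^ 4 := by
    calc t * B.y * t⁻¹ = n * (n * B.y * n⁻¹) * n⁻¹ := by rw [ht, pow_two]; group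
      _ = B.y ^ (M.r * M.r) := by rw [M.act, ← conj_pow, M.act, ← pow_mul]
      _ = B.y ^ 4 := by
        rw [pow_eq_pow_iff_modEq, B.hy]
        rcases M.hr with e | e <;> rw [e] <;> rfl
  have hcos : ∀ i : ℕ, IsConj (t * B.y ^ i) t := fun i => by
    refine isConj_iff.mpr ⟨B.y ^ (3 * i), ?_⟩
    have h4 : ∀ j : ℕ, t * B.y ^ j * t⁻¹ = B.y ^ (4 * j) := fun j => by
      rw [← conj_pow, hinv, ← pow_mul]
    calc B.y ^ (3 * i) * (t * B.y ^ i) * (B.y ^ (3 * i))⁻¹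
        = B.y ^ (3 * i) * (t * B.y ^ i * t⁻¹) * t * (B.y ^ (3 * i))⁻¹ := by group
      _ = B.y ^ (7 * i) * t * (B.y ^ (3 * i))⁻¹ := by rw [h4, ← pow_add]; ring_nf
      _ = B.y ^ (4 * (3 * i)) * t * (B.y ^ (3 * i))⁻¹ := by
        congr 2
        rw [pow_eq_pow_iff_modEq, B.hy]
        unfold Nat.ModEq
        omega
      _ = t := by rw [← h4, inv_mul_cancel_right, mul_inv_cancel_right]
  obtain ⟨hat, hbt⟩ := Fix.three_at_t D M.sq M.notq hinv hcos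
  obtain ⟨hdK, hdθ⟩ := Central.deg_facts B D.T.W
  obtain ⟨hsa, hδ⟩ := Twelve.signs B D.T.W
  have hy1 : B.y ≠ 1 := fun e => by
    have := B.hy; rw [e, orderOf_one] at this; omega
  have hnaf : D.a ∉ B.D.fam := Fix.not_fam_of_deg D (by rw [D.ha11]; norm_num)
  obtain ⟨hreal, hν⟩ := D.indicator D.a hnaf
  obtain ⟨c, hc1, hc⟩ := Basic.exists_sym_decomposition D.a hreal hν
  -- the multiplicities
  have ha_y2 : (D.a : G → ℂ) (B.y * B.y) = 1 := by
    obtain ⟨s, -, hs⟩ := Column.exists_conj_pow D.T (r := 2) (by norm_num) (by norm_num)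
    rw [← pow_two, ← hs, isClassFunction_irr D.a B.y s, D.ha_y]
  have hFval : ∀ χ ∈ D.T.W.four.F, (χ : G → ℂ) B.y = (D.T.W.four.b χ : ℂ) := fun χ h => by
    have := D.T.W.four.value χ h B.y (Subgroup.mem_zpowers B.y) hy1 1 (one_mem _)
    rwa [mul_one] at this
  have hy11 : ¬ 11 ∣ orderOf B.y := by rw [B.hy]; norm_num
  have hθy : ∀ θ' ∈ B.D.fam, (θ' : G → ℂ) B.y = 1 := fun θ' h => by
    rw [B.D.fam_regular θ' h B.y hy11, D.θ_y]
  set R' := univ.filter fun χ => Rest D.T χ ∧ χ ≠ D.a ∧ χ ≠ D.b with hR'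
  have hRsplit : ∀ f : Cfsg.IrrCharacter G → ℂ, ∑ χ ∈ univ.filter (Rest D.T), f χ =
      f D.a + f D.b + ∑ χ ∈ R', f χ := fun f => by
    have : univ.filter (Rest D.T) = insert D.a (insert D.b R') := by
      ext χ
      simp only [hR', mem_filter, mem_univ, true_and, mem_insert]
      constructor
      · intro h; tauto
      · rintro (rfl | rfl | h)
        exacts [D.ha, D.hb, h.1]
    rw [this, sum_insert (by simp [hR', D.hab]), sum_insert (by simp [hR']), add_assoc]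
  have eq1 := hc 1
  rw [mul_one, apply_one_eq, D.ha11, Column.sum_univ_eq D.T, hRsplit, hc1,
    sum_congr rfl fun θ' h => show (c θ' : ℂ) * (θ' : G → ℂ) 1 = (c θ' : ℂ) * 16 by
      rw [apply_one_eq, B.D.fam_deg θ' h, hdθ]; norm_num,
    sum_congr (s₁ := R') rfl fun χ h => show (c χ : ℂ) * (χ : G → ℂ) 1 = (c χ : ℂ) * 55 by
      obtain ⟨h0, h1, h2⟩ := (mem_filter.mp h).2
      rw [apply_one_eq, (D.rest χ h0 h1 h2).1]; norm_num,
    ← sum_mul, ← sum_mul] at eq1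
  simp only [apply_one_eq, oneChar_apply, hdK, D.T.h66.1, D.T.h99.1, D.T.h176.1, D.ha11, D.hb11,
    Matrix.cons_val] at eq1
  push_cast at eq1
  have eqy := hc B.y
  rw [ha_y2, D.ha_y, Column.sum_univ_eq D.T, hRsplit, hc1,
    sum_congr rfl fun θ' h => show (c θ' : ℂ) * (θ' : G → ℂ) B.y = (c θ' : ℂ) * 1 by
      rw [hθy θ' h],
    sum_congr (s₁ := R') rfl fun χ h => show (c χ : ℂ) * (χ : G → ℂ) B.y = (c χ : ℂ) * 0 by
      obtain ⟨h0, h1, h2⟩ := (mem_filter.mp h).2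
      rw [(D.rest χ h0 h1 h2).2.1],
    ← sum_mul, ← sum_mul, oneChar_apply, D.v0_y, D.v1_y, D.v2_y,
    hFval _ D.T.mem_three, D.T.b_three,
    hFval _ ((D.T.F_eq _).mpr (Or.inr (Or.inl rfl))), D.T.h66.2.1,
    hFval _ ((D.T.F_eq _).mpr (Or.inr (Or.inr (Or.inl rfl)))), D.T.h99.2.1,
    hFval _ ((D.T.F_eq _).mpr (Or.inr (Or.inr (Or.inr rfl)))), D.T.h176.2.1,
    D.ha_y, D.hb_y] at eqy
  push_cast at eqy
  set Θ := ∑ θ' ∈ B.D.fam, c θ' with hΘ
  set Z := ∑ χ ∈ R', c χ with hZ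
  rw [show (∑ θ' ∈ B.D.fam, (c θ' : ℂ)) = (Θ : ℂ) by rw [hΘ, Nat.cast_sum],
    show (∑ χ ∈ R', (c χ : ℂ)) = (Z : ℂ) by rw [hZ, Nat.cast_sum]] at eq1 eqy
  have n1 : (65 : ℤ) = 45 * c (D.T.W.ι 0) + 54 * c (D.T.W.ι 1) + 120 * c (D.T.W.ι 2) +
      144 * c (D.T.W.ι 3) + 16 * Θ + 66 * c D.T.f66 + 99 * c D.T.f99 + 176 * c D.T.f176 +
      11 * c D.a + 11 * c D.b + 55 * Z := by
    apply Int.cast_injective (α := ℂ)
    push_cast
    linear_combination eq1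
  have ny : (c (D.T.W.ι 1) : ℤ) + c (D.T.W.ι 3) + c D.T.f99 =
      Θ + c D.T.f66 + c D.T.f176 + c D.a + c D.b := by
    apply Int.cast_injective (α := ℂ)
    push_cast
    linear_combination eqy
  have hA : c (D.T.W.ι 0) = 0 ∧ c (D.T.W.ι 1) = 1 ∧ c (D.T.W.ι 2) = 0 ∧ c (D.T.W.ι 3) = 0 ∧
      Θ = 0 ∧ c D.T.f66 = 0 ∧ c D.T.f99 = 0 ∧ c D.T.f176 = 0 ∧ Z = 0 ∧ c D.a + c D.b = 1 := by
    have e2 : c (D.T.W.ι 2) = 0 := by omega
    have e3 : c (D.T.W.ι 3) = 0 := by omega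
    have e66 : c D.T.f66 = 0 := by omega
    have e99 : c D.T.f99 = 0 := by omega
    have e176 : c D.T.f176 = 0 := by omega
    rw [e2, e3, e66, e99, e176] at n1
    rw [e3, e99, e66, e176] at ny
    obtain ⟨h1, h2, h3, h4, h5⟩ := sym_mult (A := c (D.T.W.ι 0)) (B := c (D.T.W.ι 1)) (Θ := Θ)
      (S := c D.a + c D.b) (Z := Z) (by omega) (by omega)
    exact ⟨h1, h2, e2, e3, h3, e66, e99, e176, h5, h4⟩
  obtain ⟨hA, hB', hC2, hC3, hΘ0, h66, h99, h176, hZ0, hab1⟩ := hA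
  -- the value of the character of degree `54` at the mover
  have eqn := hc n
  have hnn : (D.a : G → ℂ) (n * n) = 3 := by rw [← pow_two]; exact hat
  rw [hnn, ha, Column.sum_univ_eq D.T, hRsplit, hc1,
    sum_eq_zero (s := B.D.fam) fun θ' h => by
      rw [(sum_eq_zero_iff.mp hΘ0) θ' h, Nat.cast_zero, zero_mul],
    sum_eq_zero (s := R') fun χ h => by
      rw [(sum_eq_zero_iff.mp hZ0) χ h, Nat.cast_zero, zero_mul],
    hA, hB', hC2, hC3, h66, h99, h176, oneChar_apply, ha, hb] at eqn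
  have hab1' : (c D.a : ℂ) + (c D.b : ℂ) = 1 := by exact_mod_cast hab1
  push_cast at eqn
  have h54 : ((D.T.W.ι 1 : Cfsg.IrrCharacter G) : G → ℂ) n = 2 := by
    linear_combination -eqn + hab1'
  -- the value of the exceptional characters
  have hn5 : ¬ 5 ∣ orderOf n := fun h => by
    have := h.trans (orderOf_dvd_of_pow_eq_one M.four)
    norm_num at this
  have hn11 : ¬ 11 ∣ orderOf n := fun h => by
    have := h.trans (orderOf_dvd_of_pow_eq_one M.four)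
    norm_num at this
  have h33 : (D.T.W.ι 3 : Cfsg.IrrCharacter G) ∉ ({D.T.f66, D.T.f99, D.T.f176} : Finset _) := by
    have hd := hdK 3
    rw [show (![45, 54, 120, 144] : Fin 4 → ℤ) 3 = 144 from rfl] at hd
    simp only [mem_insert, mem_singleton]
    rintro (e | e | e) <;> rw [e] at hd
    · rw [D.T.h66.1] at hd; norm_num at hd
    · rw [D.T.h99.1] at hd; norm_num at hd
    · rw [D.T.h176.1] at hd; norm_num at hd
  have h69 : D.T.f66 ≠ D.T.f99 := fun e => by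
    have h1 := D.T.h66.1; rw [e, D.T.h99.1] at h1; omega
  have h617 : D.T.f66 ≠ D.T.f176 := fun e => by
    have h1 := D.T.h66.1; rw [e, D.T.h176.1] at h1; omega
  have h917 : D.T.f99 ≠ D.T.f176 := fun e => by
    have h1 := D.T.h99.1; rw [e, D.T.h176.1] at h1; omega
  have hF : D.T.W.four.F = {(D.T.W.ι 3 : Cfsg.IrrCharacter G), D.T.f66, D.T.f99, D.T.f176} := by
    ext χ; rw [D.T.F_eq χ]; simp
  have hrel := D.T.W.four.rel n hn5
  rw [hF, sum_insert h33, sum_insert (by simp [h69, h617]), sum_pair h917, D.T.b_three,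
    D.T.h66.2.1, D.T.h99.2.1, D.T.h176.2.1] at hrel
  have horth := Complete.sum_irr_mul_conj n B.y
  have hnc : ¬ IsConj n B.y := fun hc' => by
    obtain ⟨k, hk⟩ := isConj_iff.mp hc'
    have h := (MulAut.conj k).orderOf_eq n
    rw [show MulAut.conj k n = B.y from hk, B.hy] at h
    exact hn5 (h ▸ dvd_refl 5)
  have hθn : ∀ θ' ∈ B.D.fam, (θ' : G → ℂ) n = (B.D.θ : G → ℂ) n := fun θ' h =>
    B.D.fam_regular θ' h n hn11
  rw [if_neg hnc, Column.sum_univ_eq D.T, hRsplit,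
    sum_congr rfl fun (θ' : Cfsg.IrrCharacter G) h => show (θ' : G → ℂ) n * conj ((θ' : G → ℂ) B.y) = (B.D.θ : G → ℂ) n by
      rw [hθn θ' h, hθy θ' h, map_one, mul_one],
    sum_eq_zero (s := R') fun χ h => by
      obtain ⟨h0, h1, h2⟩ := (mem_filter.mp h).2
      rw [(D.rest χ h0 h1 h2).2.1, map_zero, mul_zero],
    sum_const, B.fam_card, oneChar_apply, oneChar_apply, D.v0_y, D.v1_y, D.v2_y,
    hFval _ D.T.mem_three, D.T.b_three,
    hFval _ ((D.T.F_eq _).mpr (Or.inr (Or.inl rfl))), D.T.h66.2.1,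
    hFval _ ((D.T.F_eq _).mpr (Or.inr (Or.inr (Or.inl rfl)))), D.T.h99.2.1,
    hFval _ ((D.T.F_eq _).mpr (Or.inr (Or.inr (Or.inr rfl)))), D.T.h176.2.1,
    D.ha_y, D.hb_y, ha, hb, h54, nsmul_eq_mul] at horth
  push_cast at horth hrel
  simp only [map_one, map_neg, map_zero] at horth
  have hθ2 : (B.D.θ : G → ℂ) n = 2 := by linear_combination (1 / 2 : ℂ) * horth - (1 / 2 : ℂ) * hrel
  -- the centraliser of the mover
  set Cn := Subgroup.centralizer ({n} : Set G) with hCn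
  have hle : Cn ≤ Subgroup.centralizer ({t} : Set G) := fun g hg =>
    Subgroup.mem_centralizer_singleton_iff.mpr
      ((show Commute g n from Subgroup.mem_centralizer_singleton_iff.mp hg).pow_right 2).eq
  have h192 : Nat.card Cn ∣ 192 := hC ▸ Subgroup.card_dvd_of_le hle
  have hdvd := Basic.deg_dvd_index_mul B.D.θ (g := n) (v := 2) (by rw [hθ2]; norm_num)
  rw [hdθ, ← hCn] at hdvd
  have hidx : Nat.card Cn * Cn.index = 95040 := by rw [Subgroup.card_mul_index, B.card]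
  have h24 : Nat.card Cn ≤ 24 := by
    have h8 : 8 ∣ Cn.index := by
      have : (16 : ℕ) ∣ Cn.index * 2 := by exact_mod_cast hdvd
      omega
    obtain ⟨j, hj⟩ := h8
    have h11880 : Nat.card Cn ∣ 11880 := ⟨j, by rw [hj] at hidx; nlinarith⟩
    exact Nat.le_of_dvd (by norm_num) (by
      have h := Nat.dvd_gcd h192 h11880
      rwa [show Nat.gcd 192 11880 = 24 by decide] at h)
  -- integral values
  have hint : ∀ χ : Cfsg.IrrCharacter G, ∃ v : ℤ, (χ : G → ℂ) n = v ∧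
      (χ ∉ B.D.fam → ∃ e : ℤ, (χ : G → ℂ) t = e ∧ (8 : ℤ) ∣ deg χ + e - 2 * v) := by
    intro χ
    by_cases hf : χ ∈ B.D.fam
    · exact ⟨2, by rw [hθn χ hf, hθ2]; norm_num, fun h => absurd hf h⟩
    · obtain ⟨e, he, -⟩ := FirstPowerData.exists_int_mod_four hperf χ
        (show t * t = 1 by rw [← pow_two, ← M.sq, pow_orderOf_eq_one])
      obtain ⟨v, hv, h8⟩ := Fix.mod_four hperf χ M.four ((D.indicator χ hf).1 n) he
      exact ⟨v, hv, fun _ => ⟨e, he, h8⟩⟩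
  choose z hz hz8 using hint
  have hzv : ∀ χ : Cfsg.IrrCharacter G, ∀ v : ℤ, (χ : G → ℂ) n = v → z χ = v := fun χ v h => by
    rw [hz χ] at h; exact_mod_cast h
  have hK8 : ∀ i : Fin 4, ∀ v : ℤ, ((D.T.W.ι i : Cfsg.IrrCharacter G) : G → ℂ) t = v →
      (8 : ℤ) ∣ deg (D.T.W.ι i : Cfsg.IrrCharacter G) + v - 2 * z (D.T.W.ι i) := fun i v h => by
    obtain ⟨e, he, h8⟩ := hz8 _ (disjoint_left.mp B.D.fam_disj (D.T.W.ι i).2)
    rw [he] at h
    rwa [show v = e by exact_mod_cast h.symm]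
  have h0 := hK8 0 (-3) (by rw [v0]; norm_num)
  have h2' := hK8 2 (-8) (by rw [v2]; norm_num)
  have h3' := hK8 3 0 (by rw [v3]; norm_num)
  simp only [hdK, Matrix.cons_val] at h0 h2' h3'
  have hr11 := B.D.rel n hn11
  rw [hδ, ← sum_coe_sort B.D.K, ← D.T.W.ι.sum_comp, Fin.sum_univ_four, hsa 0, hsa 1, hsa 2, hsa 3,
    hz (D.T.W.ι 0), hz (D.T.W.ι 2), hz (D.T.W.ι 3), h54, hθ2] at hr11
  simp only [Matrix.cons_val] at hr11
  push_cast at hr11
  have hrelz : z (D.T.W.ι 0) - z (D.T.W.ι 2) + z (D.T.W.ι 3) = 3 := by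
    apply Int.cast_injective (α := ℂ)
    push_cast
    linear_combination hr11
  have hOK : ∀ χ ∈ ({D.a, D.b} : Finset _), χ ≠ oneChar G ∧ χ ∉ B.D.K ∧ χ ∉ B.D.fam := by
    intro χ h
    simp only [mem_insert, mem_singleton] at h
    rcases h with rfl | rfl
    · exact ⟨D.ha.1, D.ha.2.1, D.ha.2.2.1⟩
    · exact ⟨D.hb.1, D.hb.2.1, D.hb.2.2.1⟩
  have hbud := Central.sum_base B D.T.W {D.a, D.b} hOK z hz (t := 2)
    (fun θ' h => hzv θ' 2 (by rw [hθn θ' h, hθ2]; norm_num))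
  rw [sum_pair D.hab, hzv D.a (-1) (by rw [ha]; norm_num), hzv D.b (-1) (by rw [hb]; norm_num),
    hzv (D.T.W.ι 1) 2 (by rw [h54]; norm_num)] at hbud
  have h24' : (Nat.card Cn : ℤ) ≤ 24 := by exact_mod_cast h24
  rw [← hCn] at hbud
  have e9 : z (D.T.W.ι 0) ^ 2 + z (D.T.W.ι 2) ^ 2 + z (D.T.W.ι 3) ^ 2 ≤ 9 := by linarith
  have b0 : -3 ≤ z (D.T.W.ι 0) ∧ z (D.T.W.ι 0) ≤ 3 := by constructor <;> nlinarith
  have b2 : -3 ≤ z (D.T.W.ι 2) ∧ z (D.T.W.ι 2) ≤ 3 := by constructor <;> nlinarith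
  have b3 : -3 ≤ z (D.T.W.ι 3) ∧ z (D.T.W.ι 3) ≤ 3 := by constructor <;> nlinarith
  omega

/-- A mover and a character of degree eleven with value three at it. -/
theorem exists_good : ∃ n : G, ∃ _ : Fix.Mover D n, ∃ χ : Cfsg.IrrCharacter G,
    deg χ = 11 ∧ (χ : G → ℂ) B.y = 1 ∧ Rest D.T χ ∧ (χ : G → ℂ) n = 3 := by
  obtain ⟨s, ⟨M⟩, -⟩ := Fix.exists_mover D
  have hinv : s ^ 2 * B.y * (s ^ 2)⁻¹ = B.y ^ 4 := by
    calc s ^ 2 * B.y * (s ^ 2)⁻¹ = s * (s * B.y * s⁻¹) * s⁻¹ := by rw [pow_two]; group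
      _ = B.y ^ (M.r * M.r) := by rw [M.act, ← conj_pow, M.act, ← pow_mul]
      _ = B.y ^ 4 := by
        rw [pow_eq_pow_iff_modEq, B.hy]
        rcases M.hr with e | e <;> rw [e] <;> rfl
  have hcos : ∀ i : ℕ, IsConj (s ^ 2 * B.y ^ i) (s ^ 2) := fun i => by
    refine isConj_iff.mpr ⟨B.y ^ (3 * i), ?_⟩
    have h4 : ∀ j : ℕ, s ^ 2 * B.y ^ j * (s ^ 2)⁻¹ = B.y ^ (4 * j) := fun j => by
      rw [← conj_pow, hinv, ← pow_mul]
    calc B.y ^ (3 * i) * (s ^ 2 * B.y ^ i) * (B.y ^ (3 * i))⁻¹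
        = B.y ^ (3 * i) * (s ^ 2 * B.y ^ i * (s ^ 2)⁻¹) * s ^ 2 * (B.y ^ (3 * i))⁻¹ := by group
      _ = B.y ^ (3 * i + 4 * i) * s ^ 2 * (B.y ^ (3 * i))⁻¹ := by rw [h4, ← pow_add]
      _ = B.y ^ (4 * (3 * i)) * s ^ 2 * (B.y ^ (3 * i))⁻¹ := by
        congr 2
        rw [pow_eq_pow_iff_modEq, B.hy]
        unfold Nat.ModEq
        omega
      _ = s ^ 2 := by rw [← h4, inv_mul_cancel_right, mul_inv_cancel_right]
  obtain ⟨hat, hbt⟩ := Fix.three_at_t D M.sq M.notq hinv hcos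
  rcases Fix.fix_or D D.ha11 D.ha_y M hat with ha | ha
  · rcases Fix.fix_or D D.hb11 D.hb_y M hbt with hb | hb
    · exact (not_both D M ha hb).elim
    · exact ⟨s, M, D.b, D.hb11, D.hb_y, D.hb, hb⟩
  · exact ⟨s, M, D.a, D.ha11, D.ha_y, D.ha, ha⟩

end Cfsg.Agent.Lib.RecogThree.M12.Good
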