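import Cfsg.Agent.Lib.RecogThree.M12.Good
import Cfsg.Agent.Lib.RecogThree.M11.Local5

/-!
Simple groups of order `95040`: a subgroup of index `12`.
-/

set_option autoImplicit false
set_option linter.style.haveILetI false
set_option linter.unusedSectionVars false

namespace Cfsg.Agent.Lib.RecogThree.M12.Index

open Cfsg.Agent.Lib.Characters Cfsg.Agent.Lib.Characters.Basic
open Cfsg.Agent.Lib.Classif
open Cfsg.Agent.Lib.Classif.PrimeExceptional (deg apply_one_eq)
open Cfsg.Agent.Lib.RecogThree.M11 (Rep.avg Rep.avg_idem Rep.trace_mul_avg Rep.trace_avg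
  Rep.comm_avg Rep.trace_idem Rep.eq_zero_of_trace Rep.trace_avg_mul_avg Rep.rho_mul_avg)
open Cfsg.Agent.Lib.RecogThree.M12.Eleven (Base)
open Cfsg.Agent.Lib.RecogThree.M12.Column (Rest)
open scoped ComplexConjugate
open Finset

universe u

variable {G : Type u} [Group G] [Finite G] [IsSimpleGroup G] [Fact (Nat.Prime 11)] (B : Base G)

theorem others_apply_P {χ : Cfsg.IrrCharacter G} (h1 : χ ≠ oneChar G) (hK : χ ∉ B.D.K)
    (hF : χ ∉ B.D.fam) {z : G} (hz : z ∈ (B.P : Subgroup G)) (hz1 : z ≠ 1) :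
    (χ : G → ℂ) z = 0 := by
  have h := B.X.others χ h1 hK hF z hz hz1
  have hV : B.X.V = ⊥ := by
    refine (Subgroup.eq_bot_iff_forall _).mpr fun v hv => ?_
    obtain ⟨hc, hp⟩ := (B.X.mem_V v).mp hv
    rw [B.centralizer_P] at hc
    by_contra hv1
    exact hp (by rw [orderOf_eq_prime (FixedSylow.pow_eq_one B.P B.card_P hc) hv1])
  haveI : Unique B.X.V := ⟨⟨1⟩, fun v => Subtype.ext (by
    have := v.2
    simp only [hV, Subgroup.mem_bot] at this
    simpa using this)⟩
  rw [finsum_unique] at h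
  have h1v : ((default : B.X.V) : G) = 1 := by
    have := (default : B.X.V).2
    simpa [hV] using this
  rwa [h1v, mul_one] at h

set_option maxHeartbeats 1600000 in
theorem exists_index_twelve : ∃ (H : Subgroup G) (q : G), B.x ∈ H ∧ B.y ∈ H ∧ H.index = 12 ∧
    orderOf q = 2 ∧ Commute q B.y ∧ q ∉ H := by
  classical
  haveI : Fact (Nat.Prime 5) := ⟨by norm_num⟩
  haveI : Fact (Nat.Prime 2) := ⟨Nat.prime_two⟩
  obtain ⟨D⟩ := Table.exists_data B
  obtain ⟨n, M, χ, hd11, hy, hR, hn⟩ := Good.exists_good D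
  letI : Fintype G := Fintype.ofFinite G
  have hy5 : B.y ^ 5 = 1 := B.hy ▸ pow_orderOf_eq_one B.y
  have hx11 : B.x ^ 11 = 1 := B.hx ▸ pow_orderOf_eq_one B.x
  have hnf : χ ∉ B.D.fam := hR.2.2.1
  have hreal := (D.indicator χ hnf).1
  -- the values on the coset of `n` and of its square
  set t := n ^ 2 with ht
  have hinv : t * B.y * t⁻¹ = B.y ^ 4 := by
    calc t * B.y * t⁻¹ = n * (n * B.y * n⁻¹) * n⁻¹ := by rw [ht, pow_two]; group
      _ = B.y ^ (M.r * M.r) := by rw [M.act, ← conj_pow, M.act, ← pow_mul]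
      _ = B.y ^ 4 := by
        rw [pow_eq_pow_iff_modEq, B.hy]
        rcases M.hr with e | e <;> rw [e] <;> rfl
  have hcos : ∀ i : ℕ, IsConj (t * B.y ^ i) t := fun i => by
    refine isConj_iff.mpr ⟨B.y ^ (3 * i), ?_⟩
    have h4 : ∀ j : ℕ, t * B.y ^ j * t⁻¹ = B.y ^ (4 * j) := fun j => by
      rw [← conj_pow, hinv, ← pow_mul]
    calc B.y ^ (3 * i) * (t * B.y ^ i) * (B.y ^ (3 * i))⁻¹
        = B.y ^ (3 * i) * (t * B.y ^ i * t⁻¹) * t * (B.y ^ (3 * i))⁻¹ := by group
      _ = B.y ^ (3 * i + 4 * i) * t * (B.y ^ (3 * i))⁻¹ := by rw [h4, ← pow_add]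
      _ = B.y ^ (4 * (3 * i)) * t * (B.y ^ (3 * i))⁻¹ := by
        congr 2
        rw [pow_eq_pow_iff_modEq, B.hy]
        unfold Nat.ModEq
        omega
      _ = t := by rw [← h4, inv_mul_cancel_right, mul_inv_cancel_right]
  obtain ⟨hat, hbt⟩ := Fix.three_at_t D M.sq M.notq hinv hcos
  have hχt : (χ : G → ℂ) t = 3 := by
    by_cases ha : χ = D.a
    · rw [ha]; exact hat
    · by_cases hb : χ = D.b
      · rw [hb]; exact hbt
      · exfalso
        have := (D.rest χ hR ha hb).1
        rw [hd11] at this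
        norm_num at this
  have hv1 : ∀ i : ℕ, (χ : G → ℂ) (n * B.y ^ i) = 3 := fun i => by
    rw [classFunction_apply_of_isConj (isClassFunction_irr χ) (Fix.conj_coset D M i), hn]
  have hv2 : ∀ i : ℕ, (χ : G → ℂ) (n ^ 2 * B.y ^ i) = 3 := fun i => by
    rw [← ht, classFunction_apply_of_isConj (isClassFunction_irr χ) (hcos i), hχt]
  have hv3 : ∀ i : ℕ, (χ : G → ℂ) (n ^ 3 * B.y ^ i) = 3 := fun i => by
    have h := apply_inv (isCharacter_irr χ) (n * B.y ^ (4 * i))
    rw [hv1] at h
    have e : n ^ 3 * B.y ^ i = n⁻¹ * (B.y ^ (4 * i))⁻¹ := by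
      congr 1
      · exact eq_inv_of_mul_eq_one_left (by rw [← pow_succ]; exact M.four)
      · refine eq_inv_of_mul_eq_one_left ?_
        rw [← pow_add, show i + 4 * i = 5 * i by ring, pow_mul, hy5, one_pow]
    have e2 : n⁻¹ * (B.y ^ (4 * i))⁻¹ =
        n⁻¹ * ((n * B.y ^ (4 * i))⁻¹) * n := by group
    rw [e, e2]
    have hc := isClassFunction_irr χ (n * B.y ^ (4 * i))⁻¹ n⁻¹
    rw [inv_inv] at hc
    rw [hc, h]
    norm_num [Complex.conj_ofNat]
  have hyv : ∀ j : ℕ, ¬ 5 ∣ j → (χ : G → ℂ) (B.y ^ j) = 1 := fun j hj => by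
    obtain ⟨s, -, hs⟩ := Column.exists_conj_pow D.T (r := j % 5) (by omega) (Nat.mod_lt _ (by norm_num))
    rw [show B.y ^ j = B.y ^ (j % 5) from pow_eq_pow_mod _ hy5, ← hs,
      isClassFunction_irr χ B.y s, hy]
  have hA1 : (χ : G → ℂ) 1 = 11 := by rw [apply_one_eq, hd11]; norm_num
  obtain ⟨d, ρ, hirr, hρ⟩ := exists_rep χ
  have hd : (d : ℂ) = 11 := by
    have h1 := hA1
    rw [← hρ, Representation.char_one, Module.finrank_fin_fun] at h1
    exact h1
  set E := Rep.avg ρ B.x 11 with hE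
  set Y := Rep.avg ρ B.y 5 with hY
  set A := Rep.avg ρ n 4 with hA
  have hEE : E * E = E := Rep.avg_idem ρ (by norm_num) hx11
  have hYY : Y * Y = Y := Rep.avg_idem ρ (by norm_num) hy5
  have hAA : A * A = A := Rep.avg_idem ρ (by norm_num) M.four
  have hYE : Commute Y E := by
    rw [hY, Rep.avg]
    refine (Commute.sum_left _ _ _ fun j _ => ?_).smul_left _
    rw [map_pow]
    exact (Commute.pow_left (Rep.comm_avg ρ hx11 (by norm_num) B.hyx) j)
  have hAY : Commute A Y := by
    rw [hA, Rep.avg]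
    refine (Commute.sum_left _ _ _ fun j _ => ?_).smul_left _
    rw [map_pow]
    exact (Commute.pow_left (Rep.comm_avg ρ hy5
      (by rcases M.hr with e | e <;> rw [e] <;> norm_num) M.act) j)
  have htr : LinearMap.trace ℂ (Fin d → ℂ) (Y * E) = 1 := by
    rw [hY, hE, Rep.trace_avg_mul_avg, hρ]
    simp only [sum_range_succ _ 4, sum_range_succ _ 3, sum_range_succ _ 2, sum_range_succ _ 1,
      sum_range_one, pow_zero, one_mul]
    have hc : ∀ j : ℕ, ¬ 5 ∣ j → ∀ i ∈ range 11, (χ : G → ℂ) (B.y ^ j * B.x ^ i) = 1 := by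
      intro j hj i _
      rw [← hyv j hj]
      refine classFunction_apply_of_isConj (isClassFunction_irr χ)
        (IsConj.trans ?_ (M11.Local5.isConj_coset B.hx B.hyx hj i).symm)
      exact isConj_iff.mpr ⟨B.x ^ i, by group⟩
    have h0 : ∑ i ∈ range 11, (χ : G → ℂ) (B.x ^ i) = 11 := by
      rw [sum_range_succ' _ 10, pow_zero, hA1, sum_eq_zero fun i hi => others_apply_P B hR.1
        hR.2.1 hnf (pow_mem B.x_mem (i + 1)) (pow_ne_one_of_lt_orderOf (Nat.succ_ne_zero i)
          (by rw [B.hx]; have := mem_range.mp hi; omega)), zero_add]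
    rw [sum_congr rfl (hc 1 (by norm_num)), sum_congr rfl (hc 2 (by norm_num)),
      sum_congr rfl (hc 3 (by norm_num)), sum_congr rfl (hc 4 (by norm_num)), h0]
    simp
    norm_num
  have hnY : ρ n * Y = Y := by
    have hidem : (Y - A * Y) * (Y - A * Y) = Y - A * Y := by
      have h1 : A * Y * (A * Y) = A * Y := by
        rw [mul_assoc, ← mul_assoc Y A Y, ← hAY.eq, mul_assoc A Y Y, hYY, ← mul_assoc, hAA]
      have h2 : Y * (A * Y) = A * Y := by rw [← mul_assoc, ← hAY.eq, mul_assoc, hYY]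
      have h3 : A * Y * Y = A * Y := by rw [mul_assoc, hYY]
      rw [sub_mul, mul_sub, mul_sub, hYY, h1, h2, h3]
      abel
    have h0 : LinearMap.trace ℂ (Fin d → ℂ) (Y - A * Y) = 0 := by
      rw [map_sub, hA, hY, Rep.trace_avg, Rep.trace_avg_mul_avg, hρ]
      simp only [sum_range_succ _ 4, sum_range_succ _ 3, sum_range_succ _ 2, sum_range_succ _ 1,
        sum_range_one, pow_zero, one_mul, pow_one, hA1, hyv 4 (by norm_num), hyv 3 (by norm_num),
        hyv 2 (by norm_num), hy, hv2, hv3, hv1]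
      have a1 := hv1 0; have a2 := hv2 0; have a3 := hv3 0
      rw [pow_zero, mul_one] at a1 a2 a3
      rw [show (χ : G → ℂ) (n * 1) = 3 by rw [mul_one, a1],
        show (χ : G → ℂ) (n ^ 2 * 1) = 3 by rw [mul_one, a2],
        show (χ : G → ℂ) (n ^ 3 * 1) = 3 by rw [mul_one, a3],
        show (χ : G → ℂ) (n * B.y) = 3 by simpa using hv1 1,
        show (χ : G → ℂ) (n ^ 2 * B.y) = 3 by simpa using hv2 1,
        show (χ : G → ℂ) (n ^ 3 * B.y) = 3 by simpa using hv3 1]
      norm_num
    have h := sub_eq_zero.mp (Rep.eq_zero_of_trace _ hidem h0)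
    calc ρ n * Y = ρ n * (A * Y) := by rw [← h]
      _ = A * Y := by rw [← mul_assoc, hA, Rep.rho_mul_avg ρ M.four]
      _ = Y := h.symm
  have hne0 : Y * E ≠ 0 := fun e => by rw [e, map_zero] at htr; exact zero_ne_one htr
  obtain ⟨w₀, hw₀⟩ : ∃ w₀, (Y * E) w₀ ≠ 0 := by
    by_contra hall
    push Not at hall
    exact hne0 (LinearMap.ext hall)
  set v := (Y * E) w₀ with hv
  have hxv : ρ B.x v = v := by
    rw [hv, hYE.eq, ← Module.End.mul_apply, ← mul_assoc, hE, Rep.rho_mul_avg ρ hx11]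
  have hyv' : ρ B.y v = v := by
    rw [hv, ← Module.End.mul_apply, ← mul_assoc, hY, Rep.rho_mul_avg ρ hy5]
  have hnv : ρ n v = v := by
    rw [hv, ← Module.End.mul_apply, ← mul_assoc, hnY]
  let H : Subgroup G :=
    { carrier := {g | ρ g v = v}
      one_mem' := by simp
      mul_mem' := fun {a b} ha hb => by
        show ρ (a * b) v = v
        rw [map_mul, Module.End.mul_apply, show ρ b v = v from hb, show ρ a v = v from ha]
      inv_mem' := fun {a} ha => by
        show ρ a⁻¹ v = v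
        conv_lhs => rw [← show ρ a v = v from ha]
        rw [← Module.End.mul_apply, ← map_mul, inv_mul_cancel, map_one, Module.End.one_apply] }
  have hxH : B.x ∈ H := hxv
  have hyH : B.y ∈ H := hyv'
  have hnH : n ∈ H := hnv
  have hH : H ≠ ⊤ := fun htop => by
    let W : Subrepresentation ρ := ⟨Submodule.span ℂ {v}, fun g w hw => by
      obtain ⟨c, rfl⟩ := Submodule.mem_span_singleton.mp hw
      have hg : ρ g v = v := show g ∈ H from htop ▸ Subgroup.mem_top g
      rw [map_smul, hg]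
      exact Submodule.smul_mem _ c (Submodule.mem_span_singleton_self v)⟩
    rcases (IsSimpleOrder.eq_bot_or_eq_top (self := hirr) W) with e | e
    · have h' := congrArg Subrepresentation.toSubmodule e
      exact hw₀ (Submodule.span_singleton_eq_bot.mp (h'.trans rfl))
    · have h' : Submodule.span ℂ {v} = ⊤ := congrArg Subrepresentation.toSubmodule e
      have h1 := finrank_span_singleton (K := ℂ) hw₀
      rw [h', finrank_top, Module.finrank_fin_fun] at h1
      rw [h1] at hd
      norm_num at hd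
  set NP := Subgroup.normalizer ((B.P : Subgroup G) : Set G) with hNP'
  have hNP : Nat.card NP = 55 := (Local11.p11_data B.card B.P).2.2
  have hPH : (B.P : Subgroup G) ≤ H := by rw [← B.hPx]; exact Subgroup.zpowers_le.mpr hxH
  have hNH : NP ≤ H := by
    have hyN : B.y ∈ NP := by
      rw [hNP', ← B.hPx]
      refine Subgroup.mem_normalizer_fintype fun m hm => ?_
      obtain ⟨k, rfl⟩ := Subgroup.mem_zpowers_iff.mp hm
      rw [SetLike.mem_coe, ← conj_zpow, B.hyx]
      exact Subgroup.zpow_mem _ (Subgroup.npow_mem_zpowers B.x 3) k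
    have h5 : 5 ∣ Nat.card ↥(H ⊓ NP) := B.hy ▸ Subgroup.orderOf_dvd_natCard _ ⟨hyH, hyN⟩
    have h11 : 11 ∣ Nat.card ↥(H ⊓ NP) := B.hx ▸ Subgroup.orderOf_dvd_natCard _
      ⟨hxH, Subgroup.le_normalizer B.x_mem⟩
    have h55 := Nat.Coprime.mul_dvd_of_dvd_of_dvd (by norm_num) h5 h11
    exact (Subgroup.eq_of_le_of_card_ge (inf_le_right : H ⊓ NP ≤ NP)
      (by rw [hNP]; exact Nat.le_of_dvd Nat.card_pos h55)) ▸ inf_le_left
  have hk : Nat.card (Sylow 11 H) =
      (Subgroup.normalizer (((B.P : Subgroup G).subgroupOf H : Subgroup H) : Set H)).index :=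
    Sylow.card_eq_index_normalizer (B.P.subtype hPH)
  rw [← Subgroup.subgroupOf_normalizer_eq hPH, ← hNP'] at hk
  have hmod := SmallGroups.Sylow.card_sylow_mod (G := H) (p := 11)
  set k := (NP.subgroupOf H).index with hkdef
  rw [hk] at hmod
  have hHk : Nat.card H = 55 * k := by
    rw [← Subgroup.card_mul_index (NP.subgroupOf H),
      Nat.card_congr (Subgroup.subgroupOfEquivOfLe hNH).toEquiv, hNP, ← hkdef]
  have hidx := Subgroup.card_mul_index H
  rw [hHk, B.card] at hidx
  have hi1 : H.index ≠ 1 := fun e => hH (Subgroup.index_eq_one.mp e)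
  have hn4 : orderOf n = 4 :=
    orderOf_eq_prime_pow (p := 2) (n := 1)
      (by rw [pow_one]; intro e; have := M.sq; rw [e, orderOf_one] at this; omega)
      (by simpa using M.four)
  have h4k : 4 ∣ k := by
    have := Subgroup.orderOf_dvd_natCard H hnH
    rw [hn4, hHk] at this
    exact (Nat.Coprime.dvd_mul_left (by norm_num)).mp this
  -- the normaliser of `⟨y⟩` in `H`
  set N := Subgroup.normalizer ((Subgroup.zpowers B.y : Subgroup G) : Set G) with hN
  have hN40 : Nat.card N = 40 := by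
    have h : Nat.card N = 20 * D.T.W.c := D.T.W.card_N
    rw [h, D.T.hc]
  have hnN : n ∈ N := by
    refine Subgroup.mem_normalizer_fintype fun m hm => ?_
    obtain ⟨j, rfl⟩ := Subgroup.mem_zpowers_iff.mp hm
    rw [SetLike.mem_coe, ← conj_zpow, M.act]
    exact Subgroup.zpow_mem _ (Subgroup.npow_mem_zpowers B.y M.r) j
  have hyN : B.y ∈ N := Subgroup.le_normalizer (Subgroup.mem_zpowers B.y)
  set c := Nat.card ↥(H ⊓ N) with hc
  have hc20 : 20 ∣ c := Nat.Coprime.mul_dvd_of_dvd_of_dvd (m := 4) (n := 5) (by norm_num)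
    (hn4 ▸ Subgroup.orderOf_dvd_natCard _ ⟨hnH, hnN⟩)
    (B.hy ▸ Subgroup.orderOf_dvd_natCard _ ⟨hyH, hyN⟩)
  have hc40 : c ∣ 40 := hN40 ▸ Subgroup.card_dvd_of_le inf_le_right
  have hRle : Subgroup.zpowers B.y ≤ H := Subgroup.zpowers_le.mpr hyH
  obtain ⟨R, hR'⟩ := (IsPGroup.of_card (G := (Subgroup.zpowers B.y).subgroupOf H) (p := 5) (n := 1)
    (by rw [Nat.card_congr (Subgroup.subgroupOfEquivOfLe hRle).toEquiv, Nat.card_zpowers, B.hy,
      pow_one])).exists_le_sylow
  have hR5 : (R : Subgroup H) = (Subgroup.zpowers B.y).subgroupOf H := by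
    refine (Subgroup.eq_of_le_of_card_ge hR' ?_).symm
    rw [Nat.card_congr (Subgroup.subgroupOfEquivOfLe hRle).toEquiv, Nat.card_zpowers, B.hy]
    obtain ⟨m, hm⟩ := R.isPGroup'.exists_card_eq
    have hd' : Nat.card (R : Subgroup H) ∣ 95040 :=
      (Subgroup.card_subgroup_dvd_card _).trans (B.card ▸ Subgroup.card_subgroup_dvd_card H)
    rw [hm] at hd' ⊢
    rcases m with _ | _ | m
    · norm_num
    · norm_num
    · exfalso
      have : 5 ^ 2 ∣ 95040 := (pow_dvd_pow 5 (by omega)).trans hd'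
      norm_num at this
  have hmul : c * Nat.card (Sylow 5 H) = 55 * k := by
    rw [← hHk, ← SmallGroups.Sylow.card_normalizer_mul R, hR5,
      ← Subgroup.subgroupOf_normalizer_eq hRle, ← hN, ← Subgroup.inf_subgroupOf_left,
      Nat.card_congr (Subgroup.subgroupOfEquivOfLe inf_le_left).toEquiv]
  have hm5 := SmallGroups.Sylow.card_sylow_mod (G := H) (p := 5)
  have hk1728 : k ∣ 1728 := by
    refine Nat.dvd_of_mul_dvd_mul_left (by norm_num : 0 < 55) ?_
    rw [← hHk]; exact (Subgroup.card_subgroup_dvd_card H).trans (by rw [B.card])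
  have key : ∀ m ∈ Nat.divisors 1728, m % 11 = 1 → 4 ∣ m → m = 12 ∨ m = 144 ∨ m = 1728 := by
    decide +kernel
  have hc' : c = 20 ∨ c = 40 := by
    have := Nat.le_of_dvd (by norm_num) hc40
    obtain ⟨j, hj⟩ := hc20
    have : 0 < c := Nat.card_pos
    omega
  rcases key k (Nat.mem_divisors.mpr ⟨hk1728, by norm_num⟩) hmod h4k with e | e | e
  · exfalso
    rw [e] at hmul
    rcases hc' with e' | e' <;> rw [e'] at hmul <;> omega
  · rw [e] at hmul hidx
    refine ⟨H, D.T.q, hxH, hyH, by omega, D.T.hq, D.T.hqy, fun hqH => ?_⟩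
    have hqN : D.T.q ∈ N := by
      refine Subgroup.mem_normalizer_fintype fun m hm => ?_
      obtain ⟨j, rfl⟩ := Subgroup.mem_zpowers_iff.mp hm
      rw [SetLike.mem_coe, (D.T.hqy.zpow_right j).eq, mul_inv_cancel_right]
      exact Subgroup.zpow_mem_zpowers B.y j
    -- two commuting involutions make `8` divide `c`
    have hqn2 : n ^ 2 ≠ D.T.q := fun e' => M.notq (e' ▸ IsConj.refl _)
    have hC4 : 40 ≤ c := by
      rcases hc' with e' | e'
      · exfalso
        -- `C_H(y)` would have order ten, the other elements of `H ⊓ N` inducing four powers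
        have hle : Nat.card (Fin 4 × (H ⊓ Subgroup.centralizer ({B.y} : Set G) : Subgroup G)) ≤
            Nat.card ↥(H ⊓ N) := by
          refine Nat.card_le_card_of_injective (fun p => ⟨n ^ (p.1 : ℕ) * p.2,
            mul_mem (pow_mem hnH _) p.2.2.1, mul_mem (pow_mem hnN _) ?_⟩) ?_
          · refine Subgroup.mem_normalizer_fintype fun m hm => ?_
            obtain ⟨j, rfl⟩ := Subgroup.mem_zpowers_iff.mp hm
            rw [SetLike.mem_coe, ((show Commute (p.2 : G) B.y from
              Subgroup.mem_centralizer_singleton_iff.mp p.2.2.2).zpow_right j).eq,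
              mul_inv_cancel_right]
            exact Subgroup.zpow_mem_zpowers B.y j
          · rintro ⟨i, a⟩ ⟨j, b⟩ eab
            have eab' : n ^ (i : ℕ) * (a : G) = n ^ (j : ℕ) * (b : G) := congrArg Subtype.val eab
            have hact : ∀ (m : ℕ) (g : (H ⊓ Subgroup.centralizer ({B.y} : Set G) : Subgroup G)),
                n ^ m * (g : G) * B.y * (n ^ m * (g : G))⁻¹ = B.y ^ M.r ^ m := by
              intro m g
              have hg : Commute (g : G) B.y := Subgroup.mem_centralizer_singleton_iff.mp g.2.2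
              induction m with
              | zero => simp [hg.eq]
              | succ m ih =>
                calc n ^ (m + 1) * (g : G) * B.y * (n ^ (m + 1) * (g : G))⁻¹
                    = n * (n ^ m * (g : G) * B.y * (n ^ m * (g : G))⁻¹) * n⁻¹ := by
                      rw [pow_succ']; group
                  _ = B.y ^ M.r ^ (m + 1) := by
                      rw [ih, ← conj_pow, M.act, ← pow_mul, pow_succ']
            have h1 := hact i a
            rw [eab', hact j b, pow_eq_pow_iff_modEq, B.hy] at h1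
            have key : ∀ r : Fin 4, ∀ i j : Fin 4, (r.1 = 2 ∨ r.1 = 3) →
                r.1 ^ j.1 % 5 = r.1 ^ i.1 % 5 → i = j := by decide
            have hij : i = j := key ⟨M.r, by rcases M.hr with e₁ | e₁ <;> rw [e₁] <;> norm_num⟩
              i j M.hr h1
            subst hij
            exact Prod.ext rfl (Subtype.ext (mul_left_cancel eab'))
        rw [Nat.card_prod, Nat.card_eq_fintype_card (α := Fin 4), Fintype.card_fin] at hle
        have h2 : 2 ∣ Nat.card (H ⊓ Subgroup.centralizer ({B.y} : Set G) : Subgroup G) :=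
          D.T.hq ▸ Subgroup.orderOf_dvd_natCard _
            ⟨hqH, Subgroup.mem_centralizer_singleton_iff.mpr D.T.hqy.eq⟩
        have h5 : 5 ∣ Nat.card (H ⊓ Subgroup.centralizer ({B.y} : Set G) : Subgroup G) :=
          B.hy ▸ Subgroup.orderOf_dvd_natCard _
            ⟨hyH, Subgroup.mem_centralizer_singleton_iff.mpr rfl⟩
        have h10 := Nat.le_of_dvd Nat.card_pos
          (Nat.Coprime.mul_dvd_of_dvd_of_dvd (by norm_num) h2 h5)
        rw [← hc, e'] at hle
        omega
      · omega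
    rcases hc' with e' | e' <;> rw [e'] at hmul hC4 <;> omega
  · rw [e] at hidx; omega

end Cfsg.Agent.Lib.RecogThree.M12.Index
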