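import Cfsg.Agent.Lib.RecogThree.M12.Index
import Cfsg.Agent.Lib.RecogThree.M12.Cert
import Cfsg.Agent.Lib.RecogThree.M11.Order7920
import Cfsg.Agent.Lib.RecogThree.M11.Degrees

/-!
A simple group of order `95040` is determined up to isomorphism: it is generated by three fixed
permutations of twelve points.
-/

set_option autoImplicit false
set_option linter.style.haveILetI false
set_option linter.unusedSectionVars false

namespace Cfsg.Agent.Lib.RecogThree.M12.Model

open Cfsg.Agent.Lib.SmallGroups Cfsg.Agent.Lib.Classif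
open Cfsg.Agent.Lib.RecogThree.M12.Eleven (Base)

universe u v

/-- Generators of a group realised as the three fixed permutations. -/
structure Model (G : Type u) [Group G] where
  φ : G →* Equiv.Perm (Fin 12)
  inj : Function.Injective φ
  x : G
  y : G
  z : G
  hx : ⇑(φ x) = M11.Cert.X
  hy : ⇑(φ y) = M11.Cert.Y
  hz : ⇑(φ z) = Cert.Z 2
  gen : Subgroup.closure {x, y, z} = ⊤

theorem Model.range_eq {G : Type u} [Group G] (M : Model G) :
    M.φ.range = Subgroup.closure {M.φ M.x, M.φ M.y, M.φ M.z} := by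
  rw [MonoidHom.range_eq_map, ← M.gen, MonoidHom.map_closure, Set.image_insert_eq,
    Set.image_insert_eq, Set.image_singleton]

theorem nonempty_mulEquiv {G : Type u} {G' : Type v} [Group G] [Group G'] (M : Model G)
    (M' : Model G') : Nonempty (G ≃* G') := by
  have e : M.φ.range = M'.φ.range := by
    rw [M.range_eq, M'.range_eq,
      Equiv.coe_fn_injective (M.hx.trans M'.hx.symm),
      Equiv.coe_fn_injective (M.hy.trans M'.hy.symm),
      Equiv.coe_fn_injective (M.hz.trans M'.hz.symm)]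
  exact ⟨(MonoidHom.ofInjective M.inj).trans
    ((MulEquiv.subgroupCongr e).trans (MonoidHom.ofInjective M'.inj).symm)⟩

variable {G : Type u} [Group G] [Finite G] [IsSimpleGroup G] [Fact (Nat.Prime 11)] (B : Base G)

/-- A subgroup with transitive action containing `x`, `y`, a commuting involution and an element of
order eight is everything. -/
theorem eq_top {K : Subgroup G} (hx : B.x ∈ K) (hy : B.y ∈ K) {q : G} (hq : orderOf q = 2)
    (hqy : Commute q B.y) (hqK : q ∈ K) {g : G} (hgK : g ∈ K) (hg : orderOf g = 8)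
    (h12 : 12 ∣ Nat.card K) : K = ⊤ := by
  classical
  by_contra htop
  set NP := Subgroup.normalizer ((B.P : Subgroup G) : Set G) with hNP'
  have hNP : Nat.card NP = 55 := (Local11.p11_data B.card B.P).2.2
  have hPK : (B.P : Subgroup G) ≤ K := by rw [← B.hPx]; exact Subgroup.zpowers_le.mpr hx
  have hNK : NP ≤ K := by
    have hyN : B.y ∈ NP := by
      rw [hNP', ← B.hPx]
      refine Subgroup.mem_normalizer_fintype fun m hm => ?_
      obtain ⟨k, rfl⟩ := Subgroup.mem_zpowers_iff.mp hm
      rw [SetLike.mem_coe, ← conj_zpow, B.hyx]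
      exact Subgroup.zpow_mem _ (Subgroup.npow_mem_zpowers B.x 3) k
    have h5 : 5 ∣ Nat.card ↥(K ⊓ NP) := B.hy ▸ Subgroup.orderOf_dvd_natCard _ ⟨hy, hyN⟩
    have h11 : 11 ∣ Nat.card ↥(K ⊓ NP) := B.hx ▸ Subgroup.orderOf_dvd_natCard _
      ⟨hx, Subgroup.le_normalizer B.x_mem⟩
    have h55 := Nat.Coprime.mul_dvd_of_dvd_of_dvd (by norm_num) h5 h11
    exact (Subgroup.eq_of_le_of_card_ge (inf_le_right : K ⊓ NP ≤ NP)
      (by rw [hNP]; exact Nat.le_of_dvd Nat.card_pos h55)) ▸ inf_le_left
  have hk : Nat.card (Sylow 11 K) =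
      (Subgroup.normalizer (((B.P : Subgroup G).subgroupOf K : Subgroup K) : Set K)).index :=
    Sylow.card_eq_index_normalizer (B.P.subtype hPK)
  rw [← Subgroup.subgroupOf_normalizer_eq hPK, ← hNP'] at hk
  have hmod := SmallGroups.Sylow.card_sylow_mod (G := K) (p := 11)
  set k := (NP.subgroupOf K).index with hkdef
  rw [hk] at hmod
  have hKk : Nat.card K = 55 * k := by
    rw [← Subgroup.card_mul_index (NP.subgroupOf K),
      Nat.card_congr (Subgroup.subgroupOfEquivOfLe hNK).toEquiv, hNP, ← hkdef]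
  have hidx := Subgroup.card_mul_index K
  rw [hKk, B.card] at hidx
  have hi1 : K.index ≠ 1 := fun e => htop (Subgroup.index_eq_one.mp e)
  have hk1728 : k ∣ 1728 := by
    refine Nat.dvd_of_mul_dvd_mul_left (by norm_num : 0 < 55) ?_
    rw [← hKk]; exact (Subgroup.card_subgroup_dvd_card K).trans (by rw [B.card])
  have h12k : 12 ∣ k := (Nat.Coprime.dvd_mul_left (by norm_num)).mp (hKk ▸ h12)
  have h8k : 8 ∣ k := (Nat.Coprime.dvd_mul_left (by norm_num)).mp
    (hKk ▸ hg ▸ Subgroup.orderOf_dvd_natCard K hgK)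
  have key : ∀ m ∈ Nat.divisors 1728, m % 11 = 1 → 12 ∣ m → 8 ∣ m → m = 144 ∨ m = 1728 := by
    decide +kernel
  rcases key k (Nat.mem_divisors.mpr ⟨hk1728, by norm_num⟩) hmod h12k h8k with e | e
  swap
  · rw [e] at hidx; omega
  rw [e] at hKk hk
  haveI : IsSimpleGroup K := M11.Order7920.isSimpleGroup_of_144 hKk hk
  have hx' : orderOf (⟨B.x, hx⟩ : K) = 11 := by rw [Subgroup.orderOf_mk, B.hx]
  have hy' : orderOf (⟨B.y, hy⟩ : K) = 5 := by rw [Subgroup.orderOf_mk, B.hy]
  obtain ⟨T⟩ := M11.Degrees.exists_table hKk hx' hy' (Subtype.ext B.hyx)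
  have h2 : orderOf (⟨q, hqK⟩ : K) ∣
      Nat.card (Subgroup.centralizer ({(⟨B.y, hy⟩ : K)} : Set K)) :=
    Subgroup.orderOf_dvd_natCard _ (Subgroup.mem_centralizer_singleton_iff.mpr (Subtype.ext hqy.eq))
  rw [T.cent_y, Subgroup.orderOf_mk, hq] at h2
  norm_num at h2

include B in
set_option maxHeartbeats 1600000 in
theorem exists_model : Nonempty (Model G) := by
  classical
  haveI : Fact (Nat.Prime 5) := ⟨by norm_num⟩
  haveI : Fact (Nat.Prime 2) := ⟨Nat.prime_two⟩
  obtain ⟨H, z, hxH, hyH, hH, hz, hzy, hzH⟩ := Index.exists_index_twelve B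
  set x := B.x
  set y := B.y
  have hx : orderOf x = 11 := B.hx
  have hy : orderOf y = 5 := B.hy
  have hyx : y * x * y⁻¹ = x ^ 3 := B.hyx
  haveI := Fintype.ofFinite (G ⧸ H)
  have hX : Nat.card (G ⧸ H) = 12 := by rw [← hH]; rfl
  set π := MulAction.toPermHom G (G ⧸ H) with hπ
  have hπinj : Function.Injective π := by
    rw [← MonoidHom.ker_eq_bot_iff]
    refine ((MonoidHom.normal_ker π).eq_bot_or_eq_top).resolve_right fun htop => ?_
    have hle : (⊤ : Subgroup G) ≤ H := by
      intro g _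
      have : π g = 1 := MonoidHom.mem_ker.mp (htop ▸ Subgroup.mem_top g)
      have h' := DFunLike.congr_fun this (QuotientGroup.mk (1 : G))
      rw [hπ, MulAction.toPermHom_apply, MulAction.toPerm_apply, Equiv.Perm.one_apply,
        MulAction.Quotient.smul_mk, smul_eq_mul, mul_one, QuotientGroup.eq, mul_one] at h'
      simpa using h'
    rw [top_le_iff.mp hle, Subgroup.index_top] at hH
    norm_num at hH
  set o : G ⧸ H := QuotientGroup.mk (1 : G) with ho
  have hfix : ∀ g ∈ H, g • o = o := fun g hg => by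
    rw [ho, MulAction.Quotient.smul_mk, smul_eq_mul, mul_one, QuotientGroup.eq, mul_one]
    exact inv_mem hg
  have hmem : ∀ g : G, g • o = o → g ∈ H := fun g hg => by
    rw [ho, MulAction.Quotient.smul_mk, smul_eq_mul, mul_one, QuotientGroup.eq, mul_one] at hg
    simpa using hg
  obtain ⟨q, hq⟩ : ∃ q : G ⧸ H, x • q ≠ q := by
    by_contra hall
    push Not at hall
    have : π x = π 1 := Equiv.ext fun q => by rw [map_one]; exact hall q
    have := hπinj this
    rw [this, orderOf_one] at hx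
    omega
  have hx11 : x ^ 11 = 1 := hx ▸ pow_orderOf_eq_one x
  have hxmod : ∀ i : ℕ, x ^ i = x ^ (i % 11) := fun i => by rw [← hx, pow_mod_orderOf]
  have hfree : ∀ i : ℕ, x ^ i • q = q → 11 ∣ i := by
    intro i hi
    by_contra hd
    obtain ⟨m, hm⟩ := exists_pow_eq_self_of_coprime (x := x) (n := i)
      (by rw [hx]; exact ((Nat.Prime.coprime_iff_not_dvd (by norm_num)).mpr hd).symm)
    refine hq ?_
    rw [← hm]
    clear hm
    induction m with
    | zero => simp
    | succ m ih => rw [pow_succ, mul_smul, hi, ih]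
  let f : Fin 12 → G ⧸ H := fun i => if i.1 = 11 then o else x ^ i.1 • q
  have hxo : ∀ i : ℕ, x ^ i • o = o := fun i => hfix _ (pow_mem hxH i)
  have hqo : ∀ i : ℕ, x ^ i • q ≠ o := fun i e => hq (by
    have : q = o := MulAction.injective (x ^ i) (e.trans (hxo i).symm)
    rw [this]; exact hfix x hxH)
  have hcancel : ∀ i j : ℕ, i < 11 → j < 11 → x ^ i • q = x ^ j • q → i = j := by
    intro i j hi hj e
    have h1 : x ^ (11 - j + i) • q = q := by
      rw [pow_add, mul_smul, e, ← mul_smul, ← pow_add, Nat.sub_add_cancel hj.le, hx11, one_smul]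
    have := hfree _ h1
    omega
  have hf : Function.Bijective f := by
    rw [Nat.bijective_iff_injective_and_card]
    refine ⟨fun i j e => ?_, by rw [Nat.card_eq_fintype_card, Fintype.card_fin, hX]⟩
    simp only [f] at e
    apply Fin.ext
    split_ifs at e with hi hj hj
    · omega
    · exact absurd e.symm (hqo _)
    · exact absurd e (hqo _)
    · exact hcancel _ _ (by omega) (by omega) e
  obtain ⟨k, hk11, hk⟩ : ∃ k < 11, y • q = x ^ k • q := by
    obtain ⟨i, hi⟩ := hf.2 (y • q)
    simp only [f] at hi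
    split_ifs at hi with hi'
    · exact absurd ((MulAction.injective y (hi.symm.trans (hfix y hyH).symm)))
        (by simpa using hqo 0)
    · exact ⟨i, by omega, hi.symm⟩
  set p₀ := x ^ (5 * k) • q with hp₀
  have hyp₀ : y • p₀ = p₀ := by
    rw [hp₀, ← mul_smul, M11.Local5.y_mul_pow hyx, mul_smul, hk, ← mul_smul, ← pow_add, hxmod,
      hxmod (5 * k)]
    congr 2
    omega
  let e' : Fin 12 → G ⧸ H := fun i => if i.1 = 11 then o else x ^ i.1 • p₀
  have he' : Function.Bijective e' := by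
    rw [Nat.bijective_iff_injective_and_card]
    refine ⟨fun i j e => ?_, by rw [Nat.card_eq_fintype_card, Fintype.card_fin, hX]⟩
    simp only [e', hp₀, ← mul_smul, ← pow_add] at e
    apply Fin.ext
    split_ifs at e with hi hj hj
    · omega
    · exact absurd e.symm (hqo _)
    · exact absurd e (hqo _)
    · rw [hxmod, hxmod (j.1 + _)] at e
      have := hcancel _ _ (Nat.mod_lt _ (by norm_num)) (Nat.mod_lt _ (by norm_num)) e
      omega
  let e : Fin 12 ≃ G ⧸ H := Equiv.ofBijective e' he'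
  let φ : G →* Equiv.Perm (Fin 12) := e.symm.permCongrHom.toMonoidHom.comp π
  have hφ : ∀ (g : G) (i : Fin 12), e ((φ g) i) = g • e i := fun g i => by
    show e (e.symm (g • e i)) = _
    rw [Equiv.apply_symm_apply]
  have hφinj : Function.Injective φ := e.symm.permCongrHom.injective.comp hπinj
  have heval : ∀ i : Fin 12, e i = if i.1 = 11 then o else x ^ i.1 • p₀ := fun i => rfl
  have e11 : e 11 = o := by rw [heval]; rfl
  have hXv : ∀ i : Fin 12, if i.1 = 11 then (M11.Cert.X i).1 = 11 else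
      (M11.Cert.X i).1 ≠ 11 ∧ (M11.Cert.X i).1 = (i.1 + 1) % 11 := by decide +kernel
  have hYv : ∀ i : Fin 12, if i.1 = 11 then (M11.Cert.Y i).1 = 11 else
      (M11.Cert.Y i).1 ≠ 11 ∧ (M11.Cert.Y i).1 = (3 * i.1) % 11 := by decide +kernel
  have hφx : ⇑(φ x) = M11.Cert.X := by
    funext i
    apply e.injective
    have hv := hXv i
    rw [hφ, heval i, heval (M11.Cert.X i)]
    split_ifs at hv ⊢ with hi
    · exact hfix x hxH
    · exact absurd (by assumption) hv.1
    · rw [hv.2, ← mul_smul, ← pow_succ', hxmod]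
  have hφy : ⇑(φ y) = M11.Cert.Y := by
    funext i
    apply e.injective
    have hv := hYv i
    rw [hφ, heval i, heval (M11.Cert.Y i)]
    split_ifs at hv ⊢ with hi
    · exact hfix y hyH
    · exact absurd (by assumption) hv.1
    · rw [hv.2, ← mul_smul, M11.Local5.y_mul_pow hyx, mul_smul, hyp₀, hxmod]
  -- the action of the involution
  have hzc : ∀ (n : ℕ) (i : Fin 12), φ z (M11.Cert.Y^[n] i) = M11.Cert.Y^[n] (φ z i) := by
    intro n i
    have h : φ (z * y ^ n) = φ (y ^ n * z) := by rw [(hzy.pow_right n).eq]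
    have h' := DFunLike.congr_fun h i
    rwa [map_mul, map_mul, Equiv.Perm.mul_apply, Equiv.Perm.mul_apply, map_pow,
      Equiv.Perm.coe_pow, hφy] at h'
  have hzz : ∀ i : Fin 12, φ z (φ z i) = i := fun i => by
    rw [← Equiv.Perm.mul_apply, ← map_mul, ← pow_two, ← hz, pow_orderOf_eq_one, map_one,
      Equiv.Perm.one_apply]
  have hz11 : φ z 11 = 0 := by
    have h' : M11.Cert.Y (φ z 11) = φ z 11 := (hzc 1 11).symm
    refine (M11.Cert.fixed _ h').resolve_right fun e1 => hzH (hmem z ?_)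
    rw [← e11, ← hφ, e1]
  have hz0 : φ z 0 = 11 := by
    have h := hzz 11
    rwa [hz11] at h
  have hno : ∀ i : Fin 12, i ≠ 0 → i ≠ 11 → φ z i ≠ 0 ∧ φ z i ≠ 11 := fun i h0 h11 =>
    ⟨fun e1 => h11 ((φ z).injective (e1.trans hz11.symm)),
      fun e1 => h0 ((φ z).injective (e1.trans hz0.symm))⟩
  obtain ⟨a, ha⟩ : ∃ a : Fin 5, φ z 1 = M11.Cert.Y^[a.1] 2 := by
    obtain ⟨h10, h111⟩ := hno 1 (by decide) (by decide)
    rcases Cert.point_cases (φ z 1) with h | h | ⟨m, h | h⟩
    · exact absurd h h10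
    · exact absurd h h111
    swap
    · exact ⟨m, h⟩
    exfalso
    have hm : m = 0 := (Cert.double_zero m).1 (by
      have h' := hzz 1
      rwa [h, hzc, h] at h')
    subst hm
    have h1 : φ z 1 = 1 := h
    obtain ⟨h20, h211⟩ := hno 2 (by decide) (by decide)
    obtain ⟨m', hm'⟩ : ∃ m' : Fin 5, φ z 2 = M11.Cert.Y^[m'.1] 2 := by
      rcases Cert.point_cases (φ z 2) with h' | h' | ⟨m', h' | h'⟩
      · exact absurd h' h20
      · exact absurd h' h211
      · exfalso
        have h'' : φ z 2 = φ z (M11.Cert.Y^[m'.1] 1) := by rw [hzc, h1, h']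
        have key : ∀ m : Fin 5, M11.Cert.Y^[m.1] 1 ≠ 2 := by decide
        exact key m' ((φ z).injective h'').symm
      · exact ⟨m', h'⟩
    have hm0 : m' = 0 := (Cert.double_zero m').2 (by
      have h' := hzz 2
      rwa [hm', hzc, hm'] at h')
    subst hm0
    have h2 : φ z 2 = 2 := hm'
    have hswap : φ z = Equiv.swap 0 11 := by
      ext i
      rcases M11.Cert.U_table i with rfl | rfl | ⟨n, rfl | rfl⟩
      · rw [hz0, Equiv.swap_apply_left]
      · rw [hz11, Equiv.swap_apply_right]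
      · rw [hzc, h1, Equiv.swap_apply_of_ne_of_ne] <;> (revert n; decide)
      · rw [hzc, h2, Equiv.swap_apply_of_ne_of_ne] <;> (revert n; decide)
    let s : G →* ℤˣ := Equiv.Perm.sign.comp φ
    have hker : commutator G ≤ s.ker := Abelianization.commutator_subset_ker s
    have hs : Equiv.Perm.sign (φ z) = 1 :=
      hker (SmallGroups.Sylow.commutator_eq_top B.not_isComm ▸ Subgroup.mem_top z)
    rw [hswap, Equiv.Perm.sign_swap (by decide)] at hs
    exact absurd hs (by decide)
  have hφz : ⇑(φ z) = Cert.Z a := by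
    funext i
    rcases Cert.Z_table a i with ⟨rfl, h⟩ | ⟨rfl, h⟩ | ⟨n, ⟨rfl, h⟩ | ⟨rfl, h⟩⟩ <;> rw [h]
    · exact hz0
    · exact hz11
    · rw [hzc, ha]
    · rw [hzc]
      congr 1
      have h1 := hzz 1
      rwa [ha] at h1
  by_cases hbad : a ≠ 2 ∧ a ≠ 4
  · exfalso
    obtain ⟨w, hw, h35, h5⟩ := Cert.order_thirty_five a hbad.1 hbad.2
    obtain ⟨g, hg⟩ : ∃ g : G, ⇑(φ g) = w := by
      simp only [List.mem_cons, List.not_mem_nil, or_false] at hw
      rcases hw with rfl | rfl
      · exact ⟨x * x * z * x * x * z * x * z, by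
          simp only [map_mul, Equiv.Perm.coe_mul, hφx, hφz]; rfl⟩
      · exact ⟨x * y * z * x * z, by
          simp only [map_mul, Equiv.Perm.coe_mul, hφx, hφy, hφz]; rfl⟩
    subst hg
    have hg35 : g ^ 35 = 1 := hφinj (by
      apply Equiv.coe_fn_injective
      show ⇑(φ (g ^ 35)) = ⇑(φ 1)
      rw [map_pow, Equiv.Perm.coe_pow, h35, map_one]; rfl)
    have hd := Nat.dvd_gcd (orderOf_dvd_of_pow_eq_one hg35) (B.card ▸ orderOf_dvd_natCard g)
    rw [show Nat.gcd 35 95040 = 5 by decide] at hd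
    exact h5 (by rw [← Equiv.Perm.coe_pow, ← map_pow, orderOf_dvd_iff_pow_eq_one.mp hd, map_one]; rfl)
  have hgen : ∀ (x' : G), Subgroup.zpowers x' = Subgroup.zpowers x → ∀ g ∈
      Subgroup.closure {x', y, z}, orderOf g = 8 → Subgroup.closure {x', y, z} = ⊤ := by
    intro x' hx' g hgK hg
    set K := Subgroup.closure {x', y, z}
    have hx'K : x' ∈ K := Subgroup.subset_closure (by simp)
    have hyK : y ∈ K := Subgroup.subset_closure (by simp)
    have hzK : z ∈ K := Subgroup.subset_closure (by simp)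
    have hxK : x ∈ K := by
      have : Subgroup.zpowers x' ≤ K := Subgroup.zpowers_le.mpr hx'K
      exact this (hx' ▸ Subgroup.mem_zpowers x)
    have htrans : ∀ r : G ⧸ H, r ∈ MulAction.orbit K o := by
      have hmove : ∀ g ∈ K, ∀ r ∈ MulAction.orbit K o, g • r ∈ MulAction.orbit K o := by
        rintro g hg _ ⟨b, rfl⟩
        exact ⟨⟨g, hg⟩ * b, mul_smul (⟨g, hg⟩ : K) b o⟩
      have hzo : z • o ≠ o := fun e1 => hzH (hmem z e1)
      obtain ⟨j, hj⟩ := hf.2 (z • o)
      simp only [f] at hj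
      split_ifs at hj with hj'
      · exact absurd hj.symm hzo
      have hjo : x ^ j.1 • q ∈ MulAction.orbit K o := hj ▸ hmove z hzK o (MulAction.mem_orbit_self o)
      intro r
      obtain ⟨i, rfl⟩ := hf.2 r
      simp only [f]
      split_ifs with hi
      · exact MulAction.mem_orbit_self o
      · have e1 : x ^ i.1 • q = x ^ (i.1 + (11 - j.1)) • x ^ j.1 • q := by
          rw [← mul_smul, ← pow_add, show i.1 + (11 - j.1) + j.1 = i.1 + 11 by omega, pow_add,
            hx11, mul_one]
        rw [e1]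
        exact hmove _ (pow_mem hxK _) _ hjo
    have horb : Nat.card (MulAction.orbit K o) = 12 := by
      rw [show (MulAction.orbit K o) = Set.univ from Set.eq_univ_of_forall htrans,
        Nat.card_coe_set_eq, Set.ncard_univ, hX]
    have hstab := Nat.card_congr (MulAction.orbitProdStabilizerEquivGroup K o)
    rw [Nat.card_prod, horb] at hstab
    exact eq_top B hxK hyK hz hzy hzK hgK hg ⟨_, hstab.symm⟩
  have hord8 : ∀ (ψ : G →* Equiv.Perm (Fin 12)), Function.Injective ψ → ∀ g : G,
      ⇑(ψ g) = M11.Cert.X ∘ M11.Cert.Y ∘ M11.Cert.Y ∘ Cert.Z 2 → orderOf g = 8 := by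
    intro ψ hψ g hg
    obtain ⟨h8, h4⟩ := Cert.order_eight
    have : orderOf g = 2 ^ (2 + 1) := orderOf_eq_prime_pow
      (fun e1 => h4 (by rw [← hg, ← Equiv.Perm.coe_pow, ← map_pow, show (4 : ℕ) = 2 ^ 2 from rfl, e1, map_one]; rfl))
      (hψ (by
        apply Equiv.coe_fn_injective
        show ⇑(ψ (g ^ 2 ^ (2 + 1))) = ⇑(ψ 1)
        rw [map_pow, Equiv.Perm.coe_pow, hg, map_one]
        exact h8))
    simpa using this
  by_cases h2 : a = 2
  · subst h2
    refine ⟨⟨φ, hφinj, x, y, z, hφx, hφy, hφz, hgen x rfl (x * y * y * z) ?_ (hord8 φ hφinj _ ?_)⟩⟩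
    · exact mul_mem (mul_mem (mul_mem (Subgroup.subset_closure (by simp))
        (Subgroup.subset_closure (by simp))) (Subgroup.subset_closure (by simp)))
        (Subgroup.subset_closure (by simp))
    · simp only [map_mul, Equiv.Perm.coe_mul, hφx, hφy, hφz]; rfl
  · obtain rfl : a = 4 := by
      by_contra h4
      exact hbad ⟨h2, h4⟩
    let ν : Equiv.Perm (Fin 12) := ⟨M11.Cert.N, M11.Cert.N, fun i => (Cert.flip i).2.2.2,
      fun i => (Cert.flip i).2.2.2⟩
    let ψ : G →* Equiv.Perm (Fin 12) := (MulAut.conj ν).toMonoidHom.comp φ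
    have hψ : ∀ g i, ψ g i = M11.Cert.N (φ g (M11.Cert.N i)) := fun g i => rfl
    have hψinj : Function.Injective ψ := (MulAut.conj ν).injective.comp hφinj
    have hY' : ⇑(ψ y) = M11.Cert.Y := funext fun i => by
      rw [hψ, hφy]; exact (Cert.flip i).2.2.1
    have hX' : ⇑(ψ x⁻¹) = M11.Cert.X := funext fun i => by
      have h1 : M11.Cert.X (M11.Cert.N (M11.Cert.X i)) = M11.Cert.N i := by
        revert i; decide +kernel
      rw [hψ, map_inv, Equiv.Perm.inv_def,
        (Equiv.symm_apply_eq (φ x)).mpr (show M11.Cert.N i = φ x (M11.Cert.N (M11.Cert.X i)) by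
          rw [hφx, h1])]
      exact (Cert.flip _).2.2.2
    have hZ' : ⇑(ψ z) = Cert.Z 2 := funext fun i => by
      rw [hψ, hφz]; exact (Cert.flip i).1
    refine ⟨⟨ψ, hψinj, x⁻¹, y, z, hX', hY', hZ',
      hgen x⁻¹ Subgroup.zpowers_inv (x⁻¹ * y * y * z) ?_ (hord8 ψ hψinj _ ?_)⟩⟩
    · exact mul_mem (mul_mem (mul_mem (Subgroup.subset_closure (by simp))
        (Subgroup.subset_closure (by simp))) (Subgroup.subset_closure (by simp)))
        (Subgroup.subset_closure (by simp))
    · rw [map_mul, map_mul, map_mul, Equiv.Perm.coe_mul, Equiv.Perm.coe_mul, Equiv.Perm.coe_mul,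
        hX', hY', hZ']
      rfl

/-- Simple groups of order `95040` are isomorphic. -/
theorem unique {G' : Type v} [Group G'] [Finite G'] [IsSimpleGroup G'] (h : Nat.card G = 95040)
    (h' : Nat.card G' = 95040) : Nonempty (G ≃* G') := by
  obtain ⟨B⟩ := Eleven.exists_base h
  obtain ⟨B'⟩ := Eleven.exists_base h'
  obtain ⟨M⟩ := exists_model B
  obtain ⟨M'⟩ := exists_model B'
  exact nonempty_mulEquiv M M'

end Cfsg.Agent.Lib.RecogThree.M12.Model
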