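import Cfsg.Agent.Lib.RecogThree.M12.Five

/-!
Simple groups of order `95040`: the centraliser of an element of order five has no Sylow
`3`-subgroup of order `27` when its normaliser has order `540`.
-/

set_option autoImplicit false
set_option linter.style.haveILetI false
set_option linter.unusedSectionVars false

namespace Cfsg.Agent.Lib.RecogThree.M12.Normal5

open Cfsg.Agent.Lib.Classif
open Cfsg.Agent.Lib.RecogThree.M12.Eleven (Base)

universe u

variable {G : Type u} [Group G] [Finite G] [IsSimpleGroup G] [Fact (Nat.Prime 11)] (B : Base G)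

include B

theorem conj_mem_centralizer {g a : G}
    (hg : g ∈ Subgroup.normalizer ((Subgroup.zpowers B.y : Subgroup G) : Set G))
    (ha : a ∈ Subgroup.centralizer ({B.y} : Set G)) :
    g * a * g⁻¹ ∈ Subgroup.centralizer ({B.y} : Set G) := by
  rw [Subgroup.mem_centralizer_singleton_iff] at ha ⊢
  have hy' : g⁻¹ * B.y * g ∈ Subgroup.zpowers B.y := by
    have := (Subgroup.mem_normalizer_iff.mp (inv_mem hg) B.y).mp (Subgroup.mem_zpowers B.y)
    simpa using this
  obtain ⟨k, hk⟩ := Subgroup.mem_zpowers_iff.mp hy'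
  have hc : Commute a (g⁻¹ * B.y * g) := hk ▸ (show Commute a B.y from ha).zpow_right k
  calc g * a * g⁻¹ * B.y = g * (a * (g⁻¹ * B.y * g)) * g⁻¹ := by group
    _ = g * (g⁻¹ * B.y * g * a) * g⁻¹ := by rw [hc.eq]
    _ = B.y * (g * a * g⁻¹) := by group

theorem not_27 (hC : Nat.card (Subgroup.centralizer ({B.y} : Set G)) = 135)
    (hN : Nat.card (Subgroup.normalizer ((Subgroup.zpowers B.y : Subgroup G) : Set G)) = 540) :
    False := by
  classical
  haveI : Fact (Nat.Prime 3) := ⟨Nat.prime_three⟩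
  haveI : Fact (Nat.Prime 5) := ⟨by norm_num⟩
  set C := Subgroup.centralizer ({B.y} : Set G) with hCdef
  set N := Subgroup.normalizer ((Subgroup.zpowers B.y : Subgroup G) : Set G) with hNdef
  obtain ⟨Q₀, hQ₀⟩ := Sylow.exists_subgroup_card_pow_prime 3 (n := 3) (G := C)
    (by rw [hC]; norm_num)
  set Q := Q₀.map C.subtype with hQdef
  have hQcard : Nat.card Q = 27 := by
    rw [hQdef, Subgroup.card_map_of_injective (Subgroup.subtype_injective _), hQ₀]; norm_num
  have hQC : Q ≤ C := by rintro _ ⟨a, -, rfl⟩; exact a.2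
  have hyC : B.y ∈ C := Subgroup.mem_centralizer_singleton_iff.mpr rfl
  have hcomm : ∀ a ∈ C, Commute B.y a := fun a ha =>
    (Subgroup.mem_centralizer_singleton_iff.mp ha : Commute a B.y).symm
  have hinf : Subgroup.zpowers B.y ⊓ Q = ⊥ :=
    Subgroup.inf_eq_bot_of_coprime (by rw [Nat.card_zpowers, B.hy, hQcard]; norm_num)
  have hchar : ∀ a ∈ C, a ^ 27 = 1 → a ∈ Q := by
    intro a ha ha27
    have hsurj : Function.Surjective (fun p : Subgroup.zpowers B.y × Q =>
        (⟨(p.1 : G) * p.2, mul_mem (Subgroup.zpowers_le.mpr hyC p.1.2) (hQC p.2.2)⟩ : C)) := by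
      refine (Function.Injective.bijective_of_nat_card_le ?_ ?_).2
      · intro p q e
        exact Subgroup.mul_injective_of_disjoint (disjoint_iff.mpr hinf) (congrArg Subtype.val e)
      · rw [Nat.card_prod, Nat.card_zpowers, B.hy, hQcard, hC]
    obtain ⟨⟨⟨r, hr⟩, ⟨q, hq⟩⟩, hrq⟩ := hsurj ⟨a, ha⟩
    have hrq' : r * q = a := congrArg Subtype.val hrq
    obtain ⟨k, rfl⟩ := Subgroup.mem_zpowers_iff.mp hr
    have hc : Commute (B.y ^ k) q := (hcomm q (hQC hq)).zpow_left k
    have hq27 : q ^ 27 = 1 :=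
      orderOf_dvd_iff_pow_eq_one.mp (hQcard ▸ Subgroup.orderOf_dvd_natCard _ hq)
    rw [← hrq', hc.mul_pow, hq27, mul_one, ← zpow_natCast, ← zpow_mul,
      ← orderOf_dvd_iff_zpow_eq_one, B.hy] at ha27
    have h5 : B.y ^ k = 1 := by
      rw [← orderOf_dvd_iff_zpow_eq_one, B.hy]
      push_cast at ha27 ⊢
      omega
    rw [← hrq', h5, one_mul]
    exact hq
  set M := Subgroup.normalizer (Q : Set G) with hMdef
  have hNM : N ≤ M := by
    intro g hg
    refine Subgroup.mem_normalizer_fintype fun a ha => ?_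
    refine hchar _ (conj_mem_centralizer B hg (hQC ha)) ?_
    rw [conj_pow, conj_eq_one_iff]
    exact orderOf_dvd_iff_pow_eq_one.mp (hQcard ▸ Subgroup.orderOf_dvd_natCard _ ha)
  have hMtop : M ≠ ⊤ := by
    intro e
    rcases (Subgroup.normalizer_eq_top_iff.mp e).eq_bot_or_eq_top with h | h <;>
      rw [h] at hQcard
    · rw [Subgroup.card_bot] at hQcard; norm_num at hQcard
    · rw [Subgroup.card_top, B.card] at hQcard; norm_num at hQcard
  -- the Sylow subgroup at three
  obtain ⟨T, hT⟩ := (IsPGroup.of_card (G := Q) (p := 3) (n := 3) (by rw [hQcard]; norm_num)).exists_le_sylow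
  have hTQ : (T : Subgroup G) = Q := by
    refine (Subgroup.eq_of_le_of_card_ge hT ?_).symm
    rw [SmallGroups.Sylow.card_sylow_eq T (a := 3) (m := 3520) (by rw [B.card]; norm_num)
      (by norm_num), hQcard]
    norm_num
  have h3 : M.index % 3 = 1 := by
    have h := T.card_eq_index_normalizer
    have hm := SmallGroups.Sylow.card_sylow_mod (G := G) (p := 3)
    rw [h, show (Subgroup.normalizer (T : Set G)) = M by rw [hMdef, ← hTQ]; rfl] at hm
    exact hm
  -- the Sylow subgroups at five inside `M`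
  obtain ⟨R, hR⟩ := (IsPGroup.of_card (G := (Subgroup.zpowers B.y).subgroupOf M) (p := 5) (n := 1)
    (by
      rw [Nat.card_congr (Subgroup.subgroupOfEquivOfLe
        (Subgroup.le_normalizer.trans hNM)).toEquiv, Nat.card_zpowers, B.hy, pow_one])).exists_le_sylow
  have hRle : Subgroup.zpowers B.y ≤ M := Subgroup.le_normalizer.trans hNM
  have hR5 : (R : Subgroup M) = (Subgroup.zpowers B.y).subgroupOf M := by
    refine (Subgroup.eq_of_le_of_card_ge hR ?_).symm
    rw [Nat.card_congr (Subgroup.subgroupOfEquivOfLe hRle).toEquiv, Nat.card_zpowers, B.hy]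
    obtain ⟨n, hn⟩ := R.isPGroup'.exists_card_eq
    have hd : Nat.card (R : Subgroup M) ∣ 95040 :=
      (Subgroup.card_subgroup_dvd_card _).trans (B.card ▸ Subgroup.card_subgroup_dvd_card M)
    rw [hn] at hd ⊢
    rcases n with _ | _ | n
    · norm_num
    · norm_num
    · exfalso
      have : 5 ^ 2 ∣ 95040 := (pow_dvd_pow 5 (by omega)).trans hd
      norm_num at this
  have h5 : 540 * Nat.card (Sylow 5 M) = Nat.card M := by
    rw [← SmallGroups.Sylow.card_normalizer_mul R, hR5, ← Subgroup.subgroupOf_normalizer_eq hRle,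
      Nat.card_congr (Subgroup.subgroupOfEquivOfLe hNM).toEquiv, hN]
  have hm5 := SmallGroups.Sylow.card_sylow_mod (G := M) (p := 5)
  have hidx : Nat.card M * M.index = 95040 := by rw [Subgroup.card_mul_index, B.card]
  have h11 : 11 ∣ Nat.card M := by
    have hne : M.index ≠ 1 := fun e => hMtop (Subgroup.index_eq_one.mp e)
    rw [← h5, mul_assoc] at hidx
    generalize Nat.card (Sylow 5 M) = j at hm5 hidx h5
    generalize M.index = i at h3 hne hidx
    have hji : j * i = 176 := by omega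
    rw [← h5]
    have key : ∀ j ∈ Nat.divisors 176, j % 5 = 1 → (176 / j) % 3 = 1 → 176 / j ≠ 1 → 11 ∣ j := by
      decide +kernel
    have hi : 176 / j = i := by rw [← hji, Nat.mul_div_cancel_left _ (by omega)]
    exact (key j (Nat.mem_divisors.mpr ⟨⟨i, hji.symm⟩, by norm_num⟩) hm5 (hi ▸ h3) (hi ▸ hne)).mul_left 540
  -- an element of order eleven centralising part of `Q`
  obtain ⟨⟨g, hg⟩, hgo⟩ := exists_prime_orderOf_dvd_card' (G := M) 11 h11
  rw [Subgroup.orderOf_mk] at hgo
  haveI : Fintype {s : Q // s ≠ 1} := Fintype.ofFinite _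
  have hcard : Fintype.card {s : Q // s ≠ 1} = 26 := by
    haveI : Fintype Q := Fintype.ofFinite _
    rw [Fintype.card_subtype_compl, Fintype.card_subtype_eq, ← Nat.card_eq_fintype_card, hQcard]
  have hmem : ∀ s : {s : Q // s ≠ 1}, g * ((s : Q) : G) * g⁻¹ ∈ Q := fun s =>
    (Subgroup.mem_normalizer_iff.mp hg _).mp s.1.2
  have hne1 : ∀ s : {s : Q // s ≠ 1}, (⟨_, hmem s⟩ : Q) ≠ 1 := fun s e => by
    have := congrArg Subtype.val e
    simp only [OneMemClass.coe_one, conj_eq_one_iff] at this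
    exact s.2 (Subtype.ext this)
  let σ : Equiv.Perm {s : Q // s ≠ 1} := Equiv.ofBijective (fun s => ⟨⟨_, hmem s⟩, hne1 s⟩)
    (Finite.injective_iff_bijective.mp fun s t hst => by
      have : g * ((s : Q) : G) * g⁻¹ = g * ((t : Q) : G) * g⁻¹ :=
        congrArg (fun z : {s : Q // s ≠ 1} => ((z : Q) : G)) hst
      exact Subtype.ext (Subtype.ext (mul_left_cancel (mul_right_cancel this))))
  have hpow : ∀ (j : ℕ) (s : {s : Q // s ≠ 1}),
      (((σ ^ j) s : Q) : G) = g ^ j * ((s : Q) : G) * (g ^ j)⁻¹ := by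
    intro j
    induction j with
    | zero => simp
    | succ j ih =>
      intro s
      rw [pow_succ', Equiv.Perm.mul_apply]
      show g * (((σ ^ j) s : Q) : G) * g⁻¹ = _
      rw [ih, pow_succ']
      group
  obtain ⟨s, hs⟩ := Equiv.Perm.exists_fixed_point_of_prime (p := 11) (n := 1) (σ := σ)
    (by rw [hcard]; norm_num) (Equiv.ext fun s => Subtype.ext (Subtype.ext (by
      rw [pow_one, hpow, ← hgo, pow_orderOf_eq_one]; simp)))
  have hfix : Commute g ((s : Q) : G) :=
    mul_inv_eq_iff_eq_mul.mp (congrArg (fun z : {s : Q // s ≠ 1} => ((z : Q) : G)) hs)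
  refine s.2 (Subtype.ext (Five.eq_one_of_commute B hgo hfix fun h => ?_))
  have h := h.trans (hQcard ▸ Subgroup.orderOf_dvd_natCard Q s.1.2)
  norm_num at h

end Cfsg.Agent.Lib.RecogThree.M12.Normal5
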