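import Cfsg.Agent.Lib.RecogThree.M12.Column

/-!
Simple groups of order `95040`: the two classes of involutions and the indicators.
-/

set_option autoImplicit false
set_option linter.style.haveILetI false
set_option linter.unusedSectionVars false

namespace Cfsg.Agent.Lib.RecogThree.M12.Table

open Cfsg.Agent.Lib.Characters Cfsg.Agent.Lib.Characters.Basic
open Cfsg.Agent.Lib.Classif
open Cfsg.Agent.Lib.Classif.PrimeExceptional (deg apply_one_eq)
open Cfsg.Agent.Lib.RecogThree.M12.Combos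
open Cfsg.Agent.Lib.RecogThree.M12.Eleven (Base)
open Cfsg.Agent.Lib.RecogThree.M12.Column (Rest)
open scoped ComplexConjugate
open Finset

universe u

variable {G : Type u} [Group G] [Finite G] [IsSimpleGroup G] [Fact (Nat.Prime 11)]

/-- The part of the table that is used. -/
structure Data (B : Base G) where
  T : Ten.Data B
  a : Cfsg.IrrCharacter G
  b : Cfsg.IrrCharacter G
  hab : a ≠ b
  ha : Rest T a
  hb : Rest T b
  ha11 : deg a = 11
  hb11 : deg b = 11
  ha_y : (a : G → ℂ) B.y = 1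
  hb_y : (b : G → ℂ) B.y = 1
  ha_q : (a : G → ℂ) T.q = -1
  hb_q : (b : G → ℂ) T.q = -1
  rest : ∀ χ, Rest T χ → χ ≠ a → χ ≠ b →
    deg χ = 55 ∧ (χ : G → ℂ) B.y = 0 ∧ (χ : G → ℂ) T.q = -5
  θ_y : (B.D.θ : G → ℂ) B.y = 1
  v0_y : ((T.W.ι 0 : Cfsg.IrrCharacter G) : G → ℂ) B.y = 0
  v1_y : ((T.W.ι 1 : Cfsg.IrrCharacter G) : G → ℂ) B.y = -1
  v2_y : ((T.W.ι 2 : Cfsg.IrrCharacter G) : G → ℂ) B.y = 0
  classes : ∀ z : G, orderOf z = 2 → IsConj z T.q ∨
    (Nat.card (Subgroup.centralizer ({z} : Set G)) = 192 ∧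
      ((T.W.ι 0 : Cfsg.IrrCharacter G) : G → ℂ) z = -3 ∧
      ((T.W.ι 1 : Cfsg.IrrCharacter G) : G → ℂ) z = 6 ∧
      ((T.W.ι 2 : Cfsg.IrrCharacter G) : G → ℂ) z = -8 ∧
      ((T.W.ι 3 : Cfsg.IrrCharacter G) : G → ℂ) z = 0 ∧
      ∀ θ' ∈ B.D.fam, (θ' : G → ℂ) z = 0)
  indicator : ∀ [Fintype G], ∀ χ : Cfsg.IrrCharacter G, χ ∉ B.D.fam →
    (∀ g, ((χ : G → ℂ) g).im = 0) ∧
      (Nat.card G : ℂ)⁻¹ * ∑ s : G, (χ : G → ℂ) (s * s) = 1
  no_root : ∀ s : G, ¬ IsConj (s * s) T.q

variable {B : Base G} (T : Ten.Data B)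

/-- An involution with `5` in the centraliser is conjugate to `q`. -/
theorem isConj_q {z : G} (hz : orderOf z = 2)
    (h5 : 5 ∣ Nat.card (Subgroup.centralizer ({z} : Set G))) : IsConj z T.q := by
  haveI : Fact (Nat.Prime 5) := ⟨by norm_num⟩
  obtain ⟨⟨g, hg⟩, hgo⟩ := exists_prime_orderOf_dvd_card'
    (G := Subgroup.centralizer ({z} : Set G)) 5 h5
  rw [Subgroup.orderOf_mk] at hgo
  obtain ⟨P, hP⟩ := (IsPGroup.of_card (G := Subgroup.zpowers g) (p := 5) (n := 1)
    (by rw [Nat.card_zpowers, hgo, pow_one])).exists_le_sylow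
  obtain ⟨R, hR⟩ := (IsPGroup.of_card (G := Subgroup.zpowers B.y) (p := 5) (n := 1)
    (by rw [Nat.card_zpowers, B.hy, pow_one])).exists_le_sylow
  have hP' : (P : Subgroup G) = Subgroup.zpowers g := (Subgroup.eq_of_le_of_card_ge hP
    (by rw [Local11.card_p5 B.card P, Nat.card_zpowers, hgo])).symm
  have hR' : (R : Subgroup G) = Subgroup.zpowers B.y := (Subgroup.eq_of_le_of_card_ge hR
    (by rw [Local11.card_p5 B.card R, Nat.card_zpowers, B.hy])).symm
  obtain ⟨c, hc⟩ := MulAction.exists_smul_eq G P R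
  have hcy : c⁻¹ * B.y * c ∈ Subgroup.zpowers g := by
    have h : B.y ∈ (R : Subgroup G) := hR' ▸ Subgroup.mem_zpowers B.y
    rw [← hc, Sylow.coe_subgroup_smul, Subgroup.mem_pointwise_smul_iff_inv_smul_mem] at h
    rw [← hP']
    convert h using 1
    rw [MulAut.smul_def, ← map_inv, MulAut.conj_apply]
    group
  obtain ⟨k, hk⟩ := Subgroup.mem_zpowers_iff.mp hcy
  have hzg : Commute z g := (Subgroup.mem_centralizer_singleton_iff.mp hg : Commute g z).symm
  have hzy : Commute (c * z * c⁻¹) B.y := by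
    show c * z * c⁻¹ * B.y = B.y * (c * z * c⁻¹)
    calc c * z * c⁻¹ * B.y = c * (z * (c⁻¹ * B.y * c)) * c⁻¹ := by group
      _ = c * (c⁻¹ * B.y * c * z) * c⁻¹ := by rw [← hk, (hzg.zpow_right k).eq]
      _ = B.y * (c * z * c⁻¹) := by group
  have hzo : orderOf (c * z * c⁻¹) = 2 := by
    rw [show c * z * c⁻¹ = MulAut.conj c z from rfl, MulEquiv.orderOf_eq, hz]
  have hmem : c * z * c⁻¹ ∈ T.W.four.V := (T.W.four.mem_V _).mpr
    ⟨Subgroup.mem_centralizer_singleton_iff.mpr hzy.eq, by rw [hzo]; norm_num⟩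
  rcases (T.V_mem _).mp hmem with e | e
  · rw [e, orderOf_one] at hzo; omega
  · exact isConj_iff.mpr ⟨c, e⟩

theorem class_cases {z : G} (hz : orderOf z = 2) : IsConj z T.q ∨
    (Nat.card (Subgroup.centralizer ({z} : Set G)) = 192 ∧
      ((T.W.ι 0 : Cfsg.IrrCharacter G) : G → ℂ) z = -3 ∧
      ((T.W.ι 1 : Cfsg.IrrCharacter G) : G → ℂ) z = 6 ∧
      ((T.W.ι 2 : Cfsg.IrrCharacter G) : G → ℂ) z = -8 ∧
      ((T.W.ι 3 : Cfsg.IrrCharacter G) : G → ℂ) z = 0 ∧
      ∀ θ' ∈ B.D.fam, (θ' : G → ℂ) z = 0) := by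
  obtain ⟨C, v₀, v₁, v₂, v₃, t, hmem, hC, hv0, hv1, hv2, hv3, hvt⟩ :=
    B.involution T.W.ι T.W.hι (c := ![45, -54, -120, 144]) (T := 16) (by decide) (by norm_num) hz
  rw [solutions_target] at hmem
  simp only [List.mem_cons, List.not_mem_nil, or_false, Prod.mk.injEq, List.cons.injEq,
    and_true] at hmem
  rcases hmem with ⟨rfl, e0, e1, e2, e3, et⟩ | ⟨rfl, e0, e1, e2, e3, et⟩ |
    ⟨rfl, e0, e1, e2, e3, et⟩ | ⟨rfl, e0, e1, e2, e3, et⟩ | ⟨rfl, e0, e1, e2, e3, et⟩ |
    ⟨rfl, e0, e1, e2, e3, et⟩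
  · exact Or.inl (isConj_q T hz (hC ▸ by norm_num))
  · exact Or.inl (isConj_q T hz (hC ▸ by norm_num))
  · exact Or.inr ⟨hC, by rw [hv0, e0]; norm_num, by rw [hv1, e1]; norm_num,
      by rw [hv2, e2]; norm_num, by rw [hv3, e3]; norm_num,
      fun θ' h => by rw [hvt θ' h, et]; norm_num⟩
  · exact Or.inl (isConj_q T hz (hC ▸ by norm_num))
  · exact Or.inl (isConj_q T hz (hC ▸ by norm_num))
  · exact Or.inl (isConj_q T hz (hC ▸ by norm_num))

/-- An involution not conjugate to `q`. -/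
theorem exists_central : ∃ z : G, orderOf z = 2 ∧ ¬ IsConj z T.q ∧
    Nat.card (Subgroup.centralizer ({z} : Set G)) = 192 := by
  haveI : Fact (Nat.Prime 2) := ⟨Nat.prime_two⟩
  obtain ⟨S⟩ := (inferInstance : Nonempty (Sylow 2 G))
  have hS : Nat.card (S : Subgroup G) = 64 := by
    rw [SmallGroups.Sylow.card_sylow_eq S (a := 6) (m := 1485) (by rw [B.card]; norm_num)
      (by norm_num)]
    norm_num
  haveI : Nontrivial (S : Subgroup G) :=
    Finite.one_lt_card_iff_nontrivial.mp (by rw [hS]; norm_num)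
  haveI := S.isPGroup'.center_nontrivial
  obtain ⟨n, hn⟩ := (S.isPGroup'.to_subgroup (Subgroup.center (S : Subgroup G))).exists_card_eq
  have h2 : 2 ∣ Nat.card (Subgroup.center (S : Subgroup G)) := by
    rcases n with _ | n
    · have := Finite.one_lt_card (α := Subgroup.center (S : Subgroup G))
      omega
    · exact ⟨2 ^ n, by rw [hn, pow_succ']⟩
  obtain ⟨z, hz⟩ := exists_prime_orderOf_dvd_card' (G := Subgroup.center (S : Subgroup G)) 2 h2
  rw [← Subgroup.orderOf_coe, ← Subgroup.orderOf_coe] at hz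
  set z' := ((z : (S : Subgroup G)) : G)
  have h64 : 64 ∣ Nat.card (Subgroup.centralizer ({z'} : Set G)) := hS ▸ Subgroup.card_dvd_of_le
    (fun g hg => Subgroup.mem_centralizer_singleton_iff.mpr
      (congrArg Subtype.val (Subgroup.mem_center_iff.mp z.2 ⟨g, hg⟩)))
  have hnc : ¬ IsConj z' T.q := fun h => by
    rw [← SmallOrderKills2.card_centralizer_conj h, T.card_q] at h64
    norm_num at h64
  exact ⟨z', hz, hnc, ((class_cases T hz).resolve_left hnc).1⟩

set_option maxHeartbeats 3200000 in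
theorem exists_data (B : Base G) : Nonempty (Data B) := by
  classical
  obtain ⟨T⟩ := Ten.exists_data B
  letI : Fintype G := Fintype.ofFinite G
  haveI : Fintype (Cfsg.IrrCharacter G) := Fintype.ofFinite _
  obtain ⟨⟨hθy, hy0, hy1, hy2⟩, hrow, hcase⟩ := Column.columns T
  obtain ⟨z₀, hz₀, hnc, hC₀⟩ := exists_central T
  -- the count of solutions of `g * g = 1`
  set K1 : Finset G := univ.filter fun g => IsConj g T.q
  set K2 : Finset G := univ.filter fun g => IsConj g z₀
  have hclass : ∀ v : G, (univ.filter fun g => IsConj g v).card *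
      Nat.card (Subgroup.centralizer ({v} : Set G)) = 95040 := by
    intro v
    have hfib : ∀ w ∈ univ.filter (fun g => IsConj g v),
        (univ.filter fun c : G => c * v * c⁻¹ = w).card =
          Nat.card (Subgroup.centralizer ({v} : Set G)) := by
      intro w hw
      obtain ⟨d, rfl⟩ := isConj_iff.mp (mem_filter.mp hw).2.symm
      rw [← Fintype.card_subtype, ← Nat.card_eq_fintype_card]
      refine Nat.card_congr ((Equiv.mulLeft d⁻¹).subtypeEquiv fun c => ?_)
      rw [eq_comm]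
      exact FixedSylow.conj_eq_iff
    have h := card_eq_sum_card_fiberwise (s := (univ : Finset G))
      (f := fun c : G => c * v * c⁻¹) (t := univ.filter fun g => IsConj g v)
      (fun c _ => mem_filter.mpr ⟨mem_univ _, (isConj_iff.mpr ⟨c, rfl⟩).symm⟩)
    rw [sum_congr rfl hfib, sum_const, smul_eq_mul, card_univ, ← Nat.card_eq_fintype_card,
      B.card] at h
    exact h.symm
  have hK1 : K1.card = 396 := by
    have h : K1.card * _ = 95040 := hclass T.q
    rw [T.card_q] at h; omega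
  have hK2 : K2.card = 495 := by
    have h : K2.card * _ = 95040 := hclass z₀
    rw [hC₀] at h; omega
  have hsq : ∀ g ∈ K1 ∪ K2, g * g = 1 ∧ g ≠ 1 := fun g hg => by
    have ho : orderOf g = 2 := by
      rcases mem_union.mp hg with h | h
      · obtain ⟨c, hc⟩ := isConj_iff.mp (mem_filter.mp h).2
        rw [← (MulAut.conj c).orderOf_eq g, show MulAut.conj c g = T.q from hc, T.hq]
      · obtain ⟨c, hc⟩ := isConj_iff.mp (mem_filter.mp h).2
        rw [← (MulAut.conj c).orderOf_eq g, show MulAut.conj c g = z₀ from hc, hz₀]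
    exact ⟨by rw [← pow_two, ← ho, pow_orderOf_eq_one],
      fun e => by rw [e, orderOf_one] at ho; omega⟩
  have hcount : 892 ≤ Nat.card {s : G // s * s = 1} := by
    rw [Nat.card_eq_fintype_card, Fintype.card_subtype]
    have hsub : insert (1 : G) (K1 ∪ K2) ⊆ univ.filter fun s : G => s * s = 1 := by
      intro g hg
      refine mem_filter.mpr ⟨mem_univ _, ?_⟩
      rcases mem_insert.mp hg with rfl | h
      · exact mul_one 1
      · exact (hsq g h).1
    refine le_trans ?_ (card_le_card hsub)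
    rw [card_insert_of_notMem fun h => (hsq 1 h).2 rfl, card_union_of_disjoint, hK1, hK2]
    exact disjoint_left.mpr fun g h1 h2 =>
      hnc ((mem_filter.mp h2).2.symm.trans (mem_filter.mp h1).2)
  -- indicators
  set ν : Cfsg.IrrCharacter G → ℂ := fun χ =>
    (Nat.card G : ℂ)⁻¹ * ∑ s : G, (χ : G → ℂ) (s * s) with hν
  have hν0 : ∀ θ' ∈ B.D.fam, ν θ' = 0 := fun θ' h =>
    (Characters.Indicator.indicator_spec θ').2 fun hreal => Five.fam_im B h (hreal B.x)
  have hνle : ∀ χ : Cfsg.IrrCharacter G, (ν χ).re * (deg χ : ℝ) ≤ (deg χ : ℝ) := fun χ => by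
    have hd : (0 : ℝ) ≤ (deg χ : ℝ) := by exact_mod_cast M12.Basic.deg_nonneg χ
    have hle : (ν χ).re ≤ 1 := by
      obtain ⟨h1, h0⟩ := Characters.Indicator.indicator_spec χ
      by_cases hx : ∀ g, ((χ : G → ℂ) g).im = 0
      · rcases h1 hx with e | e <;> simp only [hν] <;> rw [e] <;> simp
      · simp only [hν]; rw [h0 hx]; simp
    nlinarith
  have htotal := Characters.Indicator.card_sq_eq_one (G := G)
  rw [finsum_eq_sum_of_fintype] at htotal
  set N : Finset (Cfsg.IrrCharacter G) := univ.filter fun χ => χ ∉ B.D.fam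
  have hN : (892 : ℝ) ≤ ∑ χ ∈ N, (ν χ).re * (deg χ : ℝ) := by
    have h := congrArg Complex.re htotal
    rw [Complex.natCast_re, Complex.re_sum] at h
    have h892 : (892 : ℝ) ≤ (Nat.card {s : G // s * s = 1} : ℝ) := by exact_mod_cast hcount
    refine h892.trans (le_of_eq (h.trans ?_))
    rw [sum_filter]
    refine sum_congr rfl fun χ _ => ?_
    rw [apply_one_eq]
    by_cases hf : χ ∈ B.D.fam
    · rw [if_neg (not_not.mpr hf)]
      have := hν0 χ hf
      simp only [hν] at this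
      rw [this, zero_mul, Complex.zero_re]
    · rw [if_pos hf]
      simp only [hν, Complex.mul_re, Complex.intCast_re, Complex.intCast_im, mul_zero, sub_zero]
  have hsumN : ∑ χ ∈ N, deg χ = 705 + ∑ χ ∈ univ.filter (Rest T), deg χ := by
    have hall := Column.sum_univ_eq T (fun χ => deg χ)
    have hsplit := sum_filter_add_sum_filter_not (univ : Finset (Cfsg.IrrCharacter G))
      (fun χ => χ ∉ B.D.fam) (fun χ => deg χ)
    rw [show univ.filter (fun χ => ¬ χ ∉ B.D.fam) = B.D.fam by ext χ; simp, hall] at hsplit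
    obtain ⟨hdK, -⟩ := Central.deg_facts B T.W
    rw [Data5.deg_oneChar, hdK, hdK, hdK, hdK, T.h66.1, T.h99.1, T.h176.1] at hsplit
    simp only [Matrix.cons_val] at hsplit
    linarith
  have hle : ∑ χ ∈ N, (ν χ).re * (deg χ : ℝ) ≤ ∑ χ ∈ N, (deg χ : ℝ) :=
    sum_le_sum fun χ _ => hνle χ
  have hle' : (892 : ℤ) ≤ ∑ χ ∈ N, deg χ := by
    have := hN.trans hle
    exact_mod_cast this
  rcases hcase with ⟨a, b, hab, haR, hbR, hda, hdb, hay, hby, hrest, h187⟩ | h165
  swap
  · rw [hsumN, h165] at hle'; omega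
  have hν1 : ∀ χ ∈ N, ν χ = 1 := by
    intro χ hχ
    have heq : ∑ χ ∈ N, (ν χ).re * (deg χ : ℝ) = ∑ χ ∈ N, (deg χ : ℝ) := by
      refine le_antisymm hle (le_trans (le_of_eq ?_) hN)
      rw [← Int.cast_sum, hsumN, h187]; norm_num
    have h := (sum_eq_sum_iff_of_le fun χ _ => hνle χ).mp heq χ hχ
    have hd : (deg χ : ℝ) ≠ 0 := by
      obtain ⟨m, hm, hm1⟩ := exists_degree_pos χ
      rw [apply_one_eq] at hm1
      have : deg χ = m := by exact_mod_cast hm1
      rw [this]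
      exact_mod_cast (show (m : ℤ) ≠ 0 by omega)
    have hre : (ν χ).re = 1 := mul_right_cancel₀ hd (h.trans (one_mul _).symm)
    obtain ⟨h1, h0⟩ := Characters.Indicator.indicator_spec χ
    by_cases hx : ∀ g, ((χ : G → ℂ) g).im = 0
    · rcases h1 hx with e | e
      · exact e
      · simp only [hν] at hre ⊢; rw [e] at hre; norm_num at hre
    · simp only [hν] at hre ⊢; rw [h0 hx] at hre; norm_num at hre
  have hreal : ∀ χ, χ ∉ B.D.fam → ∀ g, ((χ : G → ℂ) g).im = 0 := by
    intro χ hχ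
    by_contra hx
    have h := hν1 χ (mem_filter.mpr ⟨mem_univ _, hχ⟩)
    simp only [hν] at h
    rw [(Characters.Indicator.indicator_spec χ).2 hx] at h
    exact zero_ne_one h
  -- no square roots of conjugates of `q`
  have hroot : ∀ s : G, ¬ IsConj (s * s) T.q := by
    have hνq : ∑ χ : Cfsg.IrrCharacter G, ν χ * conj ((χ : G → ℂ) T.q) = 0 := by
      have hq : ∀ χ, χ ∉ B.D.fam → ν χ * conj ((χ : G → ℂ) T.q) = (χ : G → ℂ) T.q := fun χ h => by
        rw [hν1 χ (mem_filter.mpr ⟨mem_univ _, h⟩), one_mul,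
          Complex.conj_eq_iff_im.mpr (hreal χ h T.q)]
      have hnf : ∀ χ, Rest T χ ∨ χ ∈ T.W.four.F ∨ χ ∈ B.D.K ∨ χ = oneChar G → χ ∉ B.D.fam := by
        rintro χ (h | h | h | h) hm
        · exact h.2.2.1 hm
        · exact T.fam_not_mem χ hm h
        · exact disjoint_left.mp B.D.fam_disj h hm
        · exact B.D.fam_one (h ▸ hm)
      have h5 := fun χ h => hnf χ (Or.inr (Or.inl h))
      rw [Column.sum_univ_eq T, hq _ (hnf _ (Or.inr (Or.inr (Or.inr rfl)))),
        hq _ (hnf _ (Or.inr (Or.inr (Or.inl (T.W.ι 0).2)))),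
        hq _ (hnf _ (Or.inr (Or.inr (Or.inl (T.W.ι 1).2)))),
        hq _ (hnf _ (Or.inr (Or.inr (Or.inl (T.W.ι 2).2)))),
        hq _ (hnf _ (Or.inr (Or.inr (Or.inl (T.W.ι 3).2)))),
        hq _ (h5 _ ((T.F_eq _).mpr (Or.inr (Or.inl rfl)))),
        hq _ (h5 _ ((T.F_eq _).mpr (Or.inr (Or.inr (Or.inl rfl))))),
        hq _ (h5 _ ((T.F_eq _).mpr (Or.inr (Or.inr (Or.inr rfl))))),
        sum_congr rfl fun χ h => hq χ (hnf χ (Or.inl (mem_filter.mp h).2)),
        sum_eq_zero (s := B.D.fam) fun θ' h => by rw [hν0 θ' h, zero_mul],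
        oneChar_apply, T.v0, T.v1, T.v2, T.v3, T.h66.2.2, T.h99.2.2, T.h176.2.2]
      have hR : ∑ χ ∈ univ.filter (Rest T), (χ : G → ℂ) T.q = -17 := by
        have hval : ∀ χ ∈ univ.filter (Rest T),
            (χ : G → ℂ) T.q = (-1 / 11 : ℂ) * ((deg χ : ℤ) : ℂ) := by
          intro χ h
          obtain ⟨k, -, hd, hv⟩ := hrow χ (mem_filter.mp h).2
          rw [hv, hd]; push_cast; ring
        rw [sum_congr rfl hval, ← mul_sum, ← Int.cast_sum, h187]
        norm_num
      rw [hR]; norm_num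
    intro s hs
    have h := Finset.sum_congr (rfl : (univ : Finset G) = univ)
      fun t _ => Complete.sum_irr_mul_conj (t * t) T.q
    rw [sum_comm, sum_congr rfl fun (χ : Cfsg.IrrCharacter G) _ => show
        ∑ t : G, (χ : G → ℂ) (t * t) * conj ((χ : G → ℂ) T.q) =
          (Nat.card G : ℂ) * (ν χ * conj ((χ : G → ℂ) T.q)) by
      rw [← sum_mul]
      simp only [hν]
      rw [← mul_assoc, ← mul_assoc, mul_inv_cancel₀ (Nat.cast_ne_zero.mpr Nat.card_pos.ne'),
        one_mul], ← mul_sum, hνq, mul_zero] at h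
    have hre := congrArg Complex.re h
    rw [Complex.zero_re, Complex.re_sum] at hre
    refine absurd ((sum_eq_zero_iff_of_nonneg fun t _ => by split_ifs <;> simp).mp
      hre.symm s (mem_univ s)) ?_
    rw [if_pos hs, Complex.natCast_re, Nat.cast_eq_zero]
    exact Nat.card_pos.ne'
  have hq11 : ∀ χ, Rest T χ → ∀ d : ℤ, deg χ = 11 * d → (χ : G → ℂ) T.q = -(d : ℂ) := by
    intro χ h d hd
    obtain ⟨k, -, hk, hv⟩ := hrow χ h
    rw [hv, show k = d by omega]
  exact ⟨{
    T := T, a := a, b := b, hab := hab, ha := haR, hb := hbR, ha11 := hda, hb11 := hdb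
    ha_y := hay, hb_y := hby
    ha_q := by rw [hq11 a haR 1 (by rw [hda]; norm_num)]; norm_num
    hb_q := by rw [hq11 b hbR 1 (by rw [hdb]; norm_num)]; norm_num
    rest := fun χ h h1 h2 => ⟨(hrest χ h h1 h2).1, (hrest χ h h1 h2).2,
      by rw [hq11 χ h 5 (by rw [(hrest χ h h1 h2).1]; norm_num)]; norm_num⟩
    θ_y := hθy, v0_y := hy0, v1_y := hy1, v2_y := hy2
    classes := fun z hz => class_cases T hz
    indicator := fun {inst} χ hχ => by
      obtain rfl : inst = Fintype.ofFinite G := Subsingleton.elim _ _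
      exact ⟨hreal χ hχ, hν1 χ (mem_filter.mpr ⟨mem_univ _, hχ⟩)⟩
    no_root := hroot }⟩

end Cfsg.Agent.Lib.RecogThree.M12.Table
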