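import Cfsg.Agent.Lib.RecogThree.M12.Twelve

/-!
Simple groups of order `95040`: the centraliser of `y` has order ten and the character of degree
`144` belongs to the family at five.
-/

set_option autoImplicit false
set_option linter.style.haveILetI false
set_option linter.unusedSectionVars false

namespace Cfsg.Agent.Lib.RecogThree.M12.Ten

open Cfsg.Agent.Lib.Characters Cfsg.Agent.Lib.Characters.Basic
open Cfsg.Agent.Lib.Classif
open Cfsg.Agent.Lib.Classif.PrimeExceptional (deg apply_one_eq)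
open Cfsg.Agent.Lib.RecogThree.M12.Eleven (Base)
open Cfsg.Agent.Lib.RecogThree.M12.Data5 (Four Five)
open scoped ComplexConjugate
open Finset

universe u

variable {G : Type u} [Group G] [Finite G] [IsSimpleGroup G] [Fact (Nat.Prime 11)]

/-- The involution `q` of `C(y)` and the values at it. -/
structure Data (B : Base G) where
  W : Five B
  q : G
  hq : orderOf q = 2
  hqy : Commute q B.y
  hc : W.c = 2
  card_q : Nat.card (Subgroup.centralizer ({q} : Set G)) = 240
  v0 : ((W.ι 0 : Cfsg.IrrCharacter G) : G → ℂ) q = 5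
  v1 : ((W.ι 1 : Cfsg.IrrCharacter G) : G → ℂ) q = 6
  v2 : ((W.ι 2 : Cfsg.IrrCharacter G) : G → ℂ) q = 0
  v3 : ((W.ι 3 : Cfsg.IrrCharacter G) : G → ℂ) q = 4
  fam_q : ∀ θ' ∈ B.D.fam, (θ' : G → ℂ) q = 4
  fam_not_mem : ∀ θ' ∈ B.D.fam, θ' ∉ W.four.F
  mem_three : (W.ι 3 : Cfsg.IrrCharacter G) ∈ W.four.F
  b_three : W.four.b (W.ι 3) = -1
  f66 : Cfsg.IrrCharacter G
  f99 : Cfsg.IrrCharacter G
  f176 : Cfsg.IrrCharacter G
  F_eq : ∀ χ, χ ∈ W.four.F ↔
    χ = (W.ι 3 : Cfsg.IrrCharacter G) ∨ χ = f66 ∨ χ = f99 ∨ χ = f176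
  h66 : deg f66 = 66 ∧ W.four.b f66 = 1 ∧ (f66 : G → ℂ) q = 6
  h99 : deg f99 = 99 ∧ W.four.b f99 = -1 ∧ (f99 : G → ℂ) q = -1
  h176 : deg f176 = 176 ∧ W.four.b f176 = 1 ∧ (f176 : G → ℂ) q = -4
  V_mem : ∀ v : G, v ∈ W.four.V ↔ v = 1 ∨ v = q

variable (B : Base G)

theorem V_two (W : Five B) {q : G} (hq : orderOf q = 2) (hqy : Commute q B.y) (hc : W.c = 2) :
    ∀ v : G, v ∈ W.four.V ↔ v = 1 ∨ v = q := by
  classical
  have hqV : q ∈ W.four.V := (W.four.mem_V q).mpr
    ⟨Subgroup.mem_centralizer_singleton_iff.mpr hqy.eq, by rw [hq]; norm_num⟩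
  have hcard : Nat.card W.four.V ≤ 2 := by
    have h := (Budget.V_card B W).1
    rw [hc] at h
    exact Nat.le_of_dvd (by norm_num) h
  have heq : Subgroup.zpowers q = W.four.V := Subgroup.eq_of_le_of_card_ge
    (Subgroup.zpowers_le.mpr hqV) (by rw [Nat.card_zpowers, hq]; exact hcard)
  intro v
  rw [← heq, mem_zpowers_iff_mem_range_orderOf, hq, Finset.mem_image]
  constructor
  · rintro ⟨r, hr, rfl⟩
    have := mem_range.mp hr
    interval_cases r
    · exact Or.inl (pow_zero q)
    · exact Or.inr (pow_one q)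
  · rintro (rfl | rfl)
    · exact ⟨0, by simp, pow_zero q⟩
    · exact ⟨1, by simp, pow_one _⟩

/-- The second position of the families is impossible when `C(y)` has order ten. -/
theorem not_second (W : Five B) {q : G} (hq : orderOf q = 2) (hqy : Commute q B.y) (hc : W.c = 2)
    (hv : Central.Values B W q) (hfam : ∀ θ' ∈ B.D.fam, θ' ∈ W.four.F ∧ W.four.b θ' = 1 ∧
      (θ' : G → ℂ) q = -4) : False := by
  classical
  haveI : Fintype (Cfsg.IrrCharacter G) := Fintype.ofFinite _
  haveI := Fintype.ofFinite W.four.V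
  obtain ⟨a, ha, hda, hba, hqa⟩ := hv.six
  obtain ⟨b, hb, hdb, hbb, hqb⟩ := hv.nine
  obtain ⟨θa, θb, hab, hfeq⟩ := card_eq_two.mp B.fam_card
  have haF : θa ∈ B.D.fam := by rw [hfeq]; simp
  have hbF : θb ∈ B.D.fam := by rw [hfeq]; simp
  obtain ⟨hdK, hdθ⟩ := Central.deg_facts B W
  have hθa : deg θa = 16 := (B.D.fam_deg θa haF).trans hdθ
  have hθb : deg θb = 16 := (B.D.fam_deg θb hbF).trans hdθ
  have hn1 : a ∉ ({b, θa, θb} : Finset _) := by
    simp only [mem_insert, mem_singleton]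
    rintro (e | e | e) <;> rw [e] at hda <;> omega
  have hn2 : b ∉ ({θa, θb} : Finset _) := by
    simp only [mem_insert, mem_singleton]
    rintro (e | e) <;> rw [e] at hdb <;> omega
  have hF : W.four.F = {a, b, θa, θb} := by
    refine (eq_of_subset_of_card_le ?_ ?_).symm
    · intro χ hχ
      simp only [mem_insert, mem_singleton] at hχ
      rcases hχ with rfl | rfl | rfl | rfl
      exacts [ha, hb, (hfam _ haF).1, (hfam _ hbF).1]
    · rw [W.four.card_F, card_insert_of_notMem hn1, card_insert_of_notMem hn2, card_pair hab]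
  have hy1 : B.y ≠ 1 := fun e => by
    have := B.hy; rw [e, orderOf_one] at this; omega
  -- the sum over `V` of a column
  have hcol : ∀ χ : Cfsg.IrrCharacter G, ∑ v : W.four.V, (χ : G → ℂ) (B.y * v) =
      if χ = oneChar G then 2 else if χ ∈ W.four.F then 2 * (W.four.b χ : ℂ) else 0 := by
    intro χ
    have hcard : Fintype.card W.four.V = 2 := by
      rw [← Nat.card_eq_fintype_card]
      have hle := (Budget.V_card B W).2 2 (by rw [hc]) 2 Nat.prime_two ⟨1, by norm_num⟩
      have hge := (Budget.V_card B W).1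
      rw [hc] at hge
      exact Nat.dvd_antisymm hge hle
    split_ifs with h1 h2
    · subst h1
      rw [sum_congr rfl (g := fun _ => (1 : ℂ)) fun (v : W.four.V) _ => by rw [oneChar_apply],
        sum_const, card_univ, hcard]
      norm_num
    · rw [sum_congr rfl fun (v : W.four.V) _ => W.four.value χ h2 B.y (Subgroup.mem_zpowers B.y)
        hy1 v v.2, sum_const, card_univ, hcard, nsmul_eq_mul]
      norm_num
    · rw [← finsum_eq_sum_of_fintype]
      exact W.four.others χ h1 h2 B.y (Subgroup.mem_zpowers B.y) hy1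
  choose m hm using fun v : W.four.V => Basic.exists_pairs q (B.y * (v : G))
  have hsum := Finset.sum_congr (rfl : (univ : Finset W.four.V) = univ) fun v _ => hm v
  rw [← mul_sum, sum_comm, ← mul_sum, hv.card, B.card] at hsum
  have hswap : ∀ χ : Cfsg.IrrCharacter G,
      ∑ v : W.four.V, (χ : G → ℂ) q ^ 2 * conj ((χ : G → ℂ) (B.y * v)) / (deg χ : ℂ) =
      (χ : G → ℂ) q ^ 2 / (deg χ : ℂ) *
        conj (if χ = oneChar G then 2 else if χ ∈ W.four.F then 2 * (W.four.b χ : ℂ) else 0) := by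
    intro χ
    rw [← hcol χ, map_sum, mul_sum]
    exact sum_congr rfl fun v _ => by ring
  rw [sum_congr rfl fun χ _ => hswap χ,
    ← sum_subset (subset_univ (insert (oneChar G) W.four.F)) fun χ _ hn => by
      rw [mem_insert, not_or] at hn
      rw [if_neg hn.1, if_neg hn.2, map_zero, mul_zero],
    sum_insert W.four.one_not_mem, if_pos rfl,
    sum_congr rfl fun χ hχ => by
      rw [if_neg fun e : χ = oneChar G => W.four.one_not_mem (e ▸ hχ), if_pos hχ],
    hF, sum_insert hn1, sum_insert hn2, sum_pair hab, oneChar_apply, Data5.deg_oneChar,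
    hqa, hqb, (hfam _ haF).2.2, (hfam _ hbF).2.2, hda, hdb, hθa, hθb, hba, hbb,
    (hfam _ haF).2.1, (hfam _ hbF).2.1] at hsum
  push_cast at hsum
  simp only [map_mul, map_ofNat, map_neg, map_one] at hsum
  norm_num at hsum
  have h3 : ((35 : ℕ) : ℂ) = ((3 * ∑ v : W.four.V, m v : ℕ) : ℂ) := by
    push_cast
    linear_combination (1 / 19200 : ℂ) * hsum
  have : 35 = 3 * ∑ v : W.four.V, m v := by exact_mod_cast h3
  omega

theorem exists_data : Nonempty (Data B) := by
  classical
  haveI : Fact (Nat.Prime 5) := ⟨by norm_num⟩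
  obtain ⟨W⟩ := Data5.exists_five B
  obtain ⟨a, m, hfac, hm, ha, hsmall⟩ : ∃ a m : ℕ, 20 * W.c = 2 ^ a * m ∧ ¬ 2 ∣ m ∧ 3 ≤ a ∧
      (W.c = 72 ∨ W.c = 432 → ¬ 5 * 2 ^ a ∣ 240) := by
    rcases W.hc with e | e | e | e
    · exact ⟨3, 5, by rw [e]; norm_num, by norm_num, le_rfl, by omega⟩
    · exact ⟨4, 15, by rw [e]; norm_num, by norm_num, by norm_num, by omega⟩
    · exact ⟨5, 45, by rw [e]; norm_num, by norm_num, by norm_num, fun _ => by norm_num⟩
    · exact ⟨6, 135, by rw [e]; norm_num, by norm_num, by norm_num, fun _ => by norm_num⟩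
  obtain ⟨q, hq, hqy, hd⟩ := Budget.exists_involution B W hfac hm ha
  obtain ⟨hv, -⟩ := Central.values B W hq hqy
  rw [hv.card] at hd
  have h12 := Twelve.ne_twelve B W hq hqy
  have hc : W.c = 2 := by
    rcases W.hc with e | e | e | e
    · exact e
    · exact absurd e h12
    · exact absurd hd (hsmall (Or.inl e))
    · exact absurd hd (hsmall (Or.inr e))
  rcases hv.case with ⟨⟨h3, hv3⟩, hfq, ⟨c, hcF, hdc, hbc, hqc⟩, hfn⟩ | ⟨-, -, hfam⟩
  swap
  · exact (not_second B W hq hqy hc hv hfam).elim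
  have hb3 : W.four.b (W.ι 3) = -1 := by
    rcases W.case with ⟨-, h, -, -⟩ | ⟨hK, -⟩
    · exact h
    · exact absurd h3 (hK 3)
  obtain ⟨a', haF, hda, hba, hqa⟩ := hv.six
  obtain ⟨b', hbF, hdb, hbb, hqb⟩ := hv.nine
  have hd3 : deg (W.ι 3 : Cfsg.IrrCharacter G) = 144 := (Central.deg_facts B W).1 3
  have hF : W.four.F = {(W.ι 3 : Cfsg.IrrCharacter G), a', b', c} := by
    refine (eq_of_subset_of_card_le ?_ ?_).symm
    · intro χ hχ
      simp only [mem_insert, mem_singleton] at hχ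
      rcases hχ with rfl | rfl | rfl | rfl <;> assumption
    · rw [W.four.card_F, card_insert_of_notMem, card_insert_of_notMem, card_pair]
      · intro e; rw [e] at hdb; omega
      · simp only [mem_insert, mem_singleton]
        rintro (e | e) <;> rw [e] at hda <;> omega
      · simp only [mem_insert, mem_singleton]
        rintro (e | e | e) <;> rw [e] at hd3 <;> omega
  exact ⟨{
    W := W, q := q, hq := hq, hqy := hqy, hc := hc, card_q := hv.card
    v0 := hv.v0, v1 := hv.v1, v2 := hv.v2, v3 := hv3, fam_q := hfq, fam_not_mem := hfn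
    mem_three := h3, b_three := hb3, f66 := a', f99 := b', f176 := c
    F_eq := fun χ => by rw [hF]; simp only [mem_insert, mem_singleton]
    h66 := ⟨hda, hba, hqa⟩, h99 := ⟨hdb, hbb, hqb⟩, h176 := ⟨hdc, hbc, hqc⟩
    V_mem := V_two B W hq hqy hc }⟩

end Cfsg.Agent.Lib.RecogThree.M12.Ten
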