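import Cfsg.Agent.Lib.RecogThree.M12.Central

/-!
Simple groups of order `95040`: the centraliser of `y` does not have order `60`.
-/

set_option autoImplicit false
set_option linter.style.haveILetI false
set_option linter.unusedSectionVars false

namespace Cfsg.Agent.Lib.RecogThree.M12.Twelve

open Cfsg.Agent.Lib.Characters Cfsg.Agent.Lib.Characters.Basic
open Cfsg.Agent.Lib.Classif
open Cfsg.Agent.Lib.Classif.FirstPowerData (int_dvd_of_isIntegral)
open Cfsg.Agent.Lib.Classif.PrimeExceptional (deg apply_one_eq)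
open Cfsg.Agent.Lib.RecogThree.M12.Combos
open Cfsg.Agent.Lib.RecogThree.M12.Eleven (Base)
open Cfsg.Agent.Lib.RecogThree.M12.Data5 (Four Five)
open scoped ComplexConjugate
open Finset

universe u

variable {G : Type u} [Group G] [Finite G] [IsSimpleGroup G] [Fact (Nat.Prime 11)] (B : Base G)

theorem signs (W : Five B) : (∀ i, B.D.a (W.ι i : Cfsg.IrrCharacter G) =
      (![1, -1, -1, 1] : Fin 4 → ℤ) i) ∧ B.D.δ = 1 := by
  have key : ∀ i : Fin 4, ((![45, -54, -120, 144] : Fin 4 → ℤ) i).sign =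
      (![1, -1, -1, 1] : Fin 4 → ℤ) i := by decide
  refine ⟨fun i => ?_, ?_⟩
  · have h := (Local11.deg_of_code B.card B.D (W.ι i).2 (B.hf _ (W.ι i).2)).2
    rw [W.hι i] at h
    exact h.trans (key i)
  · have h2 := B.D.degree_eq
    rw [sum_congr rfl B.hf, ← sum_coe_sort B.D.K (fun χ => code (B.f χ)),
      ← W.ι.sum_comp (fun χ => code (B.f χ)), Fin.sum_univ_four, W.hι 0, W.hι 1, W.hι 2,
      W.hι 3, (Central.deg_facts B W).2] at h2
    simp only [Matrix.cons_val] at h2
    omega

/-- The character of degree `54` is not in the family at `5`. -/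
theorem fifty_four_not_mem (W : Five B) : (W.ι 1 : Cfsg.IrrCharacter G) ∉ W.four.F := by
  rcases W.case with ⟨-, -, hK, -⟩ | ⟨hK, -⟩
  · exact hK 1 (by decide)
  · exact hK 1

/-- In `V` a subgroup of order three is unique. -/
theorem unique_three (W : Five B) (hV : Nat.card W.four.V = 12) {q u : G} (hqV : q ∈ W.four.V)
    (hq : orderOf q = 2) (huV : u ∈ W.four.V) (hu : orderOf u = 3) :
    ∀ w ∈ W.four.V, orderOf w = 3 → w = u ∨ w = u⁻¹ := by
  classical
  intro w hwV hw
  by_contra hne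
  push Not at hne
  haveI : Fact (Nat.Prime 3) := ⟨Nat.prime_three⟩
  set V := W.four.V
  haveI := Fintype.ofFinite V
  let u' : V := ⟨u, huV⟩
  let w' : V := ⟨w, hwV⟩
  let q' : V := ⟨q, hqV⟩
  have hu' : orderOf u' = 3 := (Subgroup.orderOf_coe u').symm.trans hu
  have hw' : orderOf w' = 3 := (Subgroup.orderOf_coe w').symm.trans hw
  have hq' : orderOf q' = 2 := (Subgroup.orderOf_coe q').symm.trans hq
  have hcard : ∀ P : Sylow 3 V, Nat.card (P : Subgroup V) = 3 := fun P => by
    rw [SmallGroups.Sylow.card_sylow_eq P (a := 1) (m := 4) (by rw [hV]; norm_num) (by norm_num), pow_one]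
  obtain ⟨Pu, hPu⟩ := (IsPGroup.of_card (G := Subgroup.zpowers u') (p := 3) (n := 1)
    (by rw [Nat.card_zpowers, hu', pow_one])).exists_le_sylow
  obtain ⟨Pw, hPw⟩ := (IsPGroup.of_card (G := Subgroup.zpowers w') (p := 3) (n := 1)
    (by rw [Nat.card_zpowers, hw', pow_one])).exists_le_sylow
  have hPu' : (Pu : Subgroup V) = Subgroup.zpowers u' :=
    (Subgroup.eq_of_le_of_card_ge hPu (by rw [hcard, Nat.card_zpowers, hu'])).symm
  have hPw' : (Pw : Subgroup V) = Subgroup.zpowers w' :=
    (Subgroup.eq_of_le_of_card_ge hPw (by rw [hcard, Nat.card_zpowers, hw'])).symm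
  have hn : Nat.card (Sylow 3 V) = 4 := by
    have h1 : 1 < Nat.card (Sylow 3 V) := by
      rw [Finite.one_lt_card_iff_nontrivial]
      refine ⟨Pu, Pw, fun e => ?_⟩
      have hmem : w' ∈ Subgroup.zpowers u' := by
        rw [← hPu', e, hPw']; exact Subgroup.mem_zpowers w'
      rw [mem_zpowers_iff_mem_range_orderOf, hu', Finset.mem_image] at hmem
      obtain ⟨r, hr, hr'⟩ := hmem
      have hr3 := mem_range.mp hr
      interval_cases r
      · rw [pow_zero] at hr'
        rw [← hr', orderOf_one] at hw'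
        omega
      · exact hne.1 (congrArg Subtype.val (hr'.symm.trans (pow_one u')))
      · refine hne.2 ?_
        have h := congrArg Subtype.val hr'.symm
        rw [show w = _ from h]
        refine eq_inv_of_mul_eq_one_left ?_
        show (u : G) ^ 2 * u = 1
        rw [← pow_succ, show (2 : ℕ) + 1 = 3 from rfl, ← hu, pow_orderOf_eq_one]
    have hm := SmallGroups.Sylow.card_sylow_mod (G := V) (p := 3)
    have hd : Nat.card (Sylow 3 V) ∣ 4 :=
      SmallGroups.Sylow.card_sylow_dvd (p := 3) (a := 1) (by rw [hV]; norm_num) (by norm_num)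
    have := Nat.le_of_dvd (by norm_num) hd
    interval_cases h : Nat.card (Sylow 3 V) <;> omega
  -- `q` does not normalise `⟨u⟩`
  have hnq : q' ∉ Subgroup.normalizer ((Pu : Subgroup V) : Set V) := by
    intro hmem
    have h := SmallGroups.Sylow.card_normalizer_mul Pu
    rw [hn, hV] at h
    have h2 := Subgroup.orderOf_dvd_natCard _ hmem
    rw [hq'] at h2
    omega
  have hncomm : ¬ Commute q' u' := fun hc => hnq (by
    rw [hPu']
    refine Subgroup.mem_normalizer_fintype fun a ha => ?_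
    obtain ⟨k, rfl⟩ := Subgroup.mem_zpowers_iff.mp ha
    rw [(hc.zpow_right k).eq, mul_inv_cancel_right]
    exact Subgroup.zpow_mem_zpowers u' k)
  -- elements of order three
  have h8 : 8 ≤ (univ.filter fun v : V => orderOf v = 3).card := by
    haveI := Fintype.ofFinite (Sylow 3 V)
    have hgen : ∀ P : Sylow 3 V, ∃ g : V, g ∈ (P : Subgroup V) ∧ orderOf g = 3 := fun P => by
      obtain ⟨g, hg⟩ := exists_prime_orderOf_dvd_card' (G := (P : Subgroup V)) 3 (by rw [hcard])
      exact ⟨g, g.2, (Subgroup.orderOf_coe g).trans hg⟩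
    choose g hgP hg using hgen
    have hz : ∀ P : Sylow 3 V, Subgroup.zpowers (g P) = (P : Subgroup V) := fun P =>
      Subgroup.eq_of_le_of_card_ge (Subgroup.zpowers_le.mpr (hgP P))
        (by rw [hcard, Nat.card_zpowers, hg])
    have hle := card_le_card_of_injOn (s := (univ : Finset (Sylow 3 V × Fin 2)))
      (t := univ.filter fun v : V => orderOf v = 3) (fun p => g p.1 ^ (p.2.1 + 1))
      (fun p _ => by
        simp only [mem_coe, mem_filter, mem_univ, true_and]
        rw [orderOf_pow' _ (Nat.succ_ne_zero _), hg]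
        have := p.2.2
        interval_cases h : p.2.1 <;> norm_num)
      (fun p _ r _ e => by
        simp only at e
        have hzp : ∀ p : Sylow 3 V × Fin 2,
            Subgroup.zpowers (g p.1 ^ (p.2.1 + 1)) = (p.1 : Subgroup V) := fun p => by
          refine Subgroup.eq_of_le_of_card_ge (Subgroup.zpowers_le.mpr (pow_mem (hgP p.1) _)) ?_
          rw [hcard, Nat.card_zpowers, orderOf_pow' _ (Nat.succ_ne_zero _), hg]
          have := p.2.2
          interval_cases h : p.2.1 <;> norm_num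
        have h1 : p.1 = r.1 := Sylow.ext (by rw [← hzp p, ← hzp r, e])
        rw [h1, pow_eq_pow_iff_modEq, hg] at e
        refine Prod.ext h1 (Fin.ext ?_)
        have := p.2.2
        have := r.2.2
        unfold Nat.ModEq at e
        omega)
    rw [card_univ, Fintype.card_prod, ← Nat.card_eq_fintype_card, hn, Fintype.card_fin] at hle
    exact hle
  -- the other four
  set q₁ := u' * q' * u'⁻¹ with hq₁
  set q₂ := u'⁻¹ * q' * u' with hq₂
  have hu3 : u' * u' * u' = 1 := by
    rw [← pow_two, ← pow_succ, show (2 : ℕ) + 1 = 3 from rfl, ← hu', pow_orderOf_eq_one]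
  have hinv : ∀ v : V, v = q' ∨ v = q₁ ∨ v = q₂ → orderOf v = 2 := by
    rintro v (rfl | rfl | rfl)
    · exact hq'
    · rw [hq₁, show u' * q' * u'⁻¹ = MulAut.conj u' q' from rfl, MulEquiv.orderOf_eq, hq']
    · rw [hq₂, show u'⁻¹ * q' * u' = MulAut.conj u'⁻¹ q' by simp, MulEquiv.orderOf_eq, hq']
  have hne1 : ∀ v : V, v = q' ∨ v = q₁ ∨ v = q₂ → (1 : V) ≠ v := fun v hv e => by
    have := hinv v hv
    rw [← e, orderOf_one] at this
    omega
  have e01 : q' ≠ q₁ := fun e => hncomm (by
    show q' * u' = u' * q'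
    calc q' * u' = u' * q' * u'⁻¹ * u' := by rw [← hq₁, ← e]
      _ = u' * q' := inv_mul_cancel_right _ _)
  have e02 : q' ≠ q₂ := fun e => hncomm (by
    show q' * u' = u' * q'
    calc q' * u' = u' * (u'⁻¹ * q' * u') := by group
      _ = u' * q' := by rw [← hq₂, ← e])
  have e12 : q₁ ≠ q₂ := fun e => hncomm (by
    rw [hq₁, hq₂] at e
    have hc : Commute (u' * u') q' :=
      calc u' * u' * q' = u' * (u' * q' * u'⁻¹) * u' := by group
        _ = u' * (u'⁻¹ * q' * u') * u' := by rw [e]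
        _ = q' * (u' * u') := by group
    have h4 : u' * u' * (u' * u') = u' := by rw [← mul_assoc, hu3, one_mul]
    exact (h4 ▸ hc.mul_left hc).symm)
  have hn1 : (1 : V) ∉ ({q', q₁, q₂} : Finset V) := by
    simp only [mem_insert, mem_singleton]
    rintro (e | e | e)
    · exact hne1 _ (Or.inl rfl) e
    · exact hne1 _ (Or.inr (Or.inl rfl)) e
    · exact hne1 _ (Or.inr (Or.inr rfl)) e
  have hn2 : q' ∉ ({q₁, q₂} : Finset V) := by simp [e01, e02]
  set S : Finset V := {1, q', q₁, q₂}
  have hScard : S.card = 4 := by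
    rw [card_insert_of_notMem hn1, card_insert_of_notMem hn2, card_pair e12]
  have hdisj : Disjoint S (univ.filter fun v : V => orderOf v = 3) := by
    refine disjoint_left.mpr fun v hv h => ?_
    have h3 := (mem_filter.mp h).2
    simp only [S, mem_insert, mem_singleton] at hv
    rcases hv with rfl | hv
    · rw [orderOf_one] at h3; omega
    · have := hinv v hv; omega
  have hunion : S ∪ (univ.filter fun v : V => orderOf v = 3) = univ := by
    refine eq_univ_of_card _ ?_
    have h1 := card_union_of_disjoint hdisj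
    have h2 := card_le_univ (S ∪ univ.filter fun v : V => orderOf v = 3)
    rw [← Nat.card_eq_fintype_card, hV] at h2 ⊢
    omega
  -- the sum of the values of the character of degree `54`
  set χ := (W.ι 1 : Cfsg.IrrCharacter G)
  have hd : deg χ = 54 := (Central.deg_facts B W).1 1
  have hinvval : ∀ v : V, v = q' ∨ v = q₁ ∨ v = q₂ → (χ : G → ℂ) v = 6 := fun v hv =>
    (Central.values B W ((Subgroup.orderOf_coe v).trans (hinv v hv))
      (Subgroup.mem_centralizer_singleton_iff.mp ((W.four.mem_V v).mp v.2).1)).1.v1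
  have h3val : ∀ v ∈ univ.filter (fun v : V => orderOf v = 3), (χ : G → ℂ) v = 0 := fun v hv => by
    refine DefectZero.apply_eq_zero (n := 3) (r := 3520) (e := 2) (p := 3) Nat.prime_three χ
      (by rw [B.card]; norm_num) (by norm_num) (by rw [apply_one_eq, hd]; norm_num) ?_
    rw [Subgroup.orderOf_coe, (mem_filter.mp hv).2]
  have hint := Budget.others_cong B W.four (χ := χ)
    (fun e => B.D.one_not_mem (e ▸ (W.ι 1).2)) (fifty_four_not_mem B W)
  rw [finsum_eq_sum_of_fintype, ← hunion, sum_union hdisj, sum_congr rfl h3val, sum_const_zero,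
    add_zero, sum_insert hn1, sum_insert hn2, sum_pair e12, OneMemClass.coe_one, apply_one_eq, hd,
    hinvval _ (Or.inl rfl), hinvval _ (Or.inr (Or.inl rfl)),
    hinvval _ (Or.inr (Or.inr rfl))] at hint
  have h72 : (((54 : ℤ) : ℂ) + (6 + (6 + 6))) / ((5 : ℕ) : ℂ) = ((72 : ℤ) : ℂ) / ((5 : ℕ) : ℂ) := by
    norm_num
  rw [h72] at hint
  have := int_dvd_of_isIntegral (n := 5) (by norm_num) hint
  norm_num at this

/-- An exceptional character of degree `16` takes an integral value at an element of order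
three. -/
theorem theta_three (W : Five B) {u : G} (hu : orderOf u = 3) :
    ∃ v : ℤ, (B.D.θ : G → ℂ) u = v ∧ (3 : ℤ) ∣ v - 1 := by
  obtain ⟨hdK, hdθ⟩ := Central.deg_facts B W
  obtain ⟨θ', hθ'⟩ := Basic.exists_pow_char B.D.θ (k := 29) (by rw [B.card]; norm_num)
  have hd' : deg θ' = 16 := by
    have h := hθ' 1
    rw [one_pow, apply_one_eq, apply_one_eq, hdθ] at h
    exact_mod_cast h
  have hfam : θ' ∈ B.D.fam := by
    have h1 : θ' ≠ oneChar G := fun e => by
      rw [e, Data5.deg_oneChar] at hd'; norm_num at hd'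
    rcases Five.cases_x B h1 with ⟨i, hi, -⟩ | h | ⟨-, -, -, h⟩
    · exfalso
      obtain ⟨j, hj⟩ := W.ι.surjective (B.ι i)
      rw [hi, ← hj, hdK] at hd'
      revert hd'; fin_cases j <;> norm_num
    · exact h
    · rw [hd'] at h; norm_num at h
  have hu11 : ¬ 11 ∣ orderOf u := by rw [hu]; norm_num
  have h2 : (B.D.θ : G → ℂ) (u ^ 2) = (B.D.θ : G → ℂ) u := by
    rw [show u ^ 2 = u ^ 29 from pow_eq_pow_iff_modEq.mpr (by rw [hu]; rfl), ← hθ' u,
      B.D.fam_regular θ' hfam u hu11]
  obtain ⟨m, ζ, hm, -, -⟩ := Basic.exists_range_eigen (p := 3) (by norm_num) B.D.θ (y := u)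
    (g := (1 : G)) (hu ▸ pow_orderOf_eq_one u) (Commute.one_left u)
    (a := (B.D.θ : G → ℂ) u) (fun i j hi hi3 => by
      rw [one_pow, one_mul]
      interval_cases i
      · rw [pow_one]
      · exact h2)
  rw [hdθ] at hm
  push_cast at hm
  have hint : IsIntegral ℤ (((3 * (m : ℤ) - 16 : ℤ) : ℂ) / ((2 : ℕ) : ℂ)) := by
    rw [show (((3 * (m : ℤ) - 16 : ℤ) : ℂ) / ((2 : ℕ) : ℂ)) = (B.D.θ : G → ℂ) u by
      push_cast; linear_combination (1 / 2 : ℂ) * hm]
    exact isIntegral_apply (isCharacter_irr _) _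
  obtain ⟨v, hv⟩ := int_dvd_of_isIntegral two_ne_zero hint
  refine ⟨v, ?_, by omega⟩
  have hv' : ((3 * (m : ℤ) - 16 : ℤ) : ℂ) = 2 * (v : ℂ) := by rw [hv]; push_cast; ring
  push_cast at hv'
  linear_combination (1 / 2 : ℂ) * hv' - (1 / 2 : ℂ) * hm

/-- The congruence at five of the exceptional characters of degree `16` at an element of order
three of `V`. -/
theorem theta_five (W : Five B) {u : G} (huV : u ∈ W.four.V) (hu : orderOf u = 3) {v : ℤ}
    (hv : (B.D.θ : G → ℂ) u = v) : (5 : ℤ) ∣ v ∨ (5 : ℤ) ∣ v - 1 := by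
  classical
  obtain ⟨hdK, -⟩ := Central.deg_facts B W
  obtain ⟨ha, hδ⟩ := signs B W
  rcases W.case with ⟨h3, hb3, hK, -⟩ | ⟨-, hfam⟩
  · left
    refine int_dvd_of_isIntegral (n := 5) (by norm_num) ?_
    have huy : Commute u B.y :=
      Subgroup.mem_centralizer_singleton_iff.mp ((W.four.mem_V u).mp huV).1
    have hu5 : ¬ 5 ∣ orderOf u := by rw [hu]; norm_num
    have hmul : ∀ i : Fin 4, ∀ m₀ : ℕ, deg (W.ι i : Cfsg.IrrCharacter G) = ((5 * m₀ : ℕ) : ℤ) →
        IsIntegral ℤ (((W.ι i : Cfsg.IrrCharacter G) : G → ℂ) u / ((5 : ℕ) : ℂ)) := by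
      intro i m₀ hd
      obtain ⟨ζ, hζ, hs⟩ := Five.eigen_sum B (W.ι i : Cfsg.IrrCharacter G) hd huy hu5
      have h := hs 1
      rw [pow_one] at h
      rw [h]
      simp only [pow_one, Nat.cast_ofNat, mul_div_cancel_left₀ _ (by norm_num : (5 : ℂ) ≠ 0)]
      refine IsIntegral.sum _ fun i _ => ?_
      exact IsIntegral.of_pow (orderOf_pos u) (by rw [hζ i]; exact isIntegral_one)
    have h0 := hmul 0 9 (by rw [hdK]; rfl)
    have h2 := hmul 2 24 (by rw [hdK]; rfl)
    have h54 : ((W.ι 1 : Cfsg.IrrCharacter G) : G → ℂ) u = 0 := by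
      refine DefectZero.apply_eq_zero (n := 3) (r := 3520) (e := 2) (p := 3) Nat.prime_three _
        (by rw [B.card]; norm_num) (by norm_num) (by rw [apply_one_eq, hdK]; norm_num) ?_
      rw [hu]
    have h3' := Budget.four_cong B W.four h3 huV
    rw [hb3] at h3'
    have hrel := B.D.rel u (by rw [hu]; norm_num)
    rw [hδ, ← sum_coe_sort B.D.K, ← W.ι.sum_comp, Fin.sum_univ_four, ha 0, ha 1, ha 2, ha 3,
      h54, hv] at hrel
    simp only [Matrix.cons_val] at hrel
    push_cast at hrel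
    have h := (h0.sub h2).add h3'
    rw [show ((v : ℤ) : ℂ) / ((5 : ℕ) : ℂ) =
      ((W.ι 0 : Cfsg.IrrCharacter G) : G → ℂ) u / ((5 : ℕ) : ℂ) -
        ((W.ι 2 : Cfsg.IrrCharacter G) : G → ℂ) u / ((5 : ℕ) : ℂ) +
        (((W.ι 3 : Cfsg.IrrCharacter G) : G → ℂ) u - ((-1 : ℤ) : ℂ)) / ((5 : ℕ) : ℂ) by
      push_cast; linear_combination (-1 / 5 : ℂ) * hrel]
    exact h
  · right
    obtain ⟨hθF, hbθ⟩ := hfam B.D.θ B.D.θ_mem
    refine int_dvd_of_isIntegral (n := 5) (by norm_num) ?_
    have h := Budget.four_cong B W.four hθF huV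
    rw [hbθ, hv] at h
    push_cast at h ⊢
    exact h

theorem ne_twelve (W : Five B) {q : G} (hq : orderOf q = 2) (hqy : Commute q B.y) :
    W.c ≠ 12 := by
  classical
  intro hc
  haveI : Fact (Nat.Prime 3) := ⟨Nat.prime_three⟩
  haveI : Fact (Nat.Prime 5) := ⟨by norm_num⟩
  set V := W.four.V with hVdef
  have hVcard : Nat.card V = 12 := by
    obtain ⟨h1, h2⟩ := Budget.V_card B W
    rw [hc] at h1 h2
    refine Nat.dvd_antisymm h1 ?_
    exact Nat.Coprime.mul_dvd_of_dvd_of_dvd (m := 4) (n := 3) (by norm_num)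
      (h2 4 (by norm_num) 2 Nat.prime_two ⟨2, by norm_num⟩)
      (h2 3 (by norm_num) 3 Nat.prime_three ⟨1, by norm_num⟩)
  have hqV : q ∈ V := (W.four.mem_V q).mpr
    ⟨Subgroup.mem_centralizer_singleton_iff.mpr hqy.eq, by rw [hq]; norm_num⟩
  obtain ⟨⟨u, huV⟩, hu⟩ := exists_prime_orderOf_dvd_card' (G := V) 3 (by rw [hVcard]; norm_num)
  rw [Subgroup.orderOf_mk] at hu
  have huniq := unique_three B W hVcard hqV hq huV hu
  set N := Subgroup.normalizer ((Subgroup.zpowers B.y : Subgroup G) : Set G) with hNdef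
  set Cu := Subgroup.centralizer ({u} : Set G) with hCudef
  have hconj : ∀ g ∈ N, g * u * g⁻¹ = u ∨ g * u * g⁻¹ = u⁻¹ := fun g hg => by
    have ho : orderOf (g * u * g⁻¹) = 3 := by
      rw [show g * u * g⁻¹ = MulAut.conj g u from rfl, MulEquiv.orderOf_eq, hu]
    refine huniq _ ((W.four.mem_V _).mpr ⟨?_, by rw [ho]; norm_num⟩) ho
    exact Normal5.conj_mem_centralizer B hg ((W.four.mem_V u).mp huV).1
  have hCN : Nat.card N ≤ 2 * Nat.card (Cu ⊓ N : Subgroup G) := by
    have hmemC : ∀ g ∈ N, g * u * g⁻¹ = u → g ∈ Cu ⊓ N := fun g hg h =>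
      ⟨Subgroup.mem_centralizer_singleton_iff.mpr (mul_inv_eq_iff_eq_mul.mp h), hg⟩
    by_cases hall : ∀ g ∈ N, g * u * g⁻¹ = u
    · have := Subgroup.card_le_of_le (fun g hg => hmemC g hg (hall g hg) : N ≤ Cu ⊓ N)
      omega
    push Not at hall
    obtain ⟨g₀, hg₀, hg₀'⟩ := hall
    have hg₀u : g₀ * u * g₀⁻¹ = u⁻¹ := (hconj g₀ hg₀).resolve_left hg₀'
    have hfix : ∀ n : N, ¬ (n : G) * u * (n : G)⁻¹ = u → g₀⁻¹ * (n : G) ∈ Cu ⊓ N := fun n hn => by
      refine hmemC _ (mul_mem (inv_mem hg₀) n.2) ?_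
      rw [show g₀⁻¹ * (n : G) * u * (g₀⁻¹ * (n : G))⁻¹ =
        g₀⁻¹ * ((n : G) * u * (n : G)⁻¹) * g₀ by group, (hconj n n.2).resolve_left hn, ← hg₀u]
      group
    let f : N → Fin 2 × (Cu ⊓ N : Subgroup G) := fun n =>
      if h : (n : G) * u * (n : G)⁻¹ = u then (0, ⟨n, hmemC n n.2 h⟩)
      else (1, ⟨g₀⁻¹ * (n : G), hfix n h⟩)
    have hf : Function.Injective f := by
      intro n m e
      simp only [f] at e
      split_ifs at e with h1 h2 h2
      · exact Subtype.ext (congrArg (fun p : Fin 2 × (Cu ⊓ N : Subgroup G) => (p.2 : G)) e)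
      · exact absurd (congrArg Prod.fst e) (by simp)
      · exact absurd (congrArg Prod.fst e) (by simp)
      · exact Subtype.ext (mul_left_cancel
          (congrArg (fun p : Fin 2 × (Cu ⊓ N : Subgroup G) => (p.2 : G)) e))
    have h := Nat.card_le_card_of_injective f hf
    rwa [Nat.card_prod, Nat.card_eq_fintype_card (α := Fin 2), Fintype.card_fin] at h
  have hN240 : Nat.card N = 240 := by rw [W.card_N, hc]
  set k := Nat.card (Cu ⊓ N : Subgroup G) with hk
  have hk' : k = 120 ∨ k = 240 := by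
    have hd : k ∣ 240 := hN240 ▸ Subgroup.card_dvd_of_le inf_le_right
    have := Nat.le_of_dvd (by norm_num) hd
    obtain ⟨j, hj⟩ := hd
    have hkpos : 0 < k := Nat.card_pos
    have : j ≤ 2 := by nlinarith
    interval_cases j <;> omega
  -- `C(u)` contains a subgroup of order nine
  have hyu : Commute u B.y :=
    Subgroup.mem_centralizer_singleton_iff.mp ((W.four.mem_V u).mp huV).1
  have hyCu : B.y ∈ Cu := Subgroup.mem_centralizer_singleton_iff.mpr hyu.eq.symm
  have hRle : Subgroup.zpowers B.y ≤ Cu := Subgroup.zpowers_le.mpr hyCu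
  have h9 : 9 ∣ Nat.card Cu := by
    obtain ⟨P, hP⟩ := (IsPGroup.of_card (G := Subgroup.zpowers u) (p := 3) (n := 1)
      (by rw [Nat.card_zpowers, hu, pow_one])).exists_le_sylow
    have hPcard : Nat.card (P : Subgroup G) = 27 := by
      rw [SmallGroups.Sylow.card_sylow_eq P (a := 3) (m := 3520) (by rw [B.card]; norm_num)
        (by norm_num)]
      norm_num
    have huP : u ∈ (P : Subgroup G) := hP (Subgroup.mem_zpowers u)
    let u' : (P : Subgroup G) := ⟨u, huP⟩
    haveI : Nontrivial (P : Subgroup G) :=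
      Finite.one_lt_card_iff_nontrivial.mp (by rw [hPcard]; norm_num)
    haveI hZnt := P.isPGroup'.center_nontrivial
    set Z := Subgroup.center (P : Subgroup G)
    set H := Z ⊔ Subgroup.zpowers u'
    have hHc : H ≤ Subgroup.centralizer ({u'} : Set (P : Subgroup G)) := by
      refine sup_le ?_ (Subgroup.zpowers_le.mpr (Subgroup.mem_centralizer_singleton_iff.mpr rfl))
      exact fun g hg => Subgroup.mem_centralizer_singleton_iff.mpr
        (Subgroup.mem_center_iff.mp hg u').symm
    have hle : H.map (P : Subgroup G).subtype ≤ Cu := by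
      rintro _ ⟨g, hg, rfl⟩
      exact Subgroup.mem_centralizer_singleton_iff.mpr
        (congrArg Subtype.val (Subgroup.mem_centralizer_singleton_iff.mp (hHc hg)))
    have hd := Subgroup.card_dvd_of_le hle
    rw [Subgroup.card_map_of_injective (Subgroup.subtype_injective _)] at hd
    by_cases hcent : u' ∈ Z
    · have hd27 : (P : Subgroup G) ≤ Cu := fun g hg => Subgroup.mem_centralizer_singleton_iff.mpr
        (congrArg Subtype.val (Subgroup.mem_center_iff.mp hcent ⟨g, hg⟩))
      exact dvd_trans (by norm_num) (hPcard ▸ Subgroup.card_dvd_of_le hd27)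
    · refine dvd_trans ?_ hd
      obtain ⟨n, hn, hn'⟩ := (Nat.dvd_prime_pow Nat.prime_three).mp
        (show Nat.card H ∣ 3 ^ 3 by
          rw [show (3 : ℕ) ^ 3 = 27 by norm_num, ← hPcard]
          exact Subgroup.card_subgroup_dvd_card H)
      rw [hn']
      refine pow_dvd_pow 3 (?_ : 2 ≤ n)
      by_contra hlt
      have hH3 : Nat.card H ≤ 3 := by
        rw [hn']; interval_cases n <;> norm_num
      have hu'o : orderOf u' = 3 := (Subgroup.orderOf_coe u').symm.trans hu
      have heq : Subgroup.zpowers u' = H := Subgroup.eq_of_le_of_card_ge le_sup_right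
        (by rw [Nat.card_zpowers, hu'o]; exact hH3)
      obtain ⟨z, hz⟩ := exists_ne (1 : Z)
      have hzu : (z : (P : Subgroup G)) ∈ Subgroup.zpowers u' :=
        heq ▸ (le_sup_left : Z ≤ H) z.2
      have hz1 : (z : (P : Subgroup G)) ≠ 1 := fun e => hz (Subtype.ext e)
      have hzo : orderOf (z : (P : Subgroup G)) = 3 := by
        have hd3 := Subgroup.orderOf_dvd_natCard _ hzu
        rw [Nat.card_zpowers, hu'o] at hd3
        exact ((Nat.dvd_prime Nat.prime_three).mp hd3).resolve_left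
          fun e => hz1 (orderOf_eq_one_iff.mp e)
      have : Subgroup.zpowers (z : (P : Subgroup G)) = Subgroup.zpowers u' :=
        Subgroup.eq_of_le_of_card_ge (Subgroup.zpowers_le.mpr hzu)
          (by rw [Nat.card_zpowers, Nat.card_zpowers, hzo, hu'o])
      exact hcent ((Subgroup.zpowers_le.mpr z.2 : Subgroup.zpowers (z : (P : Subgroup G)) ≤ Z)
        (this ▸ Subgroup.mem_zpowers u'))
  -- the Sylow five subgroups of `C(u)`
  obtain ⟨R, hR⟩ := (IsPGroup.of_card (G := (Subgroup.zpowers B.y).subgroupOf Cu) (p := 5) (n := 1)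
    (by rw [Nat.card_congr (Subgroup.subgroupOfEquivOfLe hRle).toEquiv, Nat.card_zpowers, B.hy,
      pow_one])).exists_le_sylow
  have hR5 : (R : Subgroup Cu) = (Subgroup.zpowers B.y).subgroupOf Cu := by
    refine (Subgroup.eq_of_le_of_card_ge hR ?_).symm
    rw [Nat.card_congr (Subgroup.subgroupOfEquivOfLe hRle).toEquiv, Nat.card_zpowers, B.hy]
    obtain ⟨n, hn⟩ := R.isPGroup'.exists_card_eq
    have hd : Nat.card (R : Subgroup Cu) ∣ 95040 :=
      (Subgroup.card_subgroup_dvd_card _).trans (B.card ▸ Subgroup.card_subgroup_dvd_card Cu)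
    rw [hn] at hd ⊢
    rcases n with _ | _ | n
    · norm_num
    · norm_num
    · exfalso
      have : 5 ^ 2 ∣ 95040 := (pow_dvd_pow 5 (by omega)).trans hd
      norm_num at this
  have hmul : k * Nat.card (Sylow 5 Cu) = Nat.card Cu := by
    rw [← SmallGroups.Sylow.card_normalizer_mul R, hR5, ← Subgroup.subgroupOf_normalizer_eq hRle,
      ← hNdef, ← Subgroup.inf_subgroupOf_left,
      Nat.card_congr (Subgroup.subgroupOfEquivOfLe inf_le_left).toEquiv]
  have hm5 := SmallGroups.Sylow.card_sylow_mod (G := Cu) (p := 5)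
  have h11 : ¬ 11 ∣ Nat.card Cu := fun hd => by
    haveI : Fact (Nat.Prime 11) := ⟨by norm_num⟩
    obtain ⟨⟨g, hg⟩, hgo⟩ := exists_prime_orderOf_dvd_card' (G := Cu) 11 hd
    rw [Subgroup.orderOf_mk] at hgo
    have h1 := Five.eq_one_of_commute B hgo (Subgroup.mem_centralizer_singleton_iff.mp hg)
      (by rw [hu]; norm_num)
    rw [h1, orderOf_one] at hu
    omega
  have h8640 : Nat.card Cu ∣ 8640 :=
    (((Nat.Prime.coprime_iff_not_dvd (by norm_num)).mpr h11).symm).dvd_of_dvd_mul_left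
      (show Nat.card Cu ∣ 11 * 8640 by
        rw [show 11 * 8640 = Nat.card G by rw [B.card]]
        exact Subgroup.card_subgroup_dvd_card _)
  have h16 : 16 ∣ Nat.card Cu := by
    generalize Nat.card (Sylow 5 Cu) = n at hmul hm5
    rw [← hmul] at h9 h8640 ⊢
    have hn : n ∣ 72 := by
      refine Nat.dvd_of_mul_dvd_mul_left (by norm_num : 0 < 120) ?_
      refine dvd_trans ?_ h8640
      exact Nat.mul_dvd_mul_right (by rcases hk' with e | e <;> rw [e] <;> norm_num) n
    have key : ∀ n ∈ Nat.divisors 72, n % 5 = 1 → n = 1 ∨ 2 ∣ n := by decide +kernel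
    rcases key n (Nat.mem_divisors.mpr ⟨hn, by norm_num⟩) hm5 with rfl | h2
    · exfalso; rcases hk' with e | e <;> rw [e] at h9 <;> norm_num at h9
    · refine dvd_trans (dvd_mul_right 16 15) (dvd_trans ?_ (Nat.mul_dvd_mul_left k h2))
      rcases hk' with e | e <;> rw [e] <;> norm_num
  obtain ⟨v, hv, hv3⟩ := theta_three B W hu
  have hv5 := theta_five B W huV hu hv
  have hlt := Basic.abs_lt B.not_isComm B.D.θ B.D.θ_ne_one
    (fun e => by rw [e, orderOf_one] at hu; omega) hv
  have hdvd := Basic.deg_dvd_index_mul B.D.θ hv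
  rw [(Central.deg_facts B W).2] at hdvd hlt
  rw [← hCudef] at hdvd
  have hidx : Nat.card Cu * Cu.index = 95040 := by rw [Subgroup.card_mul_index, B.card]
  obtain ⟨j, hj⟩ := h16
  have h5940 : (Cu.index : ℤ) ∣ 5940 := by
    have : Cu.index ∣ 5940 := ⟨j, by rw [hj] at hidx; nlinarith⟩
    exact_mod_cast this
  have h4 : (4 : ℤ) ∣ v := by
    have h := hdvd.trans (mul_dvd_mul_right h5940 v)
    omega
  have := abs_lt.mp hlt
  omega

end Cfsg.Agent.Lib.RecogThree.M12.Twelve
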